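import Mathlib
import Cfsg.Agent.H160.QSpin
import Cfsg.Agent.ClassicalGeometry.OrthDickson
import Cfsg.Agent.LieClassical.OrthFinite
import Cfsg.Agent.H193.QuadEmb
import Cfsg.Agent.H955.QSpace
import Cfsg.Agent.AutOrth.Final
import Cfsg.Agent.H454.Reg.Tools
import Cfsg.Agent.H55.OutGen
import Cfsg.Agent.H954.FieldSub
import Cfsg.Agent.H912.Core4
import Cfsg.Agent.H781.Cov9.Perm_m3
import Mathlib.LinearAlgebra.Matrix.GeneralLinearGroup.Card
import Cfsg.Agent.H251.GeoCardC
import Cfsg.Agent.H124.LinCyc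
import Cfsg.Agent.LieClassical.OmegaReindex
import Cfsg.Agent.H365.Zsig
import Cfsg.Agent.H946.ExcNum_m3
import Cfsg.Prelude.Def_Local
import Cfsg.Agent.H898.Rg920.DickA
import Cfsg.Agent.S0799
import Cfsg.Agent.LieClassical.QuadForms
import Cfsg.Agent.LieClassical.OrthForms
import Cfsg.Agent.LieClassical.QuadCount
import Cfsg.Agent.H341.ThreeList_m3
import Cfsg.Agent.H891.Gen.LinRows
import Mathlib.FieldTheory.Finite.GaloisField
import Cfsg.Agent.LieClassical.OrthCore
import Cfsg.Agent.H883.Sub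
import Cfsg.Agent.LieClassical.OrthSimple
import Cfsg.Agent.H16.SN.Glue
import Cfsg.Agent.H533.T5.SporDefs_m3
import Cfsg.Agent.H587.KB8.Geo
import Cfsg.Agent.H198.TriInn
import Cfsg.Agent.H198.SympGamma
import Cfsg.Agent.LieClassical.SympCenter
import Cfsg.Agent.LieClassical.SympPerfect
import Cfsg.Agent.H727.GW.Isom
import Cfsg.Prelude.Def_GeometricClasses
import Cfsg.Prelude.Def_G2
import Cfsg.Agent.H884.ElRows_m3
import Cfsg.Agent.FastGrp
import Cfsg.Agent.Prune
set_option linter.all false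

section
prune_inst 0x7fb4a8f9abb821dfdfff7e77a69ccdfdf9b83fffa4dff9cbbfe021df0bdf4b0009c5238d0be800fe1e86421410e87b03f9ffee7fe26bd87ffffd1ff41ffbff8fedf7b508119488340f3c0ffe03f0778e7f3fffffffffffffffffffffffffffaeffbfffffffff

-- part: H386/Rg/AlphaA
section
prune_inst 0x4357065447de2020000188516322000647c000522004004001ca20f020b0f7e620dc228417fb00c170a9288c14005006001180010425000000e0004004005012080ab16063170ac0c16001f801086000000000000000000000000000000051000000000000
set_option linter.all false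
open scoped Cfsg.Agent.FastGrp

/-!
# S3691, residual cases (alpha), first part (helper386)

`V` elementary abelian, `pr : V → U` surjective with kernel `W`, `|W| = |U| = p ^ n`; `D` acts on `V` and on `U` (`τ`);
`A = ker τ` acts trivially on `W` and `C_V(a) = W` for `1 ≠ a ∈ A`; `|A| < p ^ n`.

* `fix_of_small`, `fix_or` : an automorphism of order dividing `r`, `p` of order `n` modulo `r`;
* `comm_of_pow` : elements of order `r` centralise `A`;
* `sq_le` : `|A| ^ 2 ≤ p ^ n`.
-/

set_option autoImplicit false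
set_option linter.unusedSectionVars false

namespace Cfsg.Agent.H386.Rg

section gen

variable {p n r : ℕ} [hp : Fact p.Prime]

theorem ne_of_ord (hr : r.Prime) (hrn : orderOf (p : ZMod r) = n) (hn : 0 < n) : r ≠ p := by
  rintro rfl
  have := Fact.mk hr
  rw [ZMod.natCast_self] at hrn
  have h1 := pow_orderOf_eq_one (0 : ZMod r)
  rw [hrn, zero_pow hn.ne'] at h1
  exact zero_ne_one h1

theorem card_pow {A : Type*} [AddCommGroup A] [Finite A] (hA : ∀ a : A, p • a = 0) : ∃ j, Nat.card A = p ^ j := by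
  have h1 : IsPGroup p (Multiplicative A) := by
    intro a
    refine ⟨1, ?_⟩
    rw [pow_one]
    exact congrArg Multiplicative.ofAdd (hA (Multiplicative.toAdd a))
  have : Finite (Multiplicative A) := inferInstanceAs (Finite A)
  obtain ⟨j, hj⟩ := IsPGroup.iff_card.1 h1
  exact ⟨j, hj⟩

theorem card_le' {A : Type*} [AddCommGroup A] [Finite A] (S : AddSubgroup A) : Nat.card S ≤ Nat.card A :=
  Nat.card_le_card_of_injective _ Subtype.val_injective

/-- the kernel of the norm of an automorphism `f` with `f ^ r = 1` has order `p ^ j` with `n ∣ j`, no fixed points -/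
theorem norm_ker (hr : r.Prime) (hrn : orderOf (p : ZMod r) = n) (hn : 0 < n) {A : Type*} [AddCommGroup A] [Finite A]
    (hA : ∀ a : A, p • a = 0) (f : A →+ A) (hf : ∀ a, f^[r] a = a) :
    ∃ B : AddSubgroup A, (∃ j, n ∣ j ∧ Nat.card B = p ^ j) ∧ (∀ b ∈ B, f b = b → b = 0) ∧ ∀ a, f a - a ∈ B := by
  classical
  have := Fact.mk hr
  have hrp := ne_of_ord hr hrn hn
  have hadd : ∀ i (a b : A), f^[i] (a + b) = f^[i] a + f^[i] b := by
    intro i
    induction i with
    | zero => intro a b; rfl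
    | succ i ih => intro a b; rw [Function.iterate_succ_apply', Function.iterate_succ_apply',
        Function.iterate_succ_apply', ih, map_add]
  let N : A →+ A := AddMonoidHom.mk' (fun a => ∑ i ∈ Finset.range r, f^[i] a) fun a b => by
    simp only [hadd, Finset.sum_add_distrib]
  have hNa : ∀ a, N a = ∑ i ∈ Finset.range r, f^[i] a := fun a => rfl
  have hNf : ∀ a, N (f a) = N a := by
    intro a
    rw [hNa, hNa]
    have h1 : ∀ i, f^[i] (f a) = f^[i + 1] a := fun i => (Function.iterate_succ_apply f i a).symm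
    simp only [h1]
    have h2 := Finset.sum_range_succ (fun i => f^[i] a) r
    have h3 := Finset.sum_range_succ' (fun i => f^[i] a) r
    rw [h2] at h3
    rw [hf a, Function.iterate_zero, id_eq] at h3
    exact (add_right_cancel h3).symm
  have hfN : ∀ b ∈ N.ker, f b ∈ N.ker := by
    intro b hb
    rw [AddMonoidHom.mem_ker, hNf]
    exact hb
  refine ⟨N.ker, ?_, ?_, ?_⟩
  · obtain ⟨j, hj⟩ := card_pow (p := p) (A := N.ker) fun a => Subtype.ext (hA a)
    refine ⟨j, ?_, hj⟩
    have := Fintype.ofFinite N.ker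
    let g : Function.End N.ker := fun b => ⟨f b, hfN b b.2⟩
    have hgi : ∀ (i : ℕ) (b : N.ker), (((g ^ i) b : N.ker) : A) = f^[i] b := by
      intro i
      induction i with
      | zero => intro b; rfl
      | succ i ih =>
        intro b
        rw [pow_succ', Function.iterate_succ_apply', ← ih]
        rfl
    have hg : g ^ r ^ 1 = 1 := by
      rw [pow_one]
      funext b
      apply Subtype.ext
      rw [hgi]
      exact hf b
    have h1 := Equiv.Perm.card_fixedPoints_modEq hg
    have h2 : Fintype.card g.fixedPoints = 1 := by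
      rw [Fintype.card_eq_one_iff]
      refine ⟨⟨0, ?_⟩, ?_⟩
      · exact Subtype.ext (map_zero f)
      · rintro ⟨b, hb⟩
        apply Subtype.ext
        apply Subtype.ext
        have h3 : f (b : A) = b := congrArg Subtype.val hb
        have h4 : N (b : A) = 0 := b.2
        have h5 : ∀ i, f^[i] (b : A) = b := fun i => Function.iterate_fixed h3 i
        rw [hNa] at h4
        simp only [h5, Finset.sum_const, Finset.card_range] at h4
        have h6 := hA (b : A)
        have h7 : addOrderOf (b : A) ∣ Nat.gcd p r :=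
          Nat.dvd_gcd (addOrderOf_dvd_of_nsmul_eq_zero h6) (addOrderOf_dvd_of_nsmul_eq_zero h4)
        rw [(Nat.coprime_primes hp.out hr).2 hrp.symm, Nat.dvd_one, AddMonoid.addOrderOf_eq_one_iff] at h7
        exact h7
    rw [h2, ← Nat.card_eq_fintype_card, hj, ← ZMod.natCast_eq_natCast_iff, Nat.cast_pow, Nat.cast_one] at h1
    rw [← hrn]
    exact orderOf_dvd_of_pow_eq_one h1
  · intro b hb h3
    have h4 : N b = 0 := hb
    have h5 : ∀ i, f^[i] b = b := fun i => Function.iterate_fixed h3 i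
    rw [hNa] at h4
    simp only [h5, Finset.sum_const, Finset.card_range] at h4
    have h6 := hA b
    have h7 : addOrderOf b ∣ Nat.gcd p r :=
      Nat.dvd_gcd (addOrderOf_dvd_of_nsmul_eq_zero h6) (addOrderOf_dvd_of_nsmul_eq_zero h4)
    rw [(Nat.coprime_primes hp.out hr).2 hrp.symm, Nat.dvd_one, AddMonoid.addOrderOf_eq_one_iff] at h7
    exact h7
  · intro a
    rw [AddMonoidHom.mem_ker, map_sub, hNf, sub_self]

theorem fix_of_small (hr : r.Prime) (hrn : orderOf (p : ZMod r) = n) (hn : 0 < n) {A : Type*} [AddCommGroup A] [Finite A]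
    (hA : ∀ a : A, p • a = 0) (hc : Nat.card A < p ^ n) (f : A →+ A) (hf : ∀ a, f^[r] a = a) (a : A) : f a = a := by
  obtain ⟨B, ⟨j, hj, hB⟩, -, h2⟩ := norm_ker hr hrn hn hA f hf
  have h3 : Nat.card B ≤ Nat.card A := card_le' B
  rw [hB] at h3
  have h4 : j < n := (Nat.pow_lt_pow_iff_right hp.out.one_lt).1 (lt_of_le_of_lt h3 hc)
  have h5 : j = 0 := Nat.eq_zero_of_dvd_of_lt hj h4
  rw [h5, pow_zero] at hB
  have h6 := h2 a
  rw [AddSubgroup.card_eq_one.1 hB, AddSubgroup.mem_bot, sub_eq_zero] at h6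
  exact h6

theorem fix_or (hr : r.Prime) (hrn : orderOf (p : ZMod r) = n) (hn : 0 < n) {A : Type*} [AddCommGroup A] [Finite A]
    (hA : ∀ a : A, p • a = 0) (hc : Nat.card A = p ^ n) (f : A →+ A) (hf : ∀ a, f^[r] a = a) :
    (∀ a, f a = a) ∨ ∀ a, f a = a → a = 0 := by
  obtain ⟨B, ⟨j, hj, hB⟩, h1, h2⟩ := norm_ker hr hrn hn hA f hf
  have h3 : Nat.card B ≤ Nat.card A := card_le' B
  rw [hB, hc] at h3
  have h4 : j ≤ n := (Nat.pow_le_pow_iff_right hp.out.one_lt).1 h3
  rcases Nat.eq_zero_or_pos j with h5 | h5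
  · left
    intro a
    rw [h5, pow_zero] at hB
    have h6 := h2 a
    rw [AddSubgroup.card_eq_one.1 hB, AddSubgroup.mem_bot, sub_eq_zero] at h6
    exact h6
  · right
    have h6 : j = n := le_antisymm h4 (Nat.le_of_dvd h5 hj)
    rw [h6, ← hc] at hB
    have h7 : B = ⊤ := AddSubgroup.eq_top_of_card_eq B hB
    intro a ha
    exact h1 a (by rw [h7]; trivial) ha

/-- `f` without fixed points on `A` of order `p ^ n`: irreducible -/
theorem irr (hr : r.Prime) (hrn : orderOf (p : ZMod r) = n) (hn : 0 < n) {A : Type*} [AddCommGroup A] [Finite A]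
    (hA : ∀ a : A, p • a = 0) (hc : Nat.card A = p ^ n) (f : A →+ A) (hf : ∀ a, f^[r] a = a)
    (hfix : ∀ a, f a = a → a = 0) (S : AddSubgroup A) (hS : ∀ s ∈ S, f s ∈ S) : S = ⊥ ∨ S = ⊤ := by
  by_cases h1 : Nat.card S = p ^ n
  · right
    exact AddSubgroup.eq_top_of_card_eq S (by rw [h1, hc])
  · left
    have h2 : Nat.card S < p ^ n := lt_of_le_of_ne (by rw [← hc]; exact card_le' S) h1
    rw [AddSubgroup.eq_bot_iff_forall]
    intro s hs
    let g : S →+ S := (f.comp S.subtype).codRestrict S fun x => hS x x.2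
    have hgi : ∀ (i : ℕ) (b : S), ((g^[i] b : S) : A) = f^[i] b := by
      intro i
      induction i with
      | zero => intro b; rfl
      | succ i ih =>
        intro b
        rw [Function.iterate_succ_apply', Function.iterate_succ_apply', ← ih]
        rfl
    have h3 := fix_of_small hr hrn hn (A := S) (fun a => Subtype.ext (hA a)) h2 g
      (fun a => Subtype.ext (by rw [hgi]; exact hf a)) ⟨s, hs⟩
    exact hfix s (congrArg Subtype.val h3)

end gen

section act

variable {p n r : ℕ} [hp : Fact p.Prime] {V : Type*} [AddCommGroup V] [Finite V] {U : Type*} [AddCommGroup U]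
  [Module (ZMod p) U] [Finite U] {D : Type*} [Group D] [DistribMulAction D V] {pr : V →+ U}
  {τ : D →* (U ≃ₗ[ZMod p] U)}

/-- the situation: `A = ker τ` -/
structure Sit (p n : ℕ) {V : Type*} [AddCommGroup V] {U : Type*} [AddCommGroup U] [Module (ZMod p) U]
    {D : Type*} [Group D] [DistribMulAction D V] (pr : V →+ U) (τ : D →* (U ≃ₗ[ZMod p] U)) : Prop where
  exp : ∀ v : V, p • v = 0
  cardU : Nat.card U = p ^ n
  pos : 0 < n
  surj : Function.Surjective pr
  act : ∀ (x : D) (v : V), pr (x • v) = τ x (pr v)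
  cardW : Nat.card pr.ker = Nat.card U
  pgrp : IsPGroup p τ.ker
  triv : ∀ a ∈ τ.ker, ∀ w ∈ pr.ker, a • w = w
  fixA : ∀ a ∈ τ.ker, a ≠ 1 → ∀ v : V, a • v = v → v ∈ pr.ker
  lt : Nat.card τ.ker < p ^ n

namespace Sit

variable (h : Sit p n pr τ)

include h

theorem expU (u : U) : p • u = 0 := by
  obtain ⟨v, rfl⟩ := h.surj u
  rw [← map_nsmul, h.exp, map_zero]

/-- `δ a v = a v - v` -/
theorem delta_mem {a : D} (ha : a ∈ τ.ker) (v : V) : a • v - v ∈ pr.ker := by
  rw [AddMonoidHom.mem_ker, map_sub, h.act, MonoidHom.mem_ker.1 ha, LinearEquiv.coe_one, id_eq, sub_self]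

theorem delta_mul {a b : D} (ha : a ∈ τ.ker) (hb : b ∈ τ.ker) (v : V) :
    (a * b) • v - v = (a • v - v) + (b • v - v) := by
  have h1 : a • (b • v - v) = b • v - v := h.triv a ha _ (h.delta_mem hb v)
  rw [smul_sub] at h1
  rw [mul_smul, ← sub_add_sub_cancel (a • b • v) (a • v) v, h1]
  abel

theorem delta_inv {a : D} (ha : a ∈ τ.ker) (v : V) : a⁻¹ • v - v = - (a • v - v) := by
  have h1 := h.delta_mul (τ.ker.inv_mem ha) ha v
  rw [inv_mul_cancel, one_smul, sub_self] at h1
  exact eq_neg_of_add_eq_zero_left h1.symm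

theorem exists_not_mem : ∃ v : V, v ∉ pr.ker := by
  by_contra hcon
  push Not at hcon
  have h1 : ∀ u : U, u = 0 := fun u => by
    obtain ⟨v, rfl⟩ := h.surj u
    exact hcon v
  have h2 : Nat.card U = 1 := by
    rw [Nat.card_eq_one_iff_unique]
    exact ⟨⟨fun a b => by rw [h1 a, h1 b]⟩, ⟨0⟩⟩
  rw [h.cardU] at h2
  exact (Nat.one_lt_pow h.pos.ne' hp.out.one_lt).ne' h2

theorem eq_one {a : D} (ha : a ∈ τ.ker) (h1 : ∀ v : V, a • v = v) : a = 1 := by
  by_contra hne
  obtain ⟨v, hv⟩ := h.exists_not_mem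
  exact hv (h.fixA a ha hne v (h1 v))

/-- `A` is abelian -/
theorem comm {a b : D} (ha : a ∈ τ.ker) (hb : b ∈ τ.ker) : a * b = b * a := by
  have h1 : a * b * (b * a)⁻¹ = 1 := by
    have h2 : a * b * (b * a)⁻¹ ∈ τ.ker := τ.ker.mul_mem (τ.ker.mul_mem ha hb) (τ.ker.inv_mem (τ.ker.mul_mem hb ha))
    refine h.eq_one h2 fun v => ?_
    have h3 := h.delta_mul (τ.ker.mul_mem ha hb) (τ.ker.inv_mem (τ.ker.mul_mem hb ha)) v
    rw [h.delta_inv (τ.ker.mul_mem hb ha), h.delta_mul ha hb, h.delta_mul hb ha] at h3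
    rw [← sub_eq_zero, h3]
    abel
  exact mul_inv_eq_one.1 h1

/-- elements of order dividing `r` centralise `A` -/
theorem comm_of_pow (hr : r.Prime) (hrn : orderOf (p : ZMod r) = n) {x : D} (hx : x ^ r = 1) {a : D} (ha : a ∈ τ.ker) :
    x * a = a * x := by
  classical
  have hfinA : Finite τ.ker := by
    have : Finite (V → V) := inferInstance
    refine Finite.of_injective (fun a : τ.ker => fun v : V => (a : D) • v) ?_
    intro a b hab
    apply Subtype.ext
    have h1 : (a : D) * (b : D)⁻¹ = 1 := by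
      refine h.eq_one (τ.ker.mul_mem a.2 (τ.ker.inv_mem b.2)) fun v => ?_
      have h2 := congrFun hab ((b : D)⁻¹ • v)
      simp only at h2
      rw [mul_smul, h2, smul_inv_smul]
    exact mul_inv_eq_one.1 h1
  -- the additive group of the `δ a`
  let S : AddSubgroup (V →+ V) :=
    { carrier := {f | ∃ a ∈ τ.ker, ∀ v, f v = a • v - v}
      zero_mem' := ⟨1, τ.ker.one_mem, fun v => by simp⟩
      add_mem' := by
        rintro f g ⟨a, ha, hf⟩ ⟨b, hb, hg⟩
        exact ⟨a * b, τ.ker.mul_mem ha hb, fun v => by rw [AddMonoidHom.add_apply, hf, hg, h.delta_mul ha hb]⟩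
      neg_mem' := by
        rintro f ⟨a, ha, hf⟩
        exact ⟨a⁻¹, τ.ker.inv_mem ha, fun v => by rw [AddMonoidHom.neg_apply, hf, h.delta_inv ha]⟩ }
  have hfinVV : Finite (V →+ V) := Finite.of_injective (fun f : V →+ V => (f : V → V)) DFunLike.coe_injective
  have hcS : Nat.card S ≤ Nat.card τ.ker := by
    have h1 : ∀ f : S, ∃ a : τ.ker, ∀ v, (f : V →+ V) v = (a : D) • v - v := fun f => by
      obtain ⟨a, ha, hf⟩ := f.2
      exact ⟨⟨a, ha⟩, hf⟩
    choose g hg using h1
    refine Nat.card_le_card_of_injective g ?_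
    intro f f' hff
    apply Subtype.ext
    ext v
    rw [hg, hg, hff]
  let T : (V →+ V) →+ (V →+ V) :=
    { toFun := fun f => ((DistribSMul.toAddMonoidHom V x).comp f).comp (DistribSMul.toAddMonoidHom V x⁻¹)
      map_zero' := by ext v; simp
      map_add' := fun f g => by ext v; simp }
  have hT : ∀ (f : V →+ V) (v : V), T f v = x • f (x⁻¹ • v) := fun f v => rfl
  have hTS : ∀ f ∈ S, T f ∈ S := by
    rintro f ⟨a, ha, hf⟩
    refine ⟨x * a * x⁻¹, (MonoidHom.normal_ker τ).conj_mem a ha x, fun v => ?_⟩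
    rw [hT, hf, smul_sub, smul_inv_smul, ← mul_smul, ← mul_smul]
  let g : S →+ S := (T.comp S.subtype).codRestrict S fun f => hTS f f.2
  have hgi : ∀ (i : ℕ) (f : S) (v : V), ((g^[i] f : S) : V →+ V) v = x ^ i • (f : V →+ V) ((x ^ i)⁻¹ • v) := by
    intro i
    induction i with
    | zero => intro f v; simp
    | succ i ih =>
      intro f v
      rw [Function.iterate_succ_apply']
      change T ((g^[i] f : S) : V →+ V) v = _
      rw [hT, ih, ← mul_smul, ← mul_smul, pow_succ', mul_inv_rev]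
  have h1 := fix_of_small hr hrn h.pos (A := S) (fun f => Subtype.ext (by
      ext v
      change p • (f : V →+ V) v = 0
      exact h.exp _)) (lt_of_le_of_lt hcS h.lt) g (fun f => Subtype.ext (by
      ext v
      rw [hgi, hx, inv_one, one_smul, one_smul]))
  -- `f = δ a`
  let f : V →+ V := DistribSMul.toAddMonoidHom V a - AddMonoidHom.id V
  have hf : ∀ v, f v = a • v - v := fun v => rfl
  have hfS : f ∈ S := ⟨a, ha, hf⟩
  have h2 : T f = f := congrArg Subtype.val (h1 ⟨f, hfS⟩)
  have h3 : x * a * x⁻¹ * a⁻¹ = 1 := by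
    have h4 : x * a * x⁻¹ ∈ τ.ker := (MonoidHom.normal_ker τ).conj_mem a ha x
    refine h.eq_one (τ.ker.mul_mem h4 (τ.ker.inv_mem ha)) fun v => ?_
    have h5 : (x * a * x⁻¹) • v - v = a • v - v := by
      have h6 := DFunLike.congr_fun h2 v
      rw [hT, hf, hf, smul_sub, smul_inv_smul, ← mul_smul, ← mul_smul] at h6
      exact h6
    have h7 := h.delta_mul h4 (τ.ker.inv_mem ha) v
    rw [h5, h.delta_inv ha, add_neg_cancel, sub_eq_zero] at h7
    exact h7
  have h4 : x * a * x⁻¹ = a := mul_inv_eq_one.1 h3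
  exact mul_inv_eq_iff_eq_mul.1 h4

/-- an element of order `r` acts without fixed points on `U` -/
theorem fpf (hr : r.Prime) (hrn : orderOf (p : ZMod r) = n) {y : D} (hy : orderOf y = r) :
    ∀ u : U, τ y u = u → u = 0 := by
  have hrp := ne_of_ord hr hrn h.pos
  have hit : ∀ (i : ℕ) (u : U), ((τ y : U →ₗ[ZMod p] U) : U →+ U)^[i] u = τ (y ^ i) u := by
    intro i
    induction i with
    | zero => intro u; rw [pow_zero, map_one]; rfl
    | succ i ih =>
      intro u
      rw [Function.iterate_succ_apply', ih, pow_succ', map_mul]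
      rfl
  have h1 := fix_or hr hrn h.pos (A := U) h.expU h.cardU ((τ y : U →ₗ[ZMod p] U) : U →+ U) (fun u => by
    rw [hit, ← hy, pow_orderOf_eq_one, map_one]; rfl)
  rcases h1 with h1 | h1
  · exfalso
    have h2 : y ∈ τ.ker := by
      rw [MonoidHom.mem_ker]
      ext u
      exact h1 u
    obtain ⟨k, hk⟩ := (h.pgrp ⟨y, h2⟩)
    have h3 : y ^ p ^ k = 1 := congrArg Subtype.val hk
    have h4 := orderOf_dvd_of_pow_eq_one h3
    rw [hy] at h4
    exact hrp ((Nat.prime_dvd_prime_iff_eq hr hp.out).1 (hr.dvd_of_dvd_pow h4))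
  · exact h1

/-- and irreducibly -/
theorem irrU (hr : r.Prime) (hrn : orderOf (p : ZMod r) = n) {y : D} (hy : orderOf y = r) (S : AddSubgroup U)
    (hS : ∀ s ∈ S, τ y s ∈ S) : S = ⊥ ∨ S = ⊤ := by
  have hit : ∀ (i : ℕ) (u : U), ((τ y : U →ₗ[ZMod p] U) : U →+ U)^[i] u = τ (y ^ i) u := by
    intro i
    induction i with
    | zero => intro u; rw [pow_zero, map_one]; rfl
    | succ i ih =>
      intro u
      rw [Function.iterate_succ_apply', ih, pow_succ', map_mul]
      rfl
  exact irr hr hrn h.pos (A := U) h.expU h.cardU ((τ y : U →ₗ[ZMod p] U) : U →+ U) (fun u => by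
    rw [hit, ← hy, pow_orderOf_eq_one, map_one]; rfl) (h.fpf hr hrn hy) S hS

/-- `δ a : V → W` is surjective for `1 ≠ a ∈ A` -/
theorem delta_surj {a : D} (ha : a ∈ τ.ker) (ha1 : a ≠ 1) {w : V} (hw : w ∈ pr.ker) : ∃ v : V, a • v - v = w := by
  classical
  let f : V →+ pr.ker := (DistribSMul.toAddMonoidHom V a - AddMonoidHom.id V).codRestrict pr.ker fun v => h.delta_mem ha v
  have hf : ∀ v, ((f v : pr.ker) : V) = a • v - v := fun v => rfl
  have hk : f.ker = pr.ker := by
    ext v
    rw [AddMonoidHom.mem_ker]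
    constructor
    · intro h1
      have h2 : a • v - v = 0 := by rw [← hf, h1]; rfl
      exact h.fixA a ha ha1 v (sub_eq_zero.1 h2)
    · intro h1
      apply Subtype.ext
      rw [hf, h.triv a ha v h1, sub_self]; rfl
  have h1 : Nat.card f.ker * Nat.card f.range = Nat.card V := by
    rw [← Nat.card_congr (QuotientAddGroup.quotientKerEquivRange f).toEquiv, mul_comm]
    exact (AddSubgroup.card_eq_card_quotient_mul_card_addSubgroup f.ker).symm
  have h2 : Nat.card pr.ker * Nat.card U = Nat.card V := by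
    rw [← Nat.card_congr (QuotientAddGroup.quotientKerEquivOfSurjective pr h.surj).toEquiv, mul_comm]
    exact (AddSubgroup.card_eq_card_quotient_mul_card_addSubgroup pr.ker).symm
  rw [hk, ← h2] at h1
  have h3 : Nat.card f.range = Nat.card pr.ker := by
    rw [h.cardW]
    exact Nat.eq_of_mul_eq_mul_left Nat.card_pos h1
  have h4 : f.range = ⊤ := AddSubgroup.eq_top_of_card_eq _ h3
  have h5 : (⟨w, hw⟩ : pr.ker) ∈ f.range := by rw [h4]; trivial
  obtain ⟨v, hv⟩ := h5
  exact ⟨v, congrArg Subtype.val hv⟩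

/-- **`|A| ^ 2 ≤ p ^ n`** -/
theorem sq_le [Finite D] (hr : r.Prime) (hrn : orderOf (p : ZMod r) = n) (hr2 : r ≠ 2) {y : D} (hy : orderOf y = r)
    {Z : Type*} [AddCommGroup Z] (ε : Z →+ Z) (β : V →+ V →+ Z) (hβD : ∀ (x : D) (u v : V), β (x • u) (x • v) = β u v)
    (hβn : ∀ u : V, (∀ w ∈ pr.ker, β u w = 0) → u ∈ pr.ker)
    (hβA : ∀ a ∈ τ.ker, ∀ u v : V, β u (a • v - v) = ε (β v (a • u - u))) :
    Nat.card τ.ker ^ 2 ≤ p ^ n := by
  classical
  have hyr : y ^ r = 1 := by rw [← hy]; exact pow_orderOf_eq_one y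
  have hcy : ∀ a ∈ τ.ker, y * a = a * y := fun a ha => h.comm_of_pow hr hrn hyr ha
  have hdy : ∀ a ∈ τ.ker, ∀ v : V, y • (a • v - v) = a • (y • v) - y • v := by
    intro a ha v
    rw [smul_sub, ← mul_smul, hcy a ha, mul_smul]
  obtain ⟨v₀, hv₀⟩ := h.exists_not_mem
  let Ψ : τ.ker × τ.ker → pr.ker := fun z =>
    ⟨((z.1 : D) • v₀ - v₀) + ((z.2 : D) • (y • v₀) - y • v₀),
      pr.ker.add_mem (h.delta_mem z.1.2 _) (h.delta_mem z.2.2 _)⟩
  have hinj : Function.Injective Ψ := by
    rintro ⟨a, b⟩ ⟨a', b'⟩ hab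
    have h1 : ((a : D) • v₀ - v₀) + ((b : D) • (y • v₀) - y • v₀) =
        ((a' : D) • v₀ - v₀) + ((b' : D) • (y • v₀) - y • v₀) := congrArg Subtype.val hab
    set c : D := a * (a' : D)⁻¹ with hc
    set e : D := b' * (b : D)⁻¹ with he
    have hck : c ∈ τ.ker := τ.ker.mul_mem a.2 (τ.ker.inv_mem a'.2)
    have hek : e ∈ τ.ker := τ.ker.mul_mem b'.2 (τ.ker.inv_mem b.2)
    have h2 : c • v₀ - v₀ = e • (y • v₀) - y • v₀ := by
      rw [hc, he, h.delta_mul a.2 (τ.ker.inv_mem a'.2), h.delta_mul b'.2 (τ.ker.inv_mem b.2),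
        h.delta_inv a'.2, h.delta_inv b.2, ← sub_eq_add_neg, ← sub_eq_add_neg, sub_eq_sub_iff_add_eq_add, h1]
      abel
    -- `θ v = δ c v - δ e (y v)` vanishes
    let θ : V →+ V := (DistribSMul.toAddMonoidHom V c - AddMonoidHom.id V) -
      (DistribSMul.toAddMonoidHom V e - AddMonoidHom.id V).comp (DistribSMul.toAddMonoidHom V y)
    have hθ : ∀ v, θ v = (c • v - v) - (e • (y • v) - y • v) := fun v => rfl
    have hθy : ∀ v, θ (y • v) = y • θ v := by
      intro v
      rw [hθ, hθ, smul_sub, hdy c hck, hdy e hek]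
    have hθW : ∀ w ∈ pr.ker, θ w = 0 := by
      intro w hw
      have hw' : y • w ∈ pr.ker := by rw [AddMonoidHom.mem_ker, h.act, AddMonoidHom.mem_ker.1 hw, map_zero]
      rw [hθ, h.triv c hck w hw, h.triv e hek _ hw', sub_self, sub_self, sub_self]
    have hθ0 : ∀ v, θ v = 0 := by
      have h3 := h.irrU hr hrn hy (θ.ker.map pr) (by
        rintro _ ⟨v, hv, rfl⟩
        refine ⟨y • v, ?_, h.act y v⟩
        change θ (y • v) = 0
        rw [hθy, AddMonoidHom.mem_ker.1 hv, smul_zero])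
      have h4 : θ.ker.map pr ≠ ⊥ := by
        intro h5
        apply hv₀
        have h6 : pr v₀ ∈ θ.ker.map pr := ⟨v₀, by
          change θ v₀ = 0
          rw [hθ, h2, sub_self], rfl⟩
        rw [h5] at h6
        exact h6
      have h5 := h3.resolve_left h4
      intro v
      have h6 : pr v ∈ θ.ker.map pr := by rw [h5]; trivial
      obtain ⟨v', hv', hvv⟩ := h6
      have h7 : v - v' ∈ pr.ker := by rw [AddMonoidHom.mem_ker, map_sub, hvv, sub_self]
      have h8 := hθW _ h7
      rw [map_sub, AddMonoidHom.mem_ker.1 hv', sub_zero] at h8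
      exact h8
    have hce : ∀ v, c • v - v = e • (y • v) - y • v := fun v => sub_eq_zero.1 (hθ0 v)
    -- `e = 1`
    have he1 : e = 1 := by
      by_contra he1
      have k1 : ∀ u v : V, β u (e • (y • v) - y • v) = β (y • u) (e • v - v) := by
        intro u v
        rw [← hce v, hβA c hck, hce u, hβA e hek (y • u) v]
      have k2 : ∀ u v : V, β u (e • (y • v - y⁻¹ • v) - (y • v - y⁻¹ • v)) = 0 := by
        intro u v
        have h3 : β (y • u) (e • v - v) = β u (e • (y⁻¹ • v) - y⁻¹ • v) := by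
          have h4 : e • v - v = y • (e • (y⁻¹ • v) - y⁻¹ • v) := by
            rw [hdy e hek, smul_inv_smul]
          rw [h4, hβD]
        have h5 := k1 u v
        rw [h3] at h5
        have h6 : e • (y • v - y⁻¹ • v) - (y • v - y⁻¹ • v) =
            (e • (y • v) - y • v) - (e • (y⁻¹ • v) - y⁻¹ • v) := by rw [smul_sub]; abel
        rw [h6, map_sub, h5, sub_self]
      have k3 : ∀ v : V, y • v - y⁻¹ • v ∈ pr.ker := by
        intro v
        refine hβn _ fun w hw => ?_
        obtain ⟨u, hu⟩ := h.delta_surj hek he1 hw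
        rw [← hu, hβA e hek, k2, map_zero]
      have k4 : ∀ u : U, τ (y ^ 2) u = u := by
        intro u
        obtain ⟨v, rfl⟩ := h.surj u
        have h3 := k3 (y • v)
        rw [inv_smul_smul, AddMonoidHom.mem_ker, map_sub, ← mul_smul, h.act, sub_eq_zero] at h3
        rw [pow_two]
        exact h3
      have k5 : ∀ u : U, τ y u = u := by
        intro u
        obtain ⟨k, hk⟩ : Odd r := hr.odd_of_ne_two hr2
        have h3 : ∀ i, τ ((y ^ 2) ^ i) u = u := by
          intro i
          induction i with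
          | zero => rw [pow_zero, map_one]; rfl
          | succ i ih =>
            rw [pow_succ, map_mul]
            change τ ((y ^ 2) ^ i) (τ (y ^ 2) u) = u
            rw [k4, ih]
        have h4 : y = (y ^ 2) ^ (k + 1) := by
          rw [← pow_mul, show 2 * (k + 1) = r + 1 from by omega, pow_succ, hyr, one_mul]
        rw [h4, h3]
      obtain ⟨v, hv⟩ := h.exists_not_mem
      exact hv (h.fpf hr hrn hy _ (k5 (pr v)))
    have hc1 : c = 1 := h.eq_one hck fun v => by
      have h3 := hce v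
      rw [he1, one_smul, sub_self, sub_eq_zero] at h3
      exact h3
    have h3 : (a : D) = a' := mul_inv_eq_one.1 hc1
    have h4 : (b' : D) = b := mul_inv_eq_one.1 he1
    rw [Prod.mk.injEq]
    exact ⟨Subtype.ext h3, Subtype.ext h4.symm⟩
  have h1 := Nat.card_le_card_of_injective Ψ hinj
  rw [Nat.card_prod, h.cardW, h.cardU] at h1
  rw [pow_two]
  exact h1

end Sit

end act

end Cfsg.Agent.H386.Rg
end

-- part: H953/O8R/Sys
section
prune_inst 0x4b47041407de002000000859621000064780001020043000000e20f020249ac420d420e003ba00416180a0c000004006001180080024000000400040000010120808054049208a10c26000f000000000000000000000000000000000000010004000000000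
set_option linter.all false
open scoped Cfsg.Agent.FastGrp

-- part: H953/O8R/Data
section
/-!
# S3691, row `PΩ⁺₈(q)`: SPIN: the group theoretic data of `PSp₆(q)` and `Ω₇(q)` (helper953)
-/

set_option autoImplicit false

namespace Cfsg.Agent.H953.O8R

/-- the conjugate `g M g⁻¹` -/
abbrev cj {G : Type*} [Group G] (g : G) (M : Subgroup G) : Subgroup G := M.map (MulAut.conj g).toMonoidHom

/-- rotation data: `t i` of order `> 2`, `L i` perfect, centralising `t i` and containing `t j` (`j ≠ i`); `A`, `B` perfect commuting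
subgroups of `L 0` with normal closure `L 0` -/
structure Rot (G : Type*) [Group G] (n : ℕ) (t : Fin 3 → G) (L : Fin 3 → Subgroup G) (A B : Subgroup G) : Prop where
  pow : ∀ i, t i ^ n = 1
  sq : ∀ i, t i ^ 2 ≠ 1
  perf : ∀ i, ⁅L i, L i⁆ = L i
  cent : ∀ i, ∀ x ∈ L i, x * t i = t i * x
  mem : ∀ i j, i ≠ j → t j ∈ L i
  conj : ∀ i, ∃ g : G, t i = g * t 0 * g⁻¹ ∧ L i = cj g (L 0)
  A_le : A ≤ L 0
  B_le : B ≤ L 0
  comm : ∀ a ∈ A, ∀ b ∈ B, a * b = b * a
  A_perf : ⁅A, A⁆ = A
  B_perf : ⁅B, B⁆ = B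
  A_top : ∀ N : Subgroup G, N ≤ L 0 → (∀ g ∈ L 0, ∀ x ∈ N, g * x * g⁻¹ ∈ N) → A ≤ N → N = L 0
  B_top : ∀ N : Subgroup G, N ≤ L 0 → (∀ g ∈ L 0, ∀ x ∈ N, g * x * g⁻¹ ∈ N) → B ≤ N → N = L 0

/-- data of `PSp₆(q)`: `M i = Sp(⟨e i, f i⟩)`, `L i = Sp(⟨e i, f i⟩^⊥)` -/
structure DSp (G : Type*) [Group G] (n : ℕ) (t : Fin 3 → G) (L M : Fin 3 → Subgroup G) : Prop where
  rot : Rot G n t L (M 1) (M 2)
  perf : ∀ i, ⁅M i, M i⁆ = M i
  mem : ∀ i, t i ∈ M i
  cent : ∀ i, ∀ x ∈ L i, ∀ y ∈ M i, x * y = y * x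
  le : ∀ i j, i ≠ j → M j ≤ L i
  top : L 0 ⊔ L 1 = ⊤

/-- data of `Ω₇(q)`, `q` odd: `M = Ω(U)`, `U = Π₀ ⊥ ⟨e⟩` nondegenerate of dimension three, `U^⊥ = Π₁ ⊥ Π₂` of plus type, the `Π i`
anisotropic planes, `t i ∈ Ω(Π i)`, `L i = Ω((Π i)^⊥)` -/
structure DOm (G : Type*) [Group G] (n : ℕ) (t : Fin 3 → G) (L : Fin 3 → Subgroup G) (A B M : Subgroup G) (s : G) (k : ℕ)
    (g : Fin 5 → G) : Prop where
  rot : Rot G n t L A B
  perf : ⁅M, M⁆ = M
  mem : t 0 ∈ M
  le₁ : M ≤ L 1
  le₂ : M ≤ L 2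
  M_top : ∀ N : Subgroup G, N ≤ M → (∀ g ∈ M, ∀ x ∈ N, g * x * g⁻¹ ∈ N) → t 0 ∈ N → N = M
  odd : Odd k
  s_pow : s ^ k = 1
  s_comm : ∀ x ∈ M, ∀ y ∈ M, x * (s * y * s⁻¹) = (s * y * s⁻¹) * x
  g_zero : g 0 = 1
  link : ∀ i : Fin 5, i ≠ 0 → ∃ j < i, ∃ x ∈ cj (g i) M, x ∈ cj (g j) M ∧ x ^ 2 ≠ 1
  top : ⨆ i, cj (g i) M = ⊤

end Cfsg.Agent.H953.O8R
end

-- part: H953/O8R/Lab
section
/-!
# S3691, row `PΩ⁺₈(q)`: SPIN: two commuting perfect groups on a space of dimension `≤ 3` (helper953)
-/

set_option autoImplicit false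
set_option linter.unusedSectionVars false

namespace Cfsg.Agent.H953.O8R

open Module

section rep

variable {E W G : Type*} [Field E] [AddCommGroup W] [Module E W] [Group G]

/-- a perfect group with commutative image acts trivially -/
theorem triv_of_comm (hG : commutator G = ⊤) (ρ : G →* Module.End E W) (h : ∀ a b, ρ a * ρ b = ρ b * ρ a) (g : G) :
    ρ g = 1 := by
  have h1 : commutator G ≤ ρ.ker := by
    rw [commutator_def, Subgroup.commutator_le]
    intro a _ b _
    rw [MonoidHom.mem_ker, commutatorElement_def, map_mul, map_mul, map_mul, h a b, mul_assoc (ρ b), ← map_mul ρ a,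
      mul_inv_cancel, map_one, mul_one, ← map_mul, mul_inv_cancel, map_one]
  have h2 : g ∈ commutator G := by rw [hG]; exact Subgroup.mem_top g
  exact h1 h2

theorem unip (hG : commutator G = ⊤) (ρ : G →* Module.End E W) (H : Submodule E W) (h1 : ∀ g, ∀ x ∈ H, ρ g x = x)
    (h2 : ∀ g w, ρ g w - w ∈ H) (g : G) : ρ g = 1 := by
  refine triv_of_comm hG ρ (fun a b => LinearMap.ext fun w => ?_) g
  rw [Module.End.mul_apply, Module.End.mul_apply]
  have e1 : ρ a (ρ b w) = ρ a w + (ρ b w - w) := by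
    have h3 := h1 a _ (h2 b w)
    rw [map_sub] at h3
    rw [← h3]
    abel
  have e2 : ρ b (ρ a w) = ρ b w + (ρ a w - w) := by
    have h3 := h1 b _ (h2 a w)
    rw [map_sub] at h3
    rw [← h3]
    abel
  rw [e1, e2]
  abel

/-- restriction to an invariant subspace -/
def subRep (ρ : G →* Module.End E W) (H : Submodule E W) (hH : ∀ g, ∀ x ∈ H, ρ g x ∈ H) : G →* Module.End E H where
  toFun g := (ρ g).restrict (hH g)
  map_one' := LinearMap.ext fun x => Subtype.ext (LinearMap.congr_fun (map_one ρ) x)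
  map_mul' a b := LinearMap.ext fun x => Subtype.ext (LinearMap.congr_fun (map_mul ρ a b) x)

/-- action on the quotient by an invariant subspace -/
def quotRep (ρ : G →* Module.End E W) (H : Submodule E W) (hH : ∀ g, ∀ x ∈ H, ρ g x ∈ H) : G →* Module.End E (W ⧸ H) where
  toFun g := H.mapQ H (ρ g) (hH g)
  map_one' := by
    refine Submodule.linearMap_qext _ (LinearMap.ext fun x => ?_)
    simp only [_root_.map_one, _root_.LinearMap.coe_comp, _root_.Function.comp_apply, _root_.Submodule.mkQ_apply, _root_.Submodule.mapQ_apply, _root_.Module.End.one_apply]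
  map_mul' a b := by
    refine Submodule.linearMap_qext _ (LinearMap.ext fun x => ?_)
    simp only [_root_.map_mul, _root_.LinearMap.coe_comp, _root_.Function.comp_apply, _root_.Submodule.mkQ_apply, _root_.Submodule.mapQ_apply, _root_.Module.End.mul_apply]

theorem quotRep_mk (ρ : G →* Module.End E W) (H : Submodule E W) (hH : ∀ g, ∀ x ∈ H, ρ g x ∈ H) (g : G) (x : W) :
    quotRep ρ H hH g (H.mkQ x) = H.mkQ (ρ g x) := rfl

theorem comm_of_finrank_le_one [FiniteDimensional E W] (h : finrank E W ≤ 1) (x y : Module.End E W) : x * y = y * x := by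
  obtain ⟨v, hv⟩ := finrank_le_one_iff.1 h
  obtain ⟨c, hc⟩ := hv (x v)
  obtain ⟨d, hd⟩ := hv (y v)
  refine LinearMap.ext fun w => ?_
  obtain ⟨e, rfl⟩ := hv w
  rw [Module.End.mul_apply, Module.End.mul_apply, map_smul, map_smul, map_smul, map_smul, ← hc, ← hd, map_smul, map_smul, ← hc,
    ← hd, smul_comm c d]

/-- **Schur** -/
theorem schur [Finite E] [FiniteDimensional E W] {A B : Type*} [Group A] [Group B] (ρA : A →* Module.End E W)
    (ρB : B →* Module.End E W) (hc : ∀ a b w, ρA a (ρB b w) = ρB b (ρA a w)) (hB : commutator B = ⊤)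
    (hirr : ∀ H : Submodule E W, (∀ a, ∀ x ∈ H, ρA a x ∈ H) → H = ⊥ ∨ H = ⊤) (b : B) : ρB b = 1 := by
  rcases subsingleton_or_nontrivial W with hW | hW
  · exact LinearMap.ext fun w => Subsingleton.elim _ _
  have hfW : Finite W := Module.finite_of_finite E
  have hfE : Finite (Module.End E W) :=
    Finite.of_injective (fun f => (f : W → W)) DFunLike.coe_injective
  have hdom : NoZeroDivisors (Subring.centralizer (Set.range ρA)) := by
    refine ⟨fun {x y} hxy => ?_⟩
    by_cases hx : x = 0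
    · exact Or.inl hx
    right
    have hxc : ∀ a w, ρA a ((x : Module.End E W) w) = (x : Module.End E W) (ρA a w) := fun a w =>
      LinearMap.congr_fun (Subring.mem_centralizer_iff.1 x.2 _ ⟨a, rfl⟩) w
    have hker : LinearMap.ker (x : Module.End E W) = ⊥ := by
      rcases hirr (LinearMap.ker (x : Module.End E W)) (fun a w hw => by
        rw [LinearMap.mem_ker] at hw ⊢
        rw [← hxc, hw, map_zero]) with h | h
      · exact h
      · exact absurd (Subtype.ext (LinearMap.ker_eq_top.1 h)) hx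
    refine Subtype.ext (LinearMap.ext fun w => ?_)
    have h1 : (x : Module.End E W) ((y : Module.End E W) w) = 0 := by
      have h2 : ((x * y : Subring.centralizer (Set.range ρA)) : Module.End E W) w = 0 := by rw [hxy]; rfl
      exact h2
    have h3 : (y : Module.End E W) w ∈ LinearMap.ker (x : Module.End E W) := h1
    rw [hker, Submodule.mem_bot] at h3
    exact h3
  have hnt : Nontrivial (Subring.centralizer (Set.range ρA)) := by
    refine ⟨0, 1, fun h => ?_⟩
    have h1 : (0 : Module.End E W) = 1 := congrArg Subtype.val h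
    exact zero_ne_one h1
  have hD : (IsDomain (Subring.centralizer (Set.range ρA)) :) := NoZeroDivisors.to_isDomain _
  have hF := Finite.isDomain_to_isField (Subring.centralizer (Set.range ρA))
  have hm : ∀ b, ρB b ∈ Subring.centralizer (Set.range ρA) := by
    intro b
    rw [Subring.mem_centralizer_iff]
    rintro _ ⟨a, rfl⟩
    exact LinearMap.ext fun w => hc a b w
  refine triv_of_comm hB ρB (fun b c => ?_) b
  exact congrArg Subtype.val ((hF.mul_comm ⟨ρB b, hm b⟩ ⟨ρB c, hm c⟩ :))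

end rep

section lab

variable {E A B : Type*} [Field E] [Finite E] [Group A] [Group B]

theorem lab_step {W : Type*} [AddCommGroup W] [Module E W] {H : Submodule E W} {G : Type*} [Group G]
    (hG : commutator G = ⊤) (ρ : G →* Module.End E W) (hH : ∀ g, ∀ x ∈ H, ρ g x ∈ H)
    (h1 : ∀ g, subRep ρ H hH g = 1) (h2 : ∀ g, quotRep ρ H hH g = 1) : ∀ g, ρ g = 1 := by
  refine unip hG ρ H (fun g x hx => ?_) (fun g w => ?_)
  · have := LinearMap.congr_fun (h1 g) ⟨x, hx⟩
    exact congrArg Subtype.val this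
  · have := LinearMap.congr_fun (h2 g) (H.mkQ w)
    rw [quotRep_mk, Module.End.one_apply, ← sub_eq_zero, ← map_sub, Submodule.mkQ_apply, Submodule.Quotient.mk_eq_zero] at this
    exact this

universe u

/-- **two commuting perfect groups on a space of dimension `≤ 3`: one of them acts trivially** -/
theorem lab (hA : commutator A = ⊤) (hB : commutator B = ⊤) (n : ℕ) : n ≤ 3 → ∀ (W : Type u) [AddCommGroup W] [Module E W]
    [FiniteDimensional E W], finrank E W = n → ∀ (ρA : A →* Module.End E W) (ρB : B →* Module.End E W),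
    (∀ a b w, ρA a (ρB b w) = ρB b (ρA a w)) → (∀ a, ρA a = 1) ∨ (∀ b, ρB b = 1) := by
  induction n using Nat.strong_induction_on with
  | _ n ih =>
  intro hn W _ _ _ hW ρA ρB hc
  by_cases h1 : n ≤ 1
  · exact Or.inl (triv_of_comm hA ρA fun a b => comm_of_finrank_le_one (by omega) _ _)
  by_cases hirr : ∀ H : Submodule E W, (∀ a, ∀ x ∈ H, ρA a x ∈ H) → H = ⊥ ∨ H = ⊤
  · exact Or.inr (schur ρA ρB hc hB hirr)
  -- it suffices to find a proper subspace invariant under both
  have key : ∀ H : Submodule E W, H ≠ ⊥ → H ≠ ⊤ → (∀ a, ∀ x ∈ H, ρA a x ∈ H) → (∀ b, ∀ x ∈ H, ρB b x ∈ H) →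
      (∀ a, ρA a = 1) ∨ (∀ b, ρB b = 1) := by
    intro H h0 h1 hHA hHB
    have hd := H.finrank_quotient_add_finrank
    have hd0 : 0 < finrank E H := Nat.pos_of_ne_zero fun h => h0 (Submodule.finrank_eq_zero.1 h)
    have hd1 : finrank E H < n := by
      rw [← hW]
      exact Submodule.finrank_lt h1
    rw [hW] at hd
    by_cases h2 : finrank E H ≤ 1
    · have tA := triv_of_comm hA (subRep ρA H hHA) fun a b => comm_of_finrank_le_one h2 _ _
      have tB := triv_of_comm hB (subRep ρB H hHB) fun a b => comm_of_finrank_le_one h2 _ _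
      rcases ih (finrank E (W ⧸ H)) (by omega) (by omega) (W ⧸ H) rfl (quotRep ρA H hHA) (quotRep ρB H hHB)
        (fun a b w => by
          obtain ⟨w, rfl⟩ := H.mkQ_surjective w
          rw [quotRep_mk, quotRep_mk, quotRep_mk, quotRep_mk, hc]) with h | h
      · exact Or.inl (lab_step hA ρA hHA tA h)
      · exact Or.inr (lab_step hB ρB hHB tB h)
    · have h3 : finrank E (W ⧸ H) ≤ 1 := by omega
      have tA := triv_of_comm hA (quotRep ρA H hHA) fun a b => comm_of_finrank_le_one h3 _ _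
      have tB := triv_of_comm hB (quotRep ρB H hHB) fun a b => comm_of_finrank_le_one h3 _ _
      rcases ih (finrank E H) (by omega) (by omega) H rfl (subRep ρA H hHA) (subRep ρB H hHB)
        (fun a b w => Subtype.ext (hc a b w)) with h | h
      · exact Or.inl (lab_step hA ρA hHA h tA)
      · exact Or.inr (lab_step hB ρB hHB h tB)
  push Not at hirr
  obtain ⟨H, hH, h0, h2⟩ := hirr
  by_cases h3 : finrank E H ≤ 1
  · -- the fixed space
    have tA := triv_of_comm hA (subRep ρA H hH) fun a b => comm_of_finrank_le_one h3 _ _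
    let C : Submodule E W :=
      { carrier := {w | ∀ a, ρA a w = w}
        add_mem' := fun {x y} hx hy a => by rw [map_add, hx a, hy a]
        zero_mem' := fun a => map_zero _
        smul_mem' := fun c x hx a => by rw [map_smul, hx a] }
    have hCH : H ≤ C := fun x hx a => congrArg Subtype.val (LinearMap.congr_fun (tA a) ⟨x, hx⟩)
    by_cases hC : C = ⊤
    · left
      intro a
      refine LinearMap.ext fun w => ?_
      have : w ∈ C := by rw [hC]; exact Submodule.mem_top
      exact this a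
    refine key C (fun h => h0 (le_bot_iff.1 (h ▸ hCH))) hC (fun a x hx => ?_) (fun b x hx a => ?_)
    · rw [hx a]; exact hx
    · rw [hc, hx a]
  · have hd := H.finrank_quotient_add_finrank
    have h4 : finrank E (W ⧸ H) ≤ 1 := by omega
    have tA := triv_of_comm hA (quotRep ρA H hH) fun a b => comm_of_finrank_le_one h4 _ _
    have hsub : ∀ a w, ρA a w - w ∈ H := by
      intro a w
      have := LinearMap.congr_fun (tA a) (H.mkQ w)
      rw [quotRep_mk, Module.End.one_apply, ← sub_eq_zero, ← map_sub, Submodule.mkQ_apply, Submodule.Quotient.mk_eq_zero] at this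
      exact this
    have hCH : Submodule.span E {x : W | ∃ a w, x = ρA a w - w} ≤ H := by
      rw [Submodule.span_le]
      rintro _ ⟨a, w, rfl⟩
      exact hsub a w
    by_cases hC : Submodule.span E {x : W | ∃ a w, x = ρA a w - w} = ⊥
    · left
      intro a
      refine LinearMap.ext fun w => ?_
      have : ρA a w - w ∈ Submodule.span E {x : W | ∃ a w, x = ρA a w - w} := Submodule.subset_span ⟨a, w, rfl⟩
      rw [hC, Submodule.mem_bot, sub_eq_zero] at this
      exact this
    refine key _ hC (fun h => h2 (top_le_iff.1 (h ▸ hCH))) (fun a x hx => ?_) (fun b x hx => ?_)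
    · have h5 : ρA a x - x ∈ Submodule.span E {x : W | ∃ a w, x = ρA a w - w} := Submodule.subset_span ⟨a, x, rfl⟩
      have h6 := Submodule.add_mem _ h5 hx
      rwa [sub_add_cancel] at h6
    · induction hx using Submodule.span_induction with
      | mem x hx =>
        obtain ⟨a, w, rfl⟩ := hx
        refine Submodule.subset_span ⟨a, ρB b w, ?_⟩
        rw [map_sub, hc]
      | zero => rw [map_zero]; exact Submodule.zero_mem _
      | add x y _ _ hx hy => rw [map_add]; exact Submodule.add_mem _ hx hy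
      | smul c x _ hx => rw [map_smul]; exact Submodule.smul_mem _ _ hx

end lab

end Cfsg.Agent.H953.O8R
end

-- part: H953/O8R/Lab2
section
/-!
# S3691, row `PΩ⁺₈(q)`: SPIN: the lemma on two commuting groups over `F[z]` (helper953)
-/

set_option autoImplicit false
set_option linter.unusedSectionVars false

namespace Cfsg.Agent.H953.O8R

open Module Polynomial

variable {F : Type} [Field F] [Finite F] {A B : Type} [Group A] [Group B]

/-- two commuting perfect groups which centralise `z`, `z² = c z - 1` irreducible, on a space of dimension `≤ 7` -/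
theorem lab6 (hA : commutator A = ⊤) (hB : commutator B = ⊤) {U : Type} [AddCommGroup U] [Module F U] [FiniteDimensional F U]
    (hU : finrank F U ≤ 7) {z : Module.End F U} {c : F} (hirr : ∀ x : F, x * x - c * x + 1 ≠ 0)
    (hz : ∀ v, z (z v) = c • z v - v) (ρA : A →* Module.End F U) (ρB : B →* Module.End F U)
    (hc : ∀ a b w, ρA a (ρB b w) = ρB b (ρA a w)) (hAz : ∀ a w, ρA a (z w) = z (ρA a w))
    (hBz : ∀ b w, ρB b (z w) = z (ρB b w)) : (∀ a, ρA a = 1) ∨ (∀ b, ρB b = 1) := by
  have hdeg : (X ^ 2 - C c * X + 1 : F[X]).natDegree = 2 := by compute_degree!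
  have hI : Irreducible (X ^ 2 - C c * X + 1 : F[X]) := by
    refine irreducible_of_degree_le_three_of_not_isRoot (by rw [hdeg]; simp) fun x hx => hirr x ?_
    have h1 : (X ^ 2 - C c * X + 1 : F[X]).eval x = 0 := hx
    simp only [eval_add, eval_sub, eval_pow, eval_X, eval_mul, eval_C, eval_one] at h1
    rw [← h1]
    ring
  have hfact : Fact (Irreducible (X ^ 2 - C c * X + 1 : F[X])) := ⟨hI⟩
  have hz' : Polynomial.aeval z (X ^ 2 - C c * X + 1 : F[X]) = 0 := by
    refine LinearMap.ext fun v => ?_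
    simp only [map_add, map_sub, map_pow, aeval_X, map_mul, aeval_C, map_one, LinearMap.add_apply, LinearMap.sub_apply,
      Module.End.mul_apply, Module.algebraMap_end_apply, Module.End.one_apply, LinearMap.zero_apply, pow_two, hz]
    abel
  obtain ⟨f, hf⟩ : ∃ f : F[X], f = X ^ 2 - C c * X + 1 := ⟨_, rfl⟩
  rw [← hf] at hdeg hI hfact hz'
  let φ : AdjoinRoot f →+* Module.End F U := Ideal.Quotient.lift (Ideal.span {f})
    ((Polynomial.aeval z : F[X] →ₐ[F] Module.End F U) : F[X] →+* Module.End F U) (by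
      intro a ha
      obtain ⟨b, rfl⟩ := Ideal.mem_span_singleton'.1 ha
      show Polynomial.aeval z (b * f) = 0
      rw [map_mul, hz', mul_zero])
  have hφ : ∀ g : F[X], φ (AdjoinRoot.mk f g) = Polynomial.aeval z g := fun g => rfl
  let _ : Module (AdjoinRoot f) U := Module.compHom U φ
  have hsm : ∀ (e : AdjoinRoot f) (u : U), e • u = φ e u := fun e u => rfl
  have : IsScalarTower F (AdjoinRoot f) U := ⟨fun a e u => by
    obtain ⟨g, rfl⟩ := AdjoinRoot.mk_surjective e
    rw [hsm, hsm, hφ]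
    have h1 : a • AdjoinRoot.mk f g = AdjoinRoot.mk f (a • g) := rfl
    rw [h1, hφ, map_smul, LinearMap.smul_apply]⟩
  have hfin2 : finrank F (AdjoinRoot f) = 2 := by
    rw [← hdeg]
    exact finrank_quotient_span_eq_natDegree
  have hfd : FiniteDimensional F (AdjoinRoot f) := FiniteDimensional.of_finrank_pos (by rw [hfin2]; norm_num)
  have hfinE : Finite (AdjoinRoot f) := Module.finite_of_finite F
  have hfdU : FiniteDimensional (AdjoinRoot f) U := FiniteDimensional.right F (AdjoinRoot f) U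
  have hmul : finrank F (AdjoinRoot f) * finrank (AdjoinRoot f) U = finrank F U := Module.finrank_mul_finrank F (AdjoinRoot f) U
  rw [hfin2] at hmul
  -- linearity
  have hlin : ∀ y : Module.End F U, (∀ w, y (z w) = z (y w)) → ∀ (e : AdjoinRoot f) (u : U), y (e • u) = e • y u := by
    intro y hy e u
    obtain ⟨g, rfl⟩ := AdjoinRoot.mk_surjective e
    rw [hsm, hsm, hφ]
    have h1 : Algebra.adjoin F {z} ≤ Subalgebra.centralizer F {y} := by
      refine Algebra.adjoin_le ?_
      rw [Set.singleton_subset_iff, SetLike.mem_coe, Subalgebra.mem_centralizer_iff]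
      intro x hx
      rw [Set.mem_singleton_iff] at hx
      rw [hx]
      exact LinearMap.ext hy
    have h2 : Polynomial.aeval z g ∈ Subalgebra.centralizer F {y} :=
      h1 (Polynomial.aeval_mem_adjoin_singleton F z)
    rw [Subalgebra.mem_centralizer_iff] at h2
    exact LinearMap.congr_fun (h2 y rfl) u
  let ρA' : A →* Module.End (AdjoinRoot f) U :=
    { toFun := fun a => { toFun := ρA a, map_add' := map_add _, map_smul' := fun e u => hlin _ (hAz a) e u }
      map_one' := LinearMap.ext fun u => LinearMap.congr_fun (map_one ρA) u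
      map_mul' := fun a b => LinearMap.ext fun u => LinearMap.congr_fun (map_mul ρA a b) u }
  let ρB' : B →* Module.End (AdjoinRoot f) U :=
    { toFun := fun a => { toFun := ρB a, map_add' := map_add _, map_smul' := fun e u => hlin _ (hBz a) e u }
      map_one' := LinearMap.ext fun u => LinearMap.congr_fun (map_one ρB) u
      map_mul' := fun a b => LinearMap.ext fun u => LinearMap.congr_fun (map_mul ρB a b) u }
  rcases lab hA hB (finrank (AdjoinRoot f) U) (by omega) U rfl ρA' ρB' hc with h | h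
  · exact Or.inl fun a => LinearMap.ext fun u => LinearMap.congr_fun (h a) u
  · exact Or.inr fun b => LinearMap.ext fun u => LinearMap.congr_fun (h b) u

end Cfsg.Agent.H953.O8R
end

-- part: H953/O8R/Sys
section
/-!
# S3691, row `PΩ⁺₈(q)`: SPIN: projective representations and perfect lifts (helper953)
-/

set_option autoImplicit false
set_option linter.unusedSectionVars false

namespace Cfsg.Agent.H953.O8R

open Module QuadraticMap
open scoped commutatorElement

section hat

variable {Γ T : Type} [Group Γ] [Group T]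

/-- the lift `[π⁻¹ M, π⁻¹ M]` of a perfect subgroup -/
def hat (π : Γ →* T) (M : Subgroup T) : Subgroup Γ := ⁅M.comap π, M.comap π⁆

variable {π : Γ →* T} {M M' : Subgroup T}

theorem hat_le : hat π M ≤ M.comap π := Subgroup.commutator_le_self _

theorem mem_of_hat {x : Γ} (hx : x ∈ hat π M) : π x ∈ M := hat_le hx

theorem hat_mono (h : M ≤ M') : hat π M ≤ hat π M' := Subgroup.commutator_mono (Subgroup.comap_mono h) (Subgroup.comap_mono h)

theorem hat_map (hs : Function.Surjective π) (hM : ⁅M, M⁆ = M) : (hat π M).map π = M := by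
  rw [hat, Subgroup.map_commutator, Subgroup.map_comap_eq_self_of_surjective hs, hM]

theorem exists_hat (hs : Function.Surjective π) (hM : ⁅M, M⁆ = M) {y : T} (hy : y ∈ M) : ∃ x ∈ hat π M, π x = y := by
  rw [← hat_map hs hM] at hy
  exact hy

/-- an element whose image centralises `M` centralises the lift -/
theorem hat_comm (hz : ∀ z, π z = 1 → ∀ g, g * z = z * g) {x : Γ} (hx : ∀ m ∈ M, π x * m = m * π x) {y : Γ} (hy : y ∈ hat π M) :
    x * y = y * x := by
  have h1 : hat π M ≤ Subgroup.centralizer {x} := by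
    rw [hat, Subgroup.commutator_le]
    intro a ha b hb
    have key : ∀ a, a ∈ M.comap π → ∃ z, (∀ g, g * z = z * g) ∧ x * a * x⁻¹ = a * z := by
      intro a ha
      refine ⟨a⁻¹ * (x * a * x⁻¹), hz _ ?_, by group⟩
      rw [map_mul, map_mul, map_mul, map_inv, map_inv, hx _ ha]
      group
    obtain ⟨z, hz1, hz2⟩ := key a ha
    obtain ⟨z', hz1', hz2'⟩ := key b hb
    rw [Subgroup.mem_centralizer_singleton_iff]
    have h3 : x * ⁅a, b⁆ * x⁻¹ = ⁅a, b⁆ := by
      have h4 : x * ⁅a, b⁆ * x⁻¹ = ⁅x * a * x⁻¹, x * b * x⁻¹⁆ := by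
        rw [commutatorElement_def, commutatorElement_def]; group
      rw [h4, hz2, hz2', commutatorElement_def, commutatorElement_def]
      have e1 : a * z * (b * z') * (a * z)⁻¹ * (b * z')⁻¹ = a * (z * b) * z' * z⁻¹ * a⁻¹ * z'⁻¹ * b⁻¹ := by group
      rw [e1, ← hz1 b]
      have e2 : a * (b * z) * z' * z⁻¹ * a⁻¹ * z'⁻¹ * b⁻¹ = a * b * (z * z') * z⁻¹ * (z' * a)⁻¹ * b⁻¹ := by group
      rw [e2, hz1' z, ← hz1' a]
      group
    have h5 : x * ⁅a, b⁆ = ⁅a, b⁆ * x := by
      conv_rhs => rw [← h3]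
      group
    first | exact h5 | exact h5.symm
  have h2 := Subgroup.mem_centralizer_singleton_iff.1 (h1 hy)
  first | exact h2 | exact h2.symm

theorem hat_perf (hz : ∀ z, π z = 1 → ∀ g, g * z = z * g) (hs : Function.Surjective π) (hM : ⁅M, M⁆ = M) :
    ⁅hat π M, hat π M⁆ = hat π M := by
  refine le_antisymm (Subgroup.commutator_le_self _) ?_
  conv_lhs => rw [hat]
  rw [Subgroup.commutator_le]
  intro a ha b hb
  have key : ∀ a, a ∈ M.comap π → ∃ h ∈ hat π M, ∃ z, (∀ g, g * z = z * g) ∧ a = h * z := by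
    intro a ha
    obtain ⟨h, hh, he⟩ := exists_hat hs hM ha
    refine ⟨h, hh, h⁻¹ * a, hz _ ?_, by group⟩
    rw [map_mul, map_inv, he, inv_mul_cancel]
  obtain ⟨h, hh, z, hz1, rfl⟩ := key a ha
  obtain ⟨h', hh', z', hz1', rfl⟩ := key b hb
  have h3 : ⁅h * z, h' * z'⁆ = ⁅h, h'⁆ := by
    rw [commutatorElement_def, commutatorElement_def]
    have e1 : h * z * (h' * z') * (h * z)⁻¹ * (h' * z')⁻¹ = h * (z * h') * z' * z⁻¹ * h⁻¹ * z'⁻¹ * h'⁻¹ := by group
    rw [e1, ← hz1 h']
    have e2 : h * (h' * z) * z' * z⁻¹ * h⁻¹ * z'⁻¹ * h'⁻¹ = h * h' * (z * z') * z⁻¹ * (z' * h)⁻¹ * h'⁻¹ := by group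
    rw [e2, hz1' z, ← hz1' h]
    group
  rw [h3]
  exact Subgroup.commutator_mem_commutator hh hh'

theorem hat_cj (g : Γ) : hat π (cj (π g) M) = cj g (hat π M) := by
  have h1 : (cj (π g) M).comap π = cj g (M.comap π) := by
    ext x
    rw [Subgroup.mem_comap]
    constructor
    · rintro ⟨m, hm, he⟩
      refine ⟨g⁻¹ * x * g, ?_, ?_⟩
      · show π (g⁻¹ * x * g) ∈ M
        have h2 : π (g⁻¹ * x * g) = m := by
          rw [map_mul, map_mul, map_inv, ← he]
          show (π g)⁻¹ * (π g * m * (π g)⁻¹) * π g = m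
          group
        rw [h2]; exact hm
      · show g * (g⁻¹ * x * g) * g⁻¹ = x
        group
    · rintro ⟨m, hm, rfl⟩
      refine ⟨π m, hm, ?_⟩
      show π g * π m * (π g)⁻¹ = π (g * m * g⁻¹)
      rw [map_mul, map_mul, map_inv]
  rw [hat, h1, hat]
  exact (Subgroup.map_commutator _ _ _).symm

theorem comm_top {H : Subgroup Γ} (h : ⁅H, H⁆ = H) : commutator H = ⊤ := by
  apply Subgroup.map_injective H.subtype_injective
  rw [commutator_def, Subgroup.map_commutator, ← MonoidHom.range_eq_map, Subgroup.range_subtype, h]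

end hat

variable {F V Γ T : Type} [Field F] [Fintype F] [AddCommGroup V] [Module F V] [FiniteDimensional F V] [Group Γ] [Group T]

/-- `Γ` acts faithfully by isometries on the nondegenerate space `V` of dimension eight, `π : Γ → T` is the quotient by the scalars -/
structure Sys (Q : QuadraticForm F V) (ρ : Γ →* Module.End F V) (π : Γ →* T) : Prop where
  iso : ∀ g v, Q (ρ g v) = Q v
  inj : Function.Injective ρ
  surj : Function.Surjective π
  ker : ∀ g, π g = 1 ↔ ∃ e : F, ∀ v, ρ g v = e • v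
  nondeg : ∀ v, (∀ u, polar Q u v = 0) → v = 0
  dim : finrank F V = 8

theorem Sys.central {Q : QuadraticForm F V} {ρ : Γ →* Module.End F V} {π : Γ →* T} (hS : Sys Q ρ π) (z : Γ) (hz : π z = 1)
    (g : Γ) : g * z = z * g := by
  obtain ⟨e, he⟩ := (hS.ker z).1 hz
  apply hS.inj
  rw [map_mul, map_mul]
  refine LinearMap.ext fun v => ?_
  rw [Module.End.mul_apply, Module.End.mul_apply, he, he, map_smul]

variable {G : Type} [Group G]

/-- the elements `t i` lift to rotations `± r i` of three orthogonal planes `P i = [V, r i]`, on which the lift of `L i` is trivial -/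
structure RS (Q : QuadraticForm F V) (ρ : Γ →* Module.End F V) (π : Γ →* T) (f : G →* T) (t : Fin 3 → G) (L : Fin 3 → Subgroup G)
    (r : Fin 3 → Module.End F V) (c : F) : Prop where
  iso : ∀ i v, Q (r i v) = Q v
  lift : ∀ i (h : Γ), π h = f (t i) → ∃ e : F, (e = 1 ∨ e = -1) ∧ ∀ v, ρ h v = e • r i v
  dim : ∀ i, finrank F (LinearMap.range (r i - 1)) = 2
  irr : ∀ x : F, x * x - c * x + 1 ≠ 0
  quad : ∀ i, ∀ v ∈ LinearMap.range (r i - 1), r i (r i v) = c • r i v - v
  triv : ∀ i, ∀ x ∈ hat π ((L i).map f), ∀ v ∈ LinearMap.range (r i - 1), ρ x v = v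
  compl : ∀ i, IsCompl (LinearMap.range (r i - 1)) (LinearMap.ker (r i - 1))
  perp : ∀ i j, i ≠ j → ∀ u ∈ LinearMap.range (r i - 1), ∀ v ∈ LinearMap.range (r j - 1), polar Q u v = 0

end Cfsg.Agent.H953.O8R
end

private theorem dce_94a1045058b5 : _root_.True := by
  try have : _root_.True := by simp only [_root_.Cfsg.Agent.H953.O8R.hat.eq_1]
  exact _root_.True.intro
end

-- part: H826/Rg/Gen
section
prune_inst 0x947025044c80020000188004302000607c0004220040040004e20a0003492c622d80284121a000171a1204410001006001080010424000000e0000000004000000000404b1480108020018000000000000000000000000000000000000010000000000000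
set_option linter.all false
open scoped Cfsg.Agent.FastGrp

/-!
# S3691, residual cases: the stabiliser of a nonsingular vector in `Ω(Q)` (helper826)

* `mem_closure_of_res` : an isometry `g` with `(g - 1) V ≤ U` is a product of reflections and Siegel transformations
  with vectors of `U`;
* `St Q v` : the stabiliser of `v` in `O Q`; `Sg Q v` : the group generated by the Siegel transformations with vectors of
  `v^⊥`; `mem_Sg_of_fix` : for `Q v ≠ 0` and `dim V ≥ 7`, `g ∈ E Q`, `g v = v` imply `g ∈ Sg Q v`;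
  `Sg_le_comm` : `Sg Q v ≤ ⁅St Q v, St Q v⁆`.
-/

set_option autoImplicit false

namespace Cfsg.Agent.H826.Rg

open QuadraticMap Module
open Cfsg.Agent.LieClassical.OrthCore Cfsg.Agent.LieClassical.OrthTrans
open Cfsg.Agent.LieClassical.OrthFinite (exists_sing_perp good_of_finite isometryEquiv isometryEquiv_apply)
open Cfsg.Agent.H160.QSpin

section gen

variable {F V : Type*} [Field F] [AddCommGroup V] [Module F V] {Q : QuadraticForm F V}

/-- reflections and Siegel transformations with vectors of `U` -/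
def genSet (Q : QuadraticForm F V) (U : Submodule F V) : Set (V ≃ₗ[F] V) :=
  {g | ∃ (a : V) (ha : Q a ≠ 0), a ∈ U ∧ g = refl Q a ha} ∪
    {g | ∃ (u w : V) (hu : Q u = 0) (hw : polar Q u w = 0), u ∈ U ∧ w ∈ U ∧ g = siegel Q u w hu hw}

/-- **generation**, with control of the residual space -/
theorem mem_closure_of_res [FiniteDimensional F V] (hQ : Nondeg Q) (U : Submodule F V) {g : V ≃ₗ[F] V} (hg : g ∈ O Q)
    (hU : ∀ w, g w - w ∈ U) : g ∈ Subgroup.closure (genSet Q U) := by
  have key : ∀ (n : ℕ) (g : V ≃ₗ[F] V), g ∈ O Q → (∀ w, g w - w ∈ U) →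
      Module.finrank F V - Module.finrank F (LinearMap.ker (g.toLinearMap - LinearMap.id)) = n →
      g ∈ Subgroup.closure (genSet Q U) := by
    intro n
    induction n using Nat.strong_induction_on with
    | _ n ih =>
      intro g hg hU hn
      by_cases hone : ∀ w, g w = w
      · have : g = 1 := by ext w; exact hone w
        rw [this]
        exact Subgroup.one_mem _
      push Not at hone
      -- key step: enough to find `r` in the group with `r * g` fixing more
      have step : ∀ (r : V ≃ₗ[F] V), r ∈ O Q →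
          r ∈ Subgroup.closure (genSet Q U) → (∀ x, r x - x ∈ U) →
          (∀ s, g s = s → r s = s) → (∃ w, g w ≠ w ∧ r (g w) = w) →
          g ∈ Subgroup.closure (genSet Q U) := by
        intro r hrO hr hrU hfix ⟨w, hw, hrw⟩
        have hlt : LinearMap.ker (g.toLinearMap - LinearMap.id) <
            LinearMap.ker ((r * g).toLinearMap - LinearMap.id) := by
          refine lt_of_le_of_ne ?_ ?_
          · intro s hs
            rw [LinearMap.mem_ker, LinearMap.sub_apply, sub_eq_zero] at hs ⊢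
            have hs' : g s = s := hs
            show r (g s) = s
            rw [hs', hfix s hs']
          · intro heq
            have : w ∈ LinearMap.ker ((r * g).toLinearMap - LinearMap.id) := by
              rw [LinearMap.mem_ker, LinearMap.sub_apply, sub_eq_zero]
              exact hrw
            rw [← heq, LinearMap.mem_ker, LinearMap.sub_apply, sub_eq_zero] at this
            exact hw this
        have hlt' := Submodule.finrank_lt_finrank_of_lt hlt
        have hle := Submodule.finrank_le (LinearMap.ker ((r * g).toLinearMap - LinearMap.id))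
        have hmem := ih _ (by omega) (r * g) ((O Q).mul_mem hrO hg) (fun x => by
          have h1 : (r * g) x - x = (r (g x) - g x) + (g x - x) := by
            rw [sub_add_sub_cancel]; rfl
          rw [h1]
          exact U.add_mem (hrU _) (hU x)) rfl
        have : g = r⁻¹ * (r * g) := by group
        rw [this]
        exact Subgroup.mul_mem _ (Subgroup.inv_mem _ hr) hmem
      by_cases hsing : ∃ w, Q (g w - w) ≠ 0
      · obtain ⟨w, hw⟩ := hsing
        refine step (refl Q (g w - w) hw) (refl_mem_O hw)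
          (Subgroup.subset_closure (Or.inl ⟨_, hw, hU w, rfl⟩)) ?_ ?_ ⟨w, ?_, ?_⟩
        · intro x
          rw [refl_apply, sub_sub_cancel_left]
          exact U.neg_mem (U.smul_mem _ (hU w))
        · intro s hs
          have h1 : polar Q (g w - w) s = 0 := by
            rw [polar_sub_left]
            nth_rewrite 1 [← hs]
            rw [polar_map hg, sub_self]
          rw [refl_apply, h1, mul_zero, zero_smul, sub_zero]
        · intro h
          rw [h, sub_self, QuadraticMap.map_zero] at hw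
          exact hw rfl
        · exact refl_sub_apply (mem_O.1 hg w).symm hw
      · push Not at hsing
        obtain ⟨w, hw⟩ := hone
        have hz : g w - w ≠ 0 := sub_ne_zero.2 hw
        obtain ⟨v, hv⟩ := hQ.exists_polar_eq hz (-1)
        have hzs : Q (g w - w) = 0 := hsing w
        have hzy : polar Q (g w - w) (g v - v) = 0 := by
          have h1 := QuadraticMap.map_add Q (g w - w) (g v - v)
          have h2 : g w - w + (g v - v) = g (w + v) - (w + v) := by
            rw [map_add]; abel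
          rw [h2, hsing, hsing, hsing] at h1
          simpa only [_root_.QuadraticMap.polar_sub_right, _root_.QuadraticMap.polar_sub_left, _root_.add_zero, _root_.zero_add] using h1.symm
        have hgwy : polar Q (g v - v) (g w) = 1 := by
          rw [polar_sub_left, polar_map hg, ← neg_inj, ← hv, polar_sub_left, polar_comm Q v w,
            polar_comm Q v (g w)]
          ring
        have hgwz : polar Q (g w - w) (g w) = 0 := by
          have e := QuadraticMap.map_add Q w (g w - w)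
          rw [add_sub_cancel, mem_O.1 hg, hzs] at e
          have e2 : polar Q w (g w - w) = 0 := by linear_combination -e
          have e3 : polar Q (g w - w) (g w) = polar Q w (g w - w) +
              polar Q (g w - w) (g w - w) := by
            rw [polar_comm Q w, ← polar_add_right, add_sub_cancel]
          rw [e3, e2, polar_self', hzs]
          ring
        refine step (siegel Q (g w - w) (g v - v) hzs hzy) (siegel_mem_O hzs hzy)
          (Subgroup.subset_closure (Or.inr ⟨_, _, hzs, hzy, hU w, hU v, rfl⟩)) ?_ ?_ ⟨w, hw, ?_⟩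
        · intro x
          have h1 : siegel Q (g w - w) (g v - v) hzs hzy x - x =
              polar Q (g w - w) x • (g v - v) - (polar Q (g v - v) x + Q (g v - v) * polar Q (g w - w) x) • (g w - w) := by
            rw [siegel_apply]
            module
          rw [h1]
          exact U.sub_mem (U.smul_mem _ (hU v)) (U.smul_mem _ (hU w))
        · intro s hs
          have h1 : ∀ x, polar Q (g x - x) s = 0 := by
            intro x
            rw [polar_sub_left]
            nth_rewrite 1 [← hs]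
            rw [polar_map hg, sub_self]
          rw [siegel_apply, h1, h1]
          simp only [_root_.zero_smul, _root_.add_zero, _root_.sub_zero, _root_.MulZeroClass.mul_zero]
        · rw [siegel_apply, hgwz, hgwy]
          simp only [_root_.zero_smul, _root_.add_zero, _root_.one_smul, _root_.sub_sub_cancel, _root_.MulZeroClass.mul_zero, _root_.sub_zero]
  exact key _ g hg hU rfl

/-- separation -/
theorem exists_sep [FiniteDimensional F V] (hQ : Nondeg Q) {U : Submodule F V} {x : V} (hx : x ∉ U) :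
    ∃ y, (∀ u ∈ U, polar Q y u = 0) ∧ polar Q y x = 1 := by
  obtain ⟨f, hf, hfU⟩ := Submodule.exists_dual_map_eq_bot_of_notMem hx inferInstance
  have hinj : Function.Injective (polarBilin Q : V →ₗ[F] Module.Dual F V) := by
    rw [injective_iff_map_eq_zero]
    intro y hy
    exact hQ y fun z => by rw [← polarBilin_apply_apply, hy]; rfl
  have hsurj : Function.Surjective (polarBilin Q : V →ₗ[F] Module.Dual F V) :=
    (LinearMap.injective_iff_surjective_of_finrank_eq_finrank (by exact (Subspace.dual_finrank_eq).symm)).1 hinj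
  obtain ⟨y, hy⟩ := hsurj ((f x)⁻¹ • f)
  have h1 : ∀ z, polar Q y z = (f x)⁻¹ * f z := by
    intro z
    rw [← polarBilin_apply_apply, hy]
    rfl
  refine ⟨y, fun u hu => ?_, ?_⟩
  · have h2 : f u ∈ U.map f := ⟨u, hu, rfl⟩
    rw [hfU, Submodule.mem_bot] at h2
    rw [h1, h2, mul_zero]
  · rw [h1, inv_mul_cancel₀ hf]

/-! ### the stabiliser of a vector -/

/-- the stabiliser of `v` in `O Q` -/
def St (Q : QuadraticForm F V) (v : V) : Subgroup (V ≃ₗ[F] V) where
  carrier := {g | g ∈ O Q ∧ g v = v}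
  mul_mem' {g h} hg hh := ⟨(O Q).mul_mem hg.1 hh.1, by
    show g (h v) = v
    rw [hh.2, hg.2]⟩
  one_mem' := ⟨(O Q).one_mem, rfl⟩
  inv_mem' {g} hg := ⟨(O Q).inv_mem hg.1, by
    show g.symm v = v
    rw [LinearEquiv.symm_apply_eq, hg.2]⟩

theorem siegel_mem_St {v u w : V} (hu : Q u = 0) (hw : polar Q u w = 0) (huv : polar Q u v = 0) (hwv : polar Q w v = 0) :
    siegel Q u w hu hw ∈ St Q v := by
  refine ⟨siegel_mem_O hu hw, ?_⟩
  rw [siegel_apply, huv, hwv]
  simp

theorem refl_mem_St {v a : V} (ha : Q a ≠ 0) (hav : polar Q a v = 0) : refl Q a ha ∈ St Q v := by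
  refine ⟨refl_mem_O ha, ?_⟩
  rw [refl_apply, hav, mul_zero, zero_smul, sub_zero]

/-- the vectors perpendicular to `v` -/
def pv (Q : QuadraticForm F V) (v : V) : Submodule F V := LinearMap.ker (polarBilin Q v)

theorem mem_pv {v x : V} : x ∈ pv Q v ↔ polar Q x v = 0 := by
  rw [pv, LinearMap.mem_ker, polarBilin_apply_apply, polar_comm]

theorem mem_closure_of_St [FiniteDimensional F V] (hQ : Nondeg Q) {v : V} {g : V ≃ₗ[F] V} (hg : g ∈ St Q v) :
    g ∈ Subgroup.closure (genSet Q (pv Q v)) := by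
  refine mem_closure_of_res hQ _ hg.1 fun w => mem_pv.2 ?_
  rw [polar_sub_left]
  nth_rewrite 1 [← hg.2]
  rw [polar_map hg.1, sub_self]

/-! ### the group generated by the Siegel transformations of `v^⊥` -/

/-- the group generated by the Siegel transformations of `v^⊥` -/
def Sg (Q : QuadraticForm F V) (v : V) : Subgroup (V ≃ₗ[F] V) :=
  Subgroup.closure {g | ∃ (u w : V) (hu : Q u = 0) (hw : polar Q u w = 0), polar Q u v = 0 ∧ polar Q w v = 0 ∧
    g = siegel Q u w hu hw}

theorem siegel_mem_Sg {v u w : V} (hu : Q u = 0) (hw : polar Q u w = 0) (huv : polar Q u v = 0) (hwv : polar Q w v = 0) :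
    siegel Q u w hu hw ∈ Sg Q v := Subgroup.subset_closure ⟨u, w, hu, hw, huv, hwv, rfl⟩

theorem Sg_le {v : V} {H : Subgroup (V ≃ₗ[F] V)} (h : ∀ (u w : V) (hu : Q u = 0) (hw : polar Q u w = 0), polar Q u v = 0 →
    polar Q w v = 0 → siegel Q u w hu hw ∈ H) : Sg Q v ≤ H := by
  rw [Sg, Subgroup.closure_le]
  rintro _ ⟨u, w, hu, hw, huv, hwv, rfl⟩
  exact h u w hu hw huv hwv

theorem Sg_le_St (v : V) : Sg Q v ≤ St Q v := Sg_le fun _ _ hu hw huv hwv => siegel_mem_St hu hw huv hwv

theorem Sg_le_E (v : V) : Sg Q v ≤ E Q := Sg_le fun _ _ hu hw _ _ => siegel_mem_E hu hw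

theorem conj_mem_Sg {v : V} {g h : V ≃ₗ[F] V} (hg : g ∈ St Q v) (hh : h ∈ Sg Q v) : g * h * g⁻¹ ∈ Sg Q v := by
  induction hh using Subgroup.closure_induction with
  | mem x hx =>
    obtain ⟨u, w, hu, hw, huv, hwv, rfl⟩ := hx
    have hu' : Q (g u) = 0 := by rw [mem_O.1 hg.1]; exact hu
    have hw' : polar Q (g u) (g w) = 0 := by rw [polar_map hg.1]; exact hw
    rw [siegel_conj hg.1 hu hw hu' hw']
    refine siegel_mem_Sg hu' hw' ?_ ?_
    · nth_rewrite 1 [← hg.2]
      rw [polar_map hg.1, huv]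
    · nth_rewrite 1 [← hg.2]
      rw [polar_map hg.1, hwv]
  | one => simp
  | mul x y _ _ hx hy =>
    have : g * (x * y) * g⁻¹ = (g * x * g⁻¹) * (g * y * g⁻¹) := by group
    rw [this]
    exact (Sg Q v).mul_mem hx hy
  | inv x _ hx =>
    have : g * x⁻¹ * g⁻¹ = (g * x * g⁻¹)⁻¹ := by group
    rw [this]
    exact (Sg Q v).inv_mem hx

/-- `Sg` in the stabiliser -/
def SN (Q : QuadraticForm F V) (v : V) : Subgroup (St Q v) := (Sg Q v).subgroupOf (St Q v)

instance (v : V) : (SN Q v).Normal := ⟨fun n hn g => by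
  rw [SN, Subgroup.mem_subgroupOf] at hn ⊢
  exact conj_mem_Sg g.2 hn⟩

/-- the class modulo `Sg` -/
def cls {v : V} : St Q v →* (St Q v) ⧸ (SN Q v) := QuotientGroup.mk' _

theorem cls_eq_one {v : V} {g : St Q v} : cls g = 1 ↔ (g : V ≃ₗ[F] V) ∈ Sg Q v := by
  rw [cls, QuotientGroup.mk'_apply, QuotientGroup.eq_one_iff, SN, Subgroup.mem_subgroupOf]

section comm

set_option linter.unusedSectionVars false

variable [Finite F] [FiniteDimensional F V] (hQ : Nondeg Q) (hd : 7 ≤ finrank F V) {v : V} (hv : Q v ≠ 0)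
include hQ hd hv

/-- two orthogonal hyperbolic pairs perpendicular to `v` -/
theorem exists_pairs {u : V} (hu : Q u = 0) (hu0 : u ≠ 0) (huv : polar Q u v = 0) :
    ∃ u' x y, Hyp Q u u' ∧ polar Q u' v = 0 ∧ Hyp Q x y ∧ polar Q x v = 0 ∧ polar Q y v = 0 ∧
      polar Q x u = 0 ∧ polar Q y u = 0 ∧ polar Q x u' = 0 ∧ polar Q y u' = 0 := by
  have h1 : u ∉ F ∙ v := by
    intro h
    obtain ⟨c, rfl⟩ := Submodule.mem_span_singleton.1 h
    rw [QuadraticMap.map_smul, smul_eq_mul, mul_eq_zero, or_iff_left hv, mul_self_eq_zero] at hu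
    exact hu0 (by rw [hu, zero_smul])
  obtain ⟨z, hz, hzu⟩ := exists_sep hQ h1
  have hzv : polar Q z v = 0 := hz v (Submodule.mem_span_singleton_self v)
  have huu : polar Q u u = 0 := polar_self_of_sing hu
  have huz : polar Q u z = 1 := by rw [polar_comm]; exact hzu
  have hyp : Hyp Q u (z - Q z • u) := by
    refine ⟨hu, ?_, ?_⟩
    · rw [sub_eq_add_neg, ← neg_smul, Q_add, QuadraticMap.map_smul, hu, polar_smul_right, hzu]
      simp
    · rw [polar_sub_right, polar_smul_right, huz, huu, smul_zero, sub_zero]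
  have huv' : polar Q (z - Q z • u) v = 0 := by
    rw [polar_sub_left, polar_smul_left, hzv, huv, smul_zero, sub_zero]
  set u' := z - Q z • u with hu'
  obtain ⟨x, hx0, hx, hxx⟩ := exists_sing_perp (Q := Q) ![u, u', v] (by omega)
  have hux : polar Q u x = 0 := hxx 0
  have hu'x : polar Q u' x = 0 := hxx 1
  have hvx : polar Q v x = 0 := hxx 2
  have h2 : x ∉ Submodule.span F {u, u', v} := by
    intro h
    obtain ⟨a, b, c, rfl⟩ := Submodule.mem_span_triple.1 h
    have h3 : b = 0 := by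
      have := hux
      rw [polar_add_right, polar_add_right, polar_smul_right, polar_smul_right, polar_smul_right, huu, hyp.pair, huv] at this
      simpa using this
    have h4 : a = 0 := by
      have := hu'x
      rw [polar_add_right, polar_add_right, polar_smul_right, polar_smul_right, polar_smul_right, hyp.pair', huv', h3] at this
      simpa using this
    rw [h3, h4, zero_smul, zero_smul, zero_add, zero_add, QuadraticMap.map_smul, smul_eq_mul, mul_eq_zero,
      or_iff_left hv, mul_self_eq_zero] at hx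
    apply hx0
    rw [h3, h4, hx]
    simp
  obtain ⟨y, hy, hyx⟩ := exists_sep hQ h2
  have hyu : polar Q y u = 0 := hy u (Submodule.subset_span (by simp))
  have hyu' : polar Q y u' = 0 := hy u' (Submodule.subset_span (by simp))
  have hyv : polar Q y v = 0 := hy v (Submodule.subset_span (by simp))
  have hxx' : polar Q x x = 0 := polar_self_of_sing hx
  have hxu : polar Q x u = 0 := by rw [polar_comm]; exact hux
  have hxu' : polar Q x u' = 0 := by rw [polar_comm]; exact hu'x
  have hxv : polar Q x v = 0 := by rw [polar_comm]; exact hvx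
  refine ⟨u', x, y - Q y • x, hyp, huv', ⟨hx, ?_, ?_⟩, hxv, ?_, hxu, ?_, hxu', ?_⟩
  · rw [sub_eq_add_neg, ← neg_smul, Q_add, QuadraticMap.map_smul, hx, polar_smul_right, hyx]
    simp
  · rw [polar_sub_right, polar_smul_right, hxx', smul_zero, sub_zero, polar_comm]
    exact hyx
  · rw [polar_sub_left, polar_smul_left, hyv, hxv, smul_zero, sub_zero]
  · rw [polar_sub_left, polar_smul_left, hyu, hxu, smul_zero, sub_zero]
  · rw [polar_sub_left, polar_smul_left, hyu', hxu', smul_zero, sub_zero]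

omit [Finite F] [FiniteDimensional F V] hQ hd hv in
/-- conjugate reflections have the same class -/
theorem cls_refl_eq {v a b : V} (ha : Q a ≠ 0) (hb : Q b ≠ 0) (hav : polar Q a v = 0) (hbv : polar Q b v = 0)
    {s : V ≃ₗ[F] V} (hs : s ∈ Sg Q v) (hsb : s b = a) :
    cls (⟨refl Q a ha, refl_mem_St ha hav⟩ : St Q v) = cls (⟨refl Q b hb, refl_mem_St hb hbv⟩ : St Q v) := by
  subst hsb
  have hs' := Sg_le_St v hs
  have h1 : (⟨refl Q (s b) ha, refl_mem_St ha hav⟩ : St Q v) =
      ⟨s, hs'⟩ * ⟨refl Q b hb, refl_mem_St hb hbv⟩ * ⟨s, hs'⟩⁻¹ := by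
    apply Subtype.ext
    show refl Q (s b) ha = s * refl Q b hb * s⁻¹
    rw [refl_conj hs'.1 hb ha]
  have h2 : cls (⟨s, hs'⟩ : St Q v) = 1 := cls_eq_one.2 hs
  rw [h1, map_mul, map_mul, map_inv, h2, one_mul, inv_one, mul_one]

omit [Finite F] [FiniteDimensional F V] hQ hd hv in
theorem cls_refl_sq {v a : V} (ha : Q a ≠ 0) (hav : polar Q a v = 0) :
    cls (⟨refl Q a ha, refl_mem_St ha hav⟩ : St Q v) * cls (⟨refl Q a ha, refl_mem_St ha hav⟩ : St Q v) = 1 := by
  rw [← map_mul]
  have h1 : (⟨refl Q a ha, refl_mem_St ha hav⟩ * ⟨refl Q a ha, refl_mem_St ha hav⟩ : St Q v) = 1 :=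
    Subtype.ext (refl_mul_self ha)
  rw [h1, map_one]

omit [Finite F] [FiniteDimensional F V] hQ hd hv in
theorem refl_congr {a b : V} (h : a = b) (ha : Q a ≠ 0) (hb : Q b ≠ 0) : refl Q a ha = refl Q b hb := by
  subst h; rfl

/-- the classes of the elements of the stabiliser, if the classes of the reflections are `α` and `β` -/
theorem class_cases {α β : (St Q v) ⧸ (SN Q v)} (hα : α * α = 1) (hβ : β * β = 1) (hαβ : Commute α β)
    (hr : ∀ (a : V) (ha : Q a ≠ 0) (hav : polar Q a v = 0),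
      cls (⟨refl Q a ha, refl_mem_St ha hav⟩ : St Q v) = α ∨ cls (⟨refl Q a ha, refl_mem_St ha hav⟩ : St Q v) = β)
    (g : St Q v) : ∃ i j : ℕ, cls g = α ^ i * β ^ j := by
  have key : ∀ g ∈ Subgroup.closure (genSet Q (pv Q v)), ∀ hg : g ∈ St Q v,
      ∃ i j : ℕ, cls (⟨g, hg⟩ : St Q v) = α ^ i * β ^ j := by
    have hle : Subgroup.closure (genSet Q (pv Q v)) ≤ St Q v := by
      rw [Subgroup.closure_le]
      rintro _ (⟨a, ha, haU, rfl⟩ | ⟨u, w, hu, hw, huU, hwU, rfl⟩)
      · exact refl_mem_St ha (mem_pv.1 haU)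
      · exact siegel_mem_St hu hw (mem_pv.1 huU) (mem_pv.1 hwU)
    intro g hgc
    induction hgc using Subgroup.closure_induction with
    | mem x hx =>
      intro hx'
      rcases hx with ⟨a, ha, haU, rfl⟩ | ⟨u, w, hu, hw, huU, hwU, rfl⟩
      · rcases hr a ha (mem_pv.1 haU) with h | h
        · exact ⟨1, 0, by rw [pow_one, pow_zero, mul_one]; exact h⟩
        · exact ⟨0, 1, by rw [pow_one, pow_zero, one_mul]; exact h⟩
      · refine ⟨0, 0, ?_⟩
        rw [pow_zero, pow_zero, mul_one, cls_eq_one]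
        exact siegel_mem_Sg hu hw (mem_pv.1 huU) (mem_pv.1 hwU)
    | one =>
      intro h1
      exact ⟨0, 0, by rw [pow_zero, pow_zero, mul_one]; exact map_one _⟩
    | mul x y hx hy ihx ihy =>
      intro hxy
      obtain ⟨i, j, h1⟩ := ihx (hle hx)
      obtain ⟨i', j', h3⟩ := ihy (hle hy)
      refine ⟨i + i', j + j', ?_⟩
      have : (⟨x * y, hxy⟩ : St Q v) = ⟨x, hle hx⟩ * ⟨y, hle hy⟩ := rfl
      have h5 : β ^ j * α ^ i' = α ^ i' * β ^ j := (hαβ.pow_pow i' j).eq.symm
      rw [this, map_mul, h1, h3, pow_add, pow_add, mul_assoc, ← mul_assoc (β ^ j), h5]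
      group
    | inv x hx ihx =>
      intro hxi
      obtain ⟨i, j, h1⟩ := ihx (hle hx)
      refine ⟨i, j, ?_⟩
      have : (⟨x⁻¹, hxi⟩ : St Q v) = ⟨x, hle hx⟩⁻¹ := rfl
      rw [this, map_inv, h1, mul_inv_rev, ← inv_pow, ← inv_pow, inv_eq_of_mul_eq_one_left hα, inv_eq_of_mul_eq_one_left hβ]
      exact (hαβ.pow_pow i j).eq.symm
  exact key g (mem_closure_of_St hQ g.2) g.2

/-! #### odd characteristic -/

/-- `Sg` is transitive on the vectors of given norm of `v^⊥` -/
theorem trans_pv (h2 : (2 : F) ≠ 0) {a b : V} (ha : a ≠ 0) (hb : b ≠ 0) (hav : polar Q a v = 0) (hbv : polar Q b v = 0)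
    (h : Q a = Q b) : ∃ s ∈ Sg Q v, s b = a := by
  set U := pv Q v with hU
  let QU : QuadraticForm F U := Q.comp U.subtype
  have hQU : ∀ x : U, QU x = Q (x : V) := fun x => rfl
  have hpU : ∀ x y : U, polar QU x y = polar Q (x : V) (y : V) := fun x y => rfl
  have hvv : polar Q v v ≠ 0 := by
    rw [polar_self']
    exact mul_ne_zero h2 hv
  have hnd : Nondeg QU := by
    intro x hx
    apply Subtype.ext
    apply hQ
    intro z
    have hz : z - (polar Q z v * (polar Q v v)⁻¹) • v ∈ U := by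
      rw [hU, mem_pv, polar_sub_left, polar_smul_left, smul_eq_mul, mul_assoc, inv_mul_cancel₀ hvv, mul_one, sub_self]
    have h1 := hx ⟨_, hz⟩
    rw [hpU] at h1
    have hxv : polar Q (x : V) v = 0 := mem_pv.1 x.2
    rw [polar_sub_right, polar_smul_right, hxv, smul_zero, sub_zero] at h1
    exact h1
  have hfr : 5 ≤ finrank F U := by
    have h1 := LinearMap.finrank_range_add_finrank_ker (polarBilin Q v)
    have h3 : finrank F (LinearMap.range (polarBilin Q v)) ≤ 1 := by
      refine le_trans (Submodule.finrank_le _) ?_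
      rw [Module.finrank_self]
    have h4 : finrank F U = finrank F (LinearMap.ker (polarBilin Q v)) := rfl
    omega
  have hG := good_of_finite hnd hfr
  have hext : ∀ e ∈ E QU, ∃ s ∈ Sg Q v, ∀ x : U, s x = e x := by
    intro e he
    induction he using Subgroup.closure_induction with
    | mem x hx =>
      obtain ⟨u, w, hu, hw, rfl⟩ := hx
      have hu' : Q (u : V) = 0 := hu
      have hw' : polar Q (u : V) (w : V) = 0 := hw
      refine ⟨siegel Q (u : V) (w : V) hu' hw', siegel_mem_Sg _ _ (mem_pv.1 u.2) (mem_pv.1 w.2), fun x => ?_⟩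
      rw [siegel_apply, siegel_apply]
      rfl
    | one => exact ⟨1, (Sg Q v).one_mem, fun x => rfl⟩
    | mul x y _ _ hx hy =>
      obtain ⟨s, hs, hs'⟩ := hx
      obtain ⟨t, ht, ht'⟩ := hy
      refine ⟨s * t, (Sg Q v).mul_mem hs ht, fun z => ?_⟩
      show s (t z) = x (y z)
      rw [ht', hs']
    | inv x _ hx =>
      obtain ⟨s, hs, hs'⟩ := hx
      refine ⟨s⁻¹, (Sg Q v).inv_mem hs, fun z => ?_⟩
      show s.symm z = x.symm z
      rw [LinearEquiv.symm_apply_eq, hs', LinearEquiv.apply_symm_apply]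
  obtain ⟨e, he, hea⟩ := hG.trans_norm (v := (⟨b, mem_pv.2 hbv⟩ : U)) (v' := (⟨a, mem_pv.2 hav⟩ : U))
    (fun h0 => hb (congrArg Subtype.val h0)) (fun h0 => ha (congrArg Subtype.val h0)) h.symm
  obtain ⟨s, hs, hs'⟩ := hext e he
  exact ⟨s, hs, by rw [hs' ⟨b, mem_pv.2 hbv⟩, hea]⟩

/-- reflections of vectors of the same norm -/
theorem cls_refl_norm (h2 : (2 : F) ≠ 0) {a b : V} (ha : Q a ≠ 0) (hb : Q b ≠ 0) (hav : polar Q a v = 0)
    (hbv : polar Q b v = 0) (h : Q a = Q b) :
    cls (⟨refl Q a ha, refl_mem_St ha hav⟩ : St Q v) = cls (⟨refl Q b hb, refl_mem_St hb hbv⟩ : St Q v) := by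
  obtain ⟨s, hs, hsb⟩ := trans_pv hQ hd hv h2 (fun h0 => ha (by rw [h0, QuadraticMap.map_zero]))
    (fun h0 => hb (by rw [h0, QuadraticMap.map_zero])) hav hbv h
  exact cls_refl_eq ha hb hav hbv hs hsb

theorem cls_refl_class (h2 : (2 : F) ≠ 0) {a b : V} (ha : Q a ≠ 0) (hb : Q b ≠ 0) (hav : polar Q a v = 0)
    (hbv : polar Q b v = 0) (h : IsSquare (Q a * (Q b)⁻¹)) :
    cls (⟨refl Q a ha, refl_mem_St ha hav⟩ : St Q v) = cls (⟨refl Q b hb, refl_mem_St hb hbv⟩ : St Q v) := by
  obtain ⟨c, hc⟩ := h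
  have hc0 : c ≠ 0 := by
    rintro rfl
    rw [mul_zero, mul_eq_zero, inv_eq_zero] at hc
    rcases hc with h | h
    · exact ha h
    · exact hb h
  have h3 : Q (c • b) = Q a := by
    rw [QuadraticMap.map_smul, smul_eq_mul, ← hc, mul_assoc, inv_mul_cancel₀ hb, mul_one]
  have h4 : Q (c • b) ≠ 0 := by rw [h3]; exact ha
  have h5 : polar Q (c • b) v = 0 := by rw [polar_smul_left, hbv, smul_zero]
  rw [cls_refl_norm hQ hd hv h2 ha h4 hav h5 h3.symm]
  congr 1
  apply Subtype.ext
  exact refl_smul hb hc0 h4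

omit [Finite F] [FiniteDimensional F V] hQ hd hv in
/-- homomorphisms of `O Q` to commutative groups are trivial on the commutator subgroup -/
theorem hom_comm {A : Type*} [CommGroup A] (φ : O Q →* A) {g : V ≃ₗ[F] V} (hg : g ∈ ⁅O Q, O Q⁆) (hg' : g ∈ O Q) :
    φ ⟨g, hg'⟩ = 1 := by
  have h1 : ⁅O Q, O Q⁆ = (commutator ↥(O Q)).map (O Q).subtype := by
    rw [commutator_def, Subgroup.map_commutator, ← MonoidHom.range_eq_map, Subgroup.range_subtype]
  rw [h1] at hg
  obtain ⟨k, hk, hkg⟩ := hg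
  have h2 : k = ⟨g, hg'⟩ := Subtype.ext hkg
  rw [← h2]
  have := Abelianization.commutator_subset_ker φ hk
  rwa [MonoidHom.mem_ker] at this

/-- odd characteristic -/
theorem mem_Sg_odd (h2 : (2 : F) ≠ 0) {g : V ≃ₗ[F] V} (hg : g ∈ E Q) (hgv : g v = v) : g ∈ Sg Q v := by
  classical
  have hfV : Finite V := Module.finite_of_finite F
  -- a hyperbolic pair in `v^⊥`
  obtain ⟨u, hu0, hu, huv⟩ := exists_sing_perp (Q := Q) ![v] (by omega)
  have huv' : polar Q u v = 0 := by rw [polar_comm]; exact huv 0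
  obtain ⟨u', x, y, hyp, hu'v, hxy, hxv, hyv, hxu, hyu, hxu', hyu'⟩ := exists_pairs hQ hd hv hu hu0 huv'
  have hchar : ringChar F ≠ 2 := by
    intro h
    apply h2
    have := ringChar.Nat.cast_ringChar (R := F)
    rw [h] at this
    exact_mod_cast this
  obtain ⟨ν, hν⟩ := FiniteField.exists_nonsquare (F := F) hchar
  have hν0 : ν ≠ 0 := by
    rintro rfl
    exact hν ⟨0, by rw [mul_zero]⟩
  have hna : Q (u + u') = 1 := by
    rw [Q_add, hyp.left, hyp.right, hyp.pair]
    simp
  have hnb : Q (x + ν • y) = ν := by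
    rw [Q_add, QuadraticMap.map_smul, hxy.left, hxy.right, polar_smul_right, hxy.pair]
    simp
  have hpa : polar Q (u + u') v = 0 := by rw [polar_add_left, huv', hu'v, add_zero]
  have hpb : polar Q (x + ν • y) v = 0 := by
    rw [polar_add_left, polar_smul_left, hxv, hyv]
    simp
  have ha : Q (u + u') ≠ 0 := by rw [hna]; exact one_ne_zero
  have hb : Q (x + ν • y) ≠ 0 := by rw [hnb]; exact hν0
  have hab : polar Q (u + u') (x + ν • y) = 0 := by
    rw [polar_comm, polar_add_left, polar_smul_left, polar_add_right, polar_add_right, hxu, hxu', hyu, hyu']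
    simp
  set α := cls (⟨refl Q _ ha, refl_mem_St ha hpa⟩ : St Q v) with hα
  set β := cls (⟨refl Q _ hb, refl_mem_St hb hpb⟩ : St Q v) with hβ
  have hαβ : Commute α β := by
    show α * β = β * α
    rw [hα, hβ, ← map_mul, ← map_mul]
    congr 1
    exact Subtype.ext (refl_comm ha hb hab)
  have hgS : g ∈ St Q v := ⟨E_le_O hg, hgv⟩
  obtain ⟨i, j, hij⟩ := class_cases hQ hd hv (α := α) (β := β) (cls_refl_sq ha hpa) (cls_refl_sq hb hpb) hαβ (by
    intro c hc hcv
    by_cases hsq : IsSquare (Q c)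
    · left
      refine cls_refl_class hQ hd hv h2 hc ha hcv hpa ?_
      rw [hna, inv_one, mul_one]
      exact hsq
    · right
      refine cls_refl_class hQ hd hv h2 hc hb hcv hpb ?_
      rw [hnb]
      exact Cfsg.Agent.ClassicalGeometry.Universal.isSquare_mul_of_not h2 hsq (by rwa [isSquare_inv])) ⟨g, hgS⟩
  -- the product of reflections lies in `E Q`
  set ra : V ≃ₗ[F] V := refl Q _ ha with hra
  set rb : V ≃ₗ[F] V := refl Q _ hb with hrb
  have hG : Good Q := good_of_finite hQ (by omega)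
  have hE : ra ^ i * rb ^ j ∈ ⁅O Q, O Q⁆ := by
    have h3 : cls ((⟨refl Q _ ha, refl_mem_St ha hpa⟩ : St Q v) ^ i *
        (⟨refl Q _ hb, refl_mem_St hb hpb⟩ : St Q v) ^ j * (⟨g, hgS⟩ : St Q v)⁻¹) = 1 := by
      rw [map_mul, map_mul, map_pow, map_pow, map_inv, hij, ← hα, ← hβ, mul_inv_cancel]
    rw [cls_eq_one] at h3
    have h4 : ra ^ i * rb ^ j * g⁻¹ ∈ ⁅O Q, O Q⁆ := by
      rw [hG.commutator_eq_E]
      exact Sg_le_E v h3
    have h5 : ra ^ i * rb ^ j = (ra ^ i * rb ^ j * g⁻¹) * g := by group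
    rw [h5]
    refine Subgroup.mul_mem _ h4 ?_
    rw [hG.commutator_eq_E]; exact hg
  have hraO : ra ∈ O Q := refl_mem_O ha
  have hrbO : rb ∈ O Q := refl_mem_O hb
  have hO : ra ^ i * rb ^ j ∈ O Q := (O Q).mul_mem ((O Q).pow_mem hraO i) ((O Q).pow_mem hrbO j)
  have e1 : (⟨ra ^ i * rb ^ j, hO⟩ : O Q) = (⟨ra, hraO⟩ : O Q) ^ i * (⟨rb, hrbO⟩ : O Q) ^ j := rfl
  have hi : (-1 : ℤˣ) ^ i = 1 := by
    have h3 := hom_comm (spin Q) hE hO
    rw [e1, map_mul, map_pow, map_pow, spin_refl h2 ha, spin_refl h2 hb, hna, hnb, if_pos ⟨1, by rw [mul_one]⟩, if_neg hν,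
      one_pow, mul_one] at h3
    exact h3
  have hj : (-1 : Fˣ) ^ (i + j) = 1 := by
    have h3 := hom_comm ((LinearEquiv.det (R := F) (M := V)).comp (O Q).subtype) hE hO
    rw [e1, map_mul, map_pow, map_pow, MonoidHom.comp_apply, MonoidHom.comp_apply] at h3
    have h4 : LinearEquiv.det ra = -1 := det_refl ha
    have h5 : LinearEquiv.det rb = -1 := det_refl hb
    change LinearEquiv.det ra ^ i * LinearEquiv.det rb ^ j = 1 at h3
    rw [h4, h5, ← pow_add] at h3
    exact h3
  have hie : Even i := by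
    rcases Nat.even_or_odd i with h | h
    · exact h
    · rw [h.neg_one_pow] at hi
      exact absurd hi (by decide)
  have hije : Even (i + j) := by
    rcases Nat.even_or_odd (i + j) with h | h
    · exact h
    · rw [h.neg_one_pow] at hj
      exact absurd hj (Cfsg.Agent.ClassicalGeometry.OmegaIndex.neg_one_ne_one_units h2)
  have hje : Even j := (Nat.even_add.1 hije).1 hie
  have hg1 : cls (⟨g, hgS⟩ : St Q v) = 1 := by
    rw [hij]
    obtain ⟨i', rfl⟩ := hie
    obtain ⟨j', rfl⟩ := hje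
    have hα2 : α * α = 1 := cls_refl_sq ha hpa
    have hβ2 : β * β = 1 := cls_refl_sq hb hpb
    rw [← two_mul, ← two_mul, pow_mul, pow_mul, pow_two, pow_two, hα2, hβ2, one_pow, one_pow, mul_one]
  exact cls_eq_one.1 hg1

/-! #### characteristic two -/

omit [Finite F] [FiniteDimensional F V] hQ hd hv in
theorem cj_mem_comm {W : Type*} [AddCommGroup W] [Module F W] {Q' : QuadraticForm F W} {e : V ≃ₗ[F] W} (he : IsIso Q Q' e)
    {g : V ≃ₗ[F] V} (hg : g ∈ ⁅O Q, O Q⁆) : cj e g ∈ ⁅O Q', O Q'⁆ := by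
  have h1 : (O Q).map (cjEquiv e).toMonoidHom ≤ O Q' := by
    rintro _ ⟨x, hx, rfl⟩
    exact cj_mem_O he hx
  have h3 : cj e g ∈ (⁅O Q, O Q⁆).map (cjEquiv e).toMonoidHom := ⟨g, hg, rfl⟩
  rw [Subgroup.map_commutator] at h3
  exact Subgroup.commutator_mono h1 h1 h3

omit [Finite F] hd in
/-- a reflection is not in the commutator subgroup -/
theorem refl_notMem (h4 : finrank F V ≠ 4) : refl Q v hv ∉ ⁅O Q, O Q⁆ := by
  intro h
  obtain ⟨Q', e, he⟩ := exists_iso_fin Q
  have h1 := cj_mem_comm he h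
  have hv' : Q' (e v) ≠ 0 := by rw [he]; exact hv
  rw [cj_refl he hv hv'] at h1
  have h3 : ⁅O Q', O Q'⁆ = (commutator ↥(O Q')).map (O Q').subtype := by
    rw [commutator_def, Subgroup.map_commutator, ← MonoidHom.range_eq_map, Subgroup.range_subtype]
  rw [h3] at h1
  obtain ⟨k, hk, hke⟩ := h1
  have hQ' : Nondeg Q' := he.nondeg hQ
  have h5 := Cfsg.Agent.ClassicalGeometry.OrthDickson.refl_notMem_commutator Q'
    ⟨fun x hx => hQ' x hx, fun x hx => hQ' x fun y => by rw [polar_comm]; exact hx y⟩ (Or.inr (by rw [Fintype.card_fin]; exact h4)) (e v) hv'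
  apply h5
  have h6 : (isometryEquiv Q').symm k ∈ commutator ↥(Cfsg.isometryGroup F (⇑Q')) := by
    have h7 : (isometryEquiv Q').symm k ∈ (commutator ↥(O Q')).map (isometryEquiv Q').symm.toMonoidHom := ⟨k, hk, rfl⟩
    rw [commutator_def, Subgroup.map_commutator] at h7
    exact Subgroup.commutator_mono le_top le_top h7
  have h8 : (isometryEquiv Q').symm k = Cfsg.Agent.ClassicalGeometry.Reflection.reflIso Q' (e v) hv' := by
    rw [MulEquiv.symm_apply_eq]
    apply Subtype.ext
    ext1 x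
    rw [isometryEquiv_apply, Cfsg.Agent.ClassicalGeometry.Reflection.coe_reflIso,
      Cfsg.Agent.ClassicalGeometry.Reflection.reflectionMatrix_mulVec]
    have h9 : (k : _ ≃ₗ[F] _) x = _root_.Cfsg.Agent.LieClassical.OrthCore.refl Q' (e v) hv' x := by
      have := congrArg (fun z : _ ≃ₗ[F] _ => z x) hke
      exact this
    rw [h9, refl_apply]
  rw [← h8]
  exact h6

/-- characteristic two -/
theorem mem_Sg_even (h2 : (2 : F) = 0) {g : V ≃ₗ[F] V} (hg : g ∈ E Q) (hgv : g v = v) : g ∈ Sg Q v := by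
  have hvv : polar Q v v = 0 := by rw [polar_self', h2, zero_mul]
  have vneg : ∀ z : V, -z = z := by
    intro z
    rw [neg_eq_iff_add_eq_zero, ← two_smul F z, h2, zero_smul]
  set ρ := cls (⟨refl Q v hv, refl_mem_St hv hvv⟩ : St Q v) with hρ
  have hρ2 : ρ * ρ = 1 := cls_refl_sq hv hvv
  have hr : ∀ (a : V) (ha : Q a ≠ 0) (hav : polar Q a v = 0),
      cls (⟨refl Q a ha, refl_mem_St ha hav⟩ : St Q v) = ρ := by
    intro a ha hav
    obtain ⟨c, hc⟩ := Cfsg.Agent.ClassicalGeometry.OrthDickson.exists_sq_of_two h2 (Q v * (Q a)⁻¹)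
    have hc0 : c ≠ 0 := by
      rintro rfl
      rw [mul_zero] at hc
      exact mul_ne_zero hv (inv_ne_zero ha) hc.symm
    have h3 : Q (c • a) = Q v := by
      rw [QuadraticMap.map_smul, smul_eq_mul, hc, mul_assoc, inv_mul_cancel₀ ha, mul_one]
    have h4 : Q (c • a) ≠ 0 := by rw [h3]; exact hv
    have h5 : polar Q (c • a) v = 0 := by rw [polar_smul_left, hav, smul_zero]
    have h6 : (⟨refl Q a ha, refl_mem_St ha hav⟩ : St Q v) = ⟨refl Q (c • a) h4, refl_mem_St h4 h5⟩ :=
      Subtype.ext (refl_smul ha hc0 h4).symm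
    rw [h6]
    by_cases hs0 : c • a + v = 0
    · have h7 : c • a = v := by rw [add_eq_zero_iff_eq_neg.1 hs0, vneg]
      congr 1
      apply Subtype.ext
      exact refl_congr h7 h4 hv
    obtain ⟨s, hs⟩ : ∃ s, s = c • a + v := ⟨_, rfl⟩
    rw [← hs] at hs0
    have hQs : Q s = 0 := by
      rw [hs, Q_add, h3, h5, add_zero, ← two_mul, h2, zero_mul]
    have hsv : polar Q s v = 0 := by rw [hs, polar_add_left, h5, hvv, add_zero]
    obtain ⟨s', x, y, hss, hs'v, hxy, hxv, hyv, hxs, hys, hxs', hys'⟩ := exists_pairs hQ hd hv hQs hs0 hsv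
    have hvs : polar Q v s = 0 := by rw [polar_comm]; exact hsv
    have hvx : polar Q v x = 0 := by rw [polar_comm]; exact hxv
    have hsx : polar Q s x = 0 := by rw [polar_comm]; exact hxs
    have hxx : polar Q x x = 0 := hxy.polar_left
    have hss0 : polar Q s s = 0 := hss.polar_left
    -- norms
    have hn1 : Q (v + s) = Q v := by rw [Q_add, hQs, hvs, add_zero, add_zero]
    have hn2 : Q (v + x) = Q v := by rw [Q_add, hxy.left, hvx, add_zero, add_zero]
    have hn3 : Q (v + s + x) = Q v := by rw [Q_add, hn1, hxy.left, polar_add_left, hvx, hsx, add_zero, add_zero, add_zero]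
    have hq1 : Q (v + s) ≠ 0 := by rw [hn1]; exact hv
    have hq2 : Q (v + x) ≠ 0 := by rw [hn2]; exact hv
    have hq3 : Q (v + s + x) ≠ 0 := by rw [hn3]; exact hv
    have hp1 : polar Q (v + s) v = 0 := by rw [polar_add_left, hvv, hsv, add_zero]
    have hp2 : polar Q (v + x) v = 0 := by rw [polar_add_left, hvv, hxv, add_zero]
    have hp3 : polar Q (v + s + x) v = 0 := by rw [polar_add_left, hp1, hxv, add_zero]
    have c13 : cls (⟨refl Q _ hq3, refl_mem_St hq3 hp3⟩ : St Q v) =
        cls (⟨refl Q _ hq1, refl_mem_St hq1 hp1⟩ : St Q v) := by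
      refine cls_refl_eq hq3 hq1 hp3 hp1 (s := siegel Q x s' hxy.left hxs') (siegel_mem_Sg _ _ hxv hs'v) ?_
      rw [siegel_apply, polar_add_right, polar_add_right, hxv, hxs, hs'v, hss.pair', zero_add, zero_add, zero_smul, one_smul,
        mul_zero, zero_smul, sub_zero, add_zero, sub_eq_add_neg, vneg]
    have c23 : cls (⟨refl Q _ hq3, refl_mem_St hq3 hp3⟩ : St Q v) =
        cls (⟨refl Q _ hq2, refl_mem_St hq2 hp2⟩ : St Q v) := by
      refine cls_refl_eq hq3 hq2 hp3 hp2 (s := siegel Q s y hQs (by rw [polar_comm]; exact hys)) (siegel_mem_Sg _ _ hsv hyv) ?_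
      rw [siegel_apply, polar_add_right, polar_add_right, hsv, hsx, hyv, hxy.pair', zero_add, zero_add, zero_smul, one_smul,
        mul_zero, zero_smul, sub_zero, add_zero, sub_eq_add_neg, vneg]
      abel
    have hsk : polar Q s ((Q v)⁻¹ • x) = 0 := by rw [polar_smul_right, hsx, smul_zero]
    have hprod : refl Q v hv * refl Q _ hq1 * refl Q _ hq2 * refl Q _ hq3 = siegel Q s ((Q v)⁻¹ • x) hQs hsk := by
      ext z
      show refl Q v hv (refl Q _ hq1 (refl Q _ hq2 (refl Q _ hq3 z))) = _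
      rw [siegel_apply]
      simp only [refl_apply, hn1, hn2, hn3, polar_add_left, polar_add_right, polar_sub_right, polar_smul_right,
        polar_smul_left, QuadraticMap.map_smul, hxy.left, hvv, hsv, hxv, hvs, hvx, hsx, hxs, hxx, hss0, mul_zero,
        add_zero, sub_zero, smul_eq_mul]
      linear_combination (norm := module) h2 • (-(Q v)⁻¹ • ((2 * polar Q v z + polar Q s z + polar Q x z) • v +
        (polar Q v z + polar Q s z) • s + (polar Q v z + polar Q s z + polar Q x z) • x))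
    have hcl : ρ * cls (⟨refl Q _ hq1, refl_mem_St hq1 hp1⟩ : St Q v) *
        cls (⟨refl Q _ hq2, refl_mem_St hq2 hp2⟩ : St Q v) *
        cls (⟨refl Q _ hq3, refl_mem_St hq3 hp3⟩ : St Q v) = 1 := by
      rw [hρ, ← map_mul, ← map_mul, ← map_mul, cls_eq_one]
      show refl Q v hv * refl Q _ hq1 * refl Q _ hq2 * refl Q _ hq3 ∈ _
      rw [hprod]
      exact siegel_mem_Sg hQs hsk hsv (by rw [polar_smul_left, hxv, smul_zero])
    have hsq3 := cls_refl_sq (Q := Q) (v := v) hq3 hp3
    rw [← c13, ← c23, mul_assoc, mul_assoc, hsq3, mul_one] at hcl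
    have h7 : cls (⟨refl Q _ hq3, refl_mem_St hq3 hp3⟩ : St Q v) = ρ :=
      (eq_inv_of_mul_eq_one_right (hcl :)).trans (inv_eq_of_mul_eq_one_left hρ2)
    rw [← h7, c13]
    congr 1
    apply Subtype.ext
    refine refl_congr ?_ h4 hq1
    rw [hs, add_comm v, add_assoc, ← two_smul F v, h2, zero_smul, add_zero]
  have hgS : g ∈ St Q v := ⟨E_le_O hg, hgv⟩
  obtain ⟨i, j, hij⟩ := class_cases hQ hd hv hρ2 hρ2 (Commute.refl ρ) (fun a ha hav => Or.inl (hr a ha hav)) ⟨g, hgS⟩
  rw [← pow_add] at hij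
  have hG : Good Q := good_of_finite hQ (by omega)
  rcases Nat.even_or_odd (i + j) with he | ho
  · obtain ⟨k, hk⟩ := he
    rw [hk, ← two_mul, pow_mul, pow_two, hρ2, one_pow] at hij
    exact cls_eq_one.1 hij
  · exfalso
    obtain ⟨k, hk⟩ := ho
    rw [hk, pow_succ, pow_mul, pow_two, hρ2, one_pow, one_mul] at hij
    have h3 : cls ((⟨refl Q v hv, refl_mem_St hv hvv⟩ : St Q v) * (⟨g, hgS⟩ : St Q v)⁻¹) = 1 := by
      rw [map_mul, map_inv, hij, ← hρ, mul_inv_cancel]
    rw [cls_eq_one] at h3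
    have h4 : refl Q v hv * g⁻¹ ∈ ⁅O Q, O Q⁆ := by
      rw [hG.commutator_eq_E]
      exact Sg_le_E v h3
    apply refl_notMem hQ hv (by omega : finrank F V ≠ 4)
    have h5 : refl Q v hv = (refl Q v hv * g⁻¹) * g := by group
    rw [h5]
    refine Subgroup.mul_mem _ h4 ?_
    rw [hG.commutator_eq_E]; exact hg

/-- **the stabiliser of `v` in `Ω(Q)` is generated by the Siegel transformations of `v^⊥`** -/
theorem mem_Sg_of_fix {g : V ≃ₗ[F] V} (hg : g ∈ E Q) (hgv : g v = v) : g ∈ Sg Q v := by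
  by_cases h2 : (2 : F) = 0
  · exact mem_Sg_even hQ hd hv h2 hg hgv
  · exact mem_Sg_odd hQ hd hv h2 hg hgv

end comm

end gen

end Cfsg.Agent.H826.Rg

private theorem dce_f7a5edbdea02 : _root_.True := by
  try have : _root_.True := by simp only [_root_.Cfsg.Agent.H826.Rg.pv.eq_1]
  try have : _root_.True := by simp only [_root_.Cfsg.Agent.H826.Rg.SN.eq_1]
  try have : _root_.True := by simp only [_root_.Cfsg.Agent.H826.Rg.Sg.eq_1]
  try have : _root_.True := by simp only [_root_.Cfsg.Agent.H826.Rg.cls.eq_1]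
  exact _root_.True.intro
end

-- part: H826/Rg/Lin
section
prune_inst 0x4a560204449e20200001880140020006458000520004004002ca20d420008ee62ad82284109a004170a0280410005006000180010004000000400000000010100000016043140a008020018000000000000000000000000000000000000010000000000000
set_option linter.all false
open scoped Cfsg.Agent.FastGrp

/-!
# S3691, residual case D+1 (alpha): linear algebra (helper826)

`V` a quadratic space of dimension `2 m` over a field with `q = p ^ f` elements, `D` a group of isometries which acts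
semiregularly on the vectors of norm `c ≠ 0`, `r` a prime divisor of `|D|` with `ord_r(p) = f m`, `N ≠ 1` a normal
`p`-subgroup of `D`: then `W = C_V(N)` is totally singular of dimension `m`, `D` induces a `p`-group `A` on the vectors with
trivial action on `V / W`, `C_V(a) = W` for `1 ≠ a ∈ A`, `|D|` divides `q ^ (m - 1) (q ^ m - 1)`.
-/

set_option autoImplicit false
set_option linter.unusedSectionVars false

namespace Cfsg.Agent.H826.Rg

open QuadraticMap Module
open Cfsg.Agent.LieClassical.OrthCore Cfsg.Agent.LieClassical.OrthTrans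
open Cfsg.Agent.LieClassical.OrthFinite (exists_sing_perp exists_sing_mem)

/-- counting modulo `r` -/
theorem card_modEq {α : Type*} [Finite α] {r : ℕ} (hr : r.Prime) (f : Equiv.Perm α) (hf : f ^ r = 1) :
    Nat.card α ≡ Nat.card {a // f a = a} [MOD r] := by
  classical
  have := Fintype.ofFinite α
  have := Fact.mk hr
  let g : Function.End α := fun a => f a
  have h2 : ∀ n : ℕ, g ^ n = (fun a => (f ^ n) a : Function.End α) := by
    intro n
    induction n with
    | zero => rfl
    | succ n ih => rw [pow_succ, ih, pow_succ]; rfl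
  have h := Equiv.Perm.card_fixedPoints_modEq (f := g) (p := r) (n := 1) (by
    rw [pow_one, h2, hf]
    rfl)
  rw [← Nat.card_eq_fintype_card, ← Nat.card_eq_fintype_card] at h
  exact h

/-- powers of `p` congruent modulo `r` -/
theorem dvd_of_modEq {p r n a b : ℕ} (hr : r.Prime) (hn : 0 < n) (hrn : orderOf (p : ZMod r) = n) (hab : b ≤ a)
    (h : p ^ a ≡ p ^ b [MOD r]) : n ∣ a - b := by
  have := Fact.mk hr
  have hp0 : (p : ZMod r) ≠ 0 := by
    intro h0
    rw [h0] at hrn
    have : orderOf (0 : ZMod r) = 0 := by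
      rw [orderOf_eq_zero_iff']
      intro n hn0
      rw [zero_pow hn0.ne']
      exact zero_ne_one
    omega
  rw [← ZMod.natCast_eq_natCast_iff, Nat.cast_pow, Nat.cast_pow] at h
  rw [← hrn]
  apply orderOf_dvd_of_pow_eq_one
  have h1 : (p : ZMod r) ^ b * (p : ZMod r) ^ (a - b) = (p : ZMod r) ^ b * 1 := by
    rw [← pow_add, Nat.add_sub_cancel' hab, mul_one, h]
  exact mul_left_cancel₀ (pow_ne_zero _ hp0) h1

section L

variable {F V : Type*} [Field F] [AddCommGroup V] [Module F V] {Q : QuadraticForm F V}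

/-- the fixed vectors -/
def fxv (y : V ≃ₗ[F] V) : Submodule F V := LinearMap.ker (y.toLinearMap - LinearMap.id)

theorem mem_fxv {y : V ≃ₗ[F] V} {v : V} : v ∈ fxv y ↔ y v = v := by
  rw [fxv, LinearMap.mem_ker, LinearMap.sub_apply, sub_eq_zero]
  rfl

/-- the fixed vectors of a group -/
def fxG (N : Subgroup (V ≃ₗ[F] V)) : Submodule F V where
  carrier := {v | ∀ g ∈ N, g v = v}
  add_mem' {a b} ha hb g hg := by rw [map_add, ha g hg, hb g hg]
  zero_mem' g _ := map_zero g
  smul_mem' c x hx g hg := by rw [map_smul, hx g hg]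

variable [Finite F] [FiniteDimensional F V]

/-- **dimensions of invariant subspaces** -/
theorem dvd_dim {p f m r : ℕ} (hF : Nat.card F = p ^ f) (hr : r.Prime) (hfm : 0 < f * m)
    (hrn : orderOf (p : ZMod r) = f * m) {y : V ≃ₗ[F] V} (hy : y ^ r = 1) {S : Submodule F V} (hS : ∀ s ∈ S, y s ∈ S) :
    m ∣ finrank F S - finrank F (S ⊓ fxv y : Submodule F V) := by
  have hfV : Finite V := Module.finite_of_finite F
  have hle : finrank F (S ⊓ fxv y : Submodule F V) ≤ finrank F S := Submodule.finrank_mono inf_le_left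
  let g : S → S := fun s => ⟨y s, hS s s.2⟩
  have hgi : Function.Injective g := by
    intro a b h
    have h1 : y (a : V) = y b := congrArg Subtype.val h
    exact Subtype.ext (y.injective h1)
  let e : Equiv.Perm S := Equiv.ofBijective g (Finite.injective_iff_bijective.1 hgi)
  have he : ∀ (n : ℕ) (s : S), (((e ^ n) s : S) : V) = (y ^ n) s := by
    intro n
    induction n with
    | zero => intro s; rfl
    | succ n ih =>
      intro s
      rw [pow_succ', pow_succ', Equiv.Perm.mul_apply]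
      show y (((e ^ n) s : S) : V) = y ((y ^ n) s)
      rw [ih]
  have her : e ^ r = 1 := by
    ext s
    rw [he, hy]
    rfl
  have h1 := card_modEq hr e her
  have h2 : Nat.card {a : S // e a = a} = Nat.card (S ⊓ fxv y : Submodule F V) := by
    refine Nat.card_congr
      { toFun := fun a => ⟨a.1.1, a.1.2, mem_fxv.2 (congrArg Subtype.val a.2)⟩
        invFun := fun a => ⟨⟨a.1, a.2.1⟩, Subtype.ext (mem_fxv.1 a.2.2)⟩
        left_inv := fun a => rfl
        right_inv := fun a => rfl }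
  rw [h2, Module.natCard_eq_pow_finrank (K := F) (V := S),
    Module.natCard_eq_pow_finrank (K := F) (V := (S ⊓ fxv y : Submodule F V)), hF, ← pow_mul, ← pow_mul] at h1
  have h3 := dvd_of_modEq hr hfm hrn (Nat.mul_le_mul_left f hle) h1
  rw [← Nat.mul_sub] at h3
  have hf0 : 0 < f := by
    rcases Nat.eq_zero_or_pos f with h | h
    · rw [h, zero_mul] at hfm; omega
    · exact h
  exact Nat.dvd_of_mul_dvd_mul_left hf0 h3

omit [Finite F] in
/-- the decomposition `V = C_V(y) + [V, y]` -/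
theorem isCompl_fxv {r : ℕ} (hr0 : (r : F) ≠ 0) {y : V ≃ₗ[F] V} (hy : y ^ r = 1) :
    fxv y ⊔ LinearMap.range (y.toLinearMap - LinearMap.id) = ⊤ := by
  have hdis : fxv y ⊓ LinearMap.range (y.toLinearMap - LinearMap.id) = ⊥ := by
    rw [eq_bot_iff]
    rintro x ⟨hx, z, rfl⟩
    have hx' : y (y z - z) = y z - z := mem_fxv.1 hx
    have hz : ∀ n : ℕ, (y ^ n) z = z + (n : F) • (y z - z) := by
      intro n
      induction n with
      | zero => simp
      | succ n ih =>
        rw [pow_succ']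
        show y ((y ^ n) z) = _
        rw [ih, map_add, map_smul, hx', Nat.cast_succ]
        module
    have h1 := hz r
    rw [hy] at h1
    have h2 : (r : F) • (y z - z) = 0 := by
      have h3 : (1 : V ≃ₗ[F] V) z = z := rfl
      rw [h3] at h1
      exact (left_eq_add.1 h1)
    rw [Submodule.mem_bot]
    exact (smul_eq_zero.1 h2).resolve_left hr0
  apply Submodule.eq_top_of_finrank_eq
  have h1 := LinearMap.finrank_range_add_finrank_ker (y.toLinearMap - LinearMap.id)
  have h2 := Submodule.finrank_sup_add_finrank_inf_eq (fxv y) (LinearMap.range (y.toLinearMap - LinearMap.id))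
  rw [hdis, finrank_bot, add_zero] at h2
  rw [h2, ← h1, add_comm]
  rfl

/-- **an isometry of order `r` which fixes no vector of norm `c` fixes at most a plane** -/
theorem fxv_small {r : ℕ} (hQ : Nondeg Q) (hr0 : (r : F) ≠ 0) {y : V ≃ₗ[F] V} (hyO : y ∈ O Q) (hy : y ^ r = 1) {c : F}
    (hfree : ∀ u, Q u = c → y u ≠ u) : finrank F (fxv y) ≤ 2 := by
  by_contra hcon
  obtain ⟨x, hx, hx0, hQx⟩ := exists_sing_mem (Q := Q) (fxv y) (by omega)
  -- `x` is not perpendicular to `fxv y`
  obtain ⟨z, hz, hzx⟩ : ∃ z ∈ fxv y, polar Q x z ≠ 0 := by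
    by_contra hall
    push Not at hall
    apply hx0
    apply hQ
    intro w
    have hw : w ∈ fxv y ⊔ LinearMap.range (y.toLinearMap - LinearMap.id) := by
      rw [isCompl_fxv hr0 hy]; exact Submodule.mem_top
    obtain ⟨a, ha, b, ⟨t, rfl⟩, rfl⟩ := Submodule.mem_sup.1 hw
    rw [polar_add_right, hall a ha, zero_add]
    show polar Q x (y t - t) = 0
    rw [polar_sub_right]
    nth_rewrite 1 [← mem_fxv.1 hx]
    rw [polar_map hyO, sub_self]
  obtain ⟨z1, hz1m, hxz1⟩ : ∃ z1 ∈ fxv y, polar Q x z1 = 1 :=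
    ⟨(polar Q x z)⁻¹ • z, (fxv y).smul_mem _ hz, by rw [polar_smul_right, smul_eq_mul, inv_mul_cancel₀ hzx]⟩
  have hxx : polar Q x x = 0 := polar_self_of_sing hQx
  have hv : Q (z1 + (c - Q z1) • x) = c := by
    rw [Q_add, QuadraticMap.map_smul, hQx, polar_smul_right, polar_comm, hxz1]
    simp
  exact hfree _ hv (mem_fxv.1 ((fxv y).add_mem hz1m ((fxv y).smul_mem _ hx)))

/-- a `p`-group has nonzero fixed vectors in every invariant subspace -/
theorem exists_fixed {p : ℕ} (hp : p.Prime) {f : ℕ} (hf : 0 < f) (hF : Nat.card F = p ^ f) {N : Subgroup (V ≃ₗ[F] V)}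
    (hN : IsPGroup p N) {S : Submodule F V} (hS : ∀ g ∈ N, ∀ s ∈ S, g s ∈ S) (hS0 : S ≠ ⊥) :
    ∃ s ∈ S, s ≠ 0 ∧ s ∈ fxG N := by
  have := Fact.mk hp
  have hfV : Finite V := Module.finite_of_finite F
  let _ : MulAction N S :=
    { smul := fun g s => ⟨g.1 s, hS _ g.2 _ s.2⟩
      one_smul := fun s => rfl
      mul_smul := fun g h s => rfl }
  have hdim : 0 < finrank F S := by
    rw [Module.finrank_pos_iff]
    exact Submodule.nontrivial_iff_ne_bot.2 hS0
  have hdvd : p ∣ Nat.card S := by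
    rw [Module.natCard_eq_pow_finrank (K := F) (V := S), hF, ← pow_mul]
    exact dvd_pow_self p (Nat.mul_pos hf hdim).ne'
  have h0 : (0 : S) ∈ MulAction.fixedPoints N S := fun g => Subtype.ext (map_zero g.1)
  obtain ⟨b, hb, hb0⟩ := hN.exists_fixed_point_of_prime_dvd_card_of_fixed_point S hdvd h0
  refine ⟨b, b.2, fun h => hb0 (Subtype.ext h.symm), fun g hg => ?_⟩
  exact congrArg Subtype.val (hb ⟨g, hg⟩)

/-- the perpendicular subspace -/
def pp (Q : QuadraticForm F V) (W : Submodule F V) : Submodule F V := LinearMap.BilinForm.orthogonal (polarBilin Q) W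

omit [Finite F] [FiniteDimensional F V] in
theorem mem_pp {W : Submodule F V} {x : V} : x ∈ pp Q W ↔ ∀ w ∈ W, polar Q w x = 0 := Iff.rfl

omit [Finite F] in
theorem finrank_pp (hQ : Nondeg Q) (W : Submodule F V) : finrank F (pp Q W) = finrank F V - finrank F W := by
  have hnd : LinearMap.BilinForm.Nondegenerate (polarBilin Q) :=
    ⟨fun x hx => hQ x hx, fun x hx => hQ x fun y => by rw [polar_comm]; exact hx y⟩
  exact LinearMap.BilinForm.finrank_orthogonal hnd W

/-- the linear data -/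
structure LD (Q : QuadraticForm F V) (D : Subgroup (V ≃ₗ[F] V)) (p f m r : ℕ) (c : F) : Prop where
  nd : Nondeg Q
  prime : p.Prime
  cardF : Nat.card F = p ^ f
  dim : finrank F V = 2 * m
  hm : 3 ≤ m
  le : D ≤ O Q
  hc : c ≠ 0
  free : ∀ g ∈ D, ∀ u, Q u = c → g u = u → g = 1
  rprime : r.Prime
  ord : orderOf (p : ZMod r) = f * m
  rD : r ∣ Nat.card D

/-- a normal `p`-subgroup -/
structure NP (D : Subgroup (V ≃ₗ[F] V)) (p : ℕ) (N : Subgroup (V ≃ₗ[F] V)) : Prop where
  le : N ≤ D
  norm : ∀ g ∈ D, ∀ n ∈ N, g * n * g⁻¹ ∈ N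
  pgrp : IsPGroup p N
  ne : N ≠ ⊥

namespace LD

variable {D N : Subgroup (V ≃ₗ[F] V)} {p f m r : ℕ} {c : F} (h : LD Q D p f m r c)
include h

theorem fpos : 0 < f := by
  rcases Nat.eq_zero_or_pos f with h0 | h0
  · have h1 := h.cardF
    rw [h0, pow_zero] at h1
    have h2 : 1 < Nat.card F := Finite.one_lt_card
    omega
  · exact h0

theorem fmpos : 0 < f * m := Nat.mul_pos h.fpos (by have := h.hm; omega)

theorem rnep : r ≠ p := by
  rintro rfl
  have h1 := h.ord
  have := Fact.mk h.rprime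
  rw [ZMod.natCast_self] at h1
  have h2 : orderOf (0 : ZMod r) = 0 := by
    rw [orderOf_eq_zero_iff']
    intro n hn0
    rw [zero_pow hn0.ne']
    exact zero_ne_one
  have h3 := h.fmpos
  omega

theorem charP : CharP F p := by
  have := Fact.mk h.prime
  have := Fintype.ofFinite F
  exact charP_of_card_eq_prime_pow (by rw [← Nat.card_eq_fintype_card]; exact h.cardF)

theorem rF : (r : F) ≠ 0 := by
  have := h.charP
  intro h0
  have h1 := (CharP.cast_eq_zero_iff F p r).1 h0
  exact h.rnep ((Nat.prime_dvd_prime_iff_eq h.prime h.rprime).1 h1).symm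

theorem exists_y : ∃ y ∈ D, orderOf y = r := by
  have hfV : Finite V := Module.finite_of_finite F
  have : Finite (V ≃ₗ[F] V) := Finite.of_injective (fun e : V ≃ₗ[F] V => (e : V → V)) DFunLike.coe_injective
  have := Fact.mk h.rprime
  obtain ⟨y, hy⟩ := exists_prime_orderOf_dvd_card' r h.rD
  exact ⟨y, y.2, by rw [Subgroup.orderOf_coe, hy]⟩

theorem fxv_eq_bot {y : V ≃ₗ[F] V} (hyD : y ∈ D) (hy : orderOf y = r) : fxv y = ⊥ := by
  have hyr : y ^ r = 1 := by rw [← hy, pow_orderOf_eq_one]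
  have h1 := fxv_small h.nd h.rF (h.le hyD) hyr (c := c) (fun u hu h2 => by
    have h3 := h.free y hyD u hu h2
    rw [h3, orderOf_one] at hy
    exact h.rprime.one_lt.ne hy)
  have h2 := dvd_dim h.cardF h.rprime h.fmpos h.ord hyr (S := ⊤) (fun s _ => Submodule.mem_top)
  rw [top_inf_eq, finrank_top, h.dim] at h2
  have h3 := h.hm
  obtain ⟨k, hk⟩ := h2
  have h4 : finrank F (fxv y) = 0 := by
    have h5 : k = 2 := by
      rcases Nat.lt_trichotomy k 2 with h6 | h6 | h6
      · have : m * k ≤ m * 1 := Nat.mul_le_mul_left m (by omega)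
        omega
      · exact h6
      · have : m * 3 ≤ m * k := Nat.mul_le_mul_left m (by omega)
        omega
    rw [h5] at hk
    omega
  exact Submodule.finrank_eq_zero.1 h4

/-- the dimension of an invariant subspace is a multiple of `m` -/
theorem dvd_finrank {y : V ≃ₗ[F] V} (hyD : y ∈ D) (hy : orderOf y = r) {S : Submodule F V} (hS : ∀ s ∈ S, y s ∈ S) :
    m ∣ finrank F S := by
  have h1 := dvd_dim h.cardF h.rprime h.fmpos h.ord (by rw [← hy, pow_orderOf_eq_one]) hS
  rwa [h.fxv_eq_bot hyD hy, inf_bot_eq, finrank_bot, Nat.sub_zero] at h1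

theorem finrank_cases {y : V ≃ₗ[F] V} (hyD : y ∈ D) (hy : orderOf y = r) {S : Submodule F V} (hS : ∀ s ∈ S, y s ∈ S) :
    S = ⊥ ∨ finrank F S = m ∨ S = ⊤ := by
  obtain ⟨k, hk⟩ := h.dvd_finrank hyD hy hS
  have h1 := Submodule.finrank_le S
  rw [h.dim, hk] at h1
  have h2 := h.hm
  have h3 : k ≤ 2 := by
    by_contra hcon
    have : m * 3 ≤ m * k := Nat.mul_le_mul_left m (by omega)
    omega
  have h4 : k = 0 ∨ k = 1 ∨ k = 2 := by omega
  rcases h4 with rfl | rfl | rfl
  · left
    exact Submodule.finrank_eq_zero.1 (by rw [hk, mul_zero])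
  · right; left
    rw [hk, mul_one]
  · right; right
    apply Submodule.eq_top_of_finrank_eq
    rw [hk, h.dim, mul_comm]

/-- **the fixed space of a normal `p`-subgroup** -/
theorem finrank_fxG (hN : NP D p N) : finrank F (fxG N) = m := by
  obtain ⟨y, hyD, hy⟩ := h.exists_y
  rcases h.finrank_cases hyD hy (S := fxG N) (fun v hv g hg => by
    have h1 := hN.norm _ (D.inv_mem hyD) g hg
    have h2 := hv _ h1
    have h3 : (y⁻¹ * g * y⁻¹⁻¹) v = y.symm (g (y v)) := by rw [inv_inv]; rfl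
    rw [h3, LinearEquiv.symm_apply_eq] at h2
    exact h2) with h1 | h1 | h1
  · exfalso
    obtain ⟨s, -, hs0, hs⟩ := exists_fixed h.prime h.fpos h.cardF hN.pgrp (S := ⊤) (fun g _ s _ => Submodule.mem_top)
      (by
        intro h2
        have h3 := h.dim
        have h4 := h.hm
        rw [← finrank_top, h2, finrank_bot] at h3
        omega)
    rw [h1, Submodule.mem_bot] at hs
    exact hs0 hs
  · exact h1
  · exfalso
    apply hN.ne
    rw [Subgroup.eq_bot_iff_forall]
    intro g hg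
    ext v
    have h2 : v ∈ fxG N := by rw [h1]; exact Submodule.mem_top
    exact h2 g hg

/-- **the fixed space is its own perp** -/
theorem pp_fxG (hN : NP D p N) : pp Q (fxG N) = fxG N := by
  obtain ⟨y, hyD, hy⟩ := h.exists_y
  have hW := h.finrank_fxG hN
  have h2m := h.hm
  have hinv : ∀ v ∈ fxG N, ∀ g ∈ D, g v ∈ fxG N := by
    intro v hv g hg n hn
    have h1 := hN.norm _ (D.inv_mem hg) n hn
    have h2 := hv _ h1
    have h3 : (g⁻¹ * n * g⁻¹⁻¹) v = g.symm (n (g v)) := by rw [inv_inv]; rfl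
    rw [h3, LinearEquiv.symm_apply_eq] at h2
    exact h2
  have hpinv : ∀ v ∈ pp Q (fxG N), ∀ g ∈ D, g v ∈ pp Q (fxG N) := by
    intro v hv g hg w hw
    have h1 := hinv w hw _ (D.inv_mem hg)
    have h2 := hv _ h1
    rw [polarBilin_apply_apply, ← polar_map (h.le hg)] at h2
    have h3 : g (g⁻¹ w) = w := g.apply_symm_apply w
    rw [h3] at h2
    exact h2
  have hpr : finrank F (pp Q (fxG N)) = m := by rw [finrank_pp h.nd, h.dim, hW]; omega
  rcases h.finrank_cases hyD hy (S := fxG N ⊓ pp Q (fxG N)) (fun v hv => ⟨hinv v hv.1 y hyD, hpinv v hv.2 y hyD⟩) with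
    h1 | h1 | h1
  · exfalso
    obtain ⟨s, hs1, hs0, hs⟩ := exists_fixed h.prime h.fpos h.cardF hN.pgrp (S := pp Q (fxG N))
      (fun g hg s hs => hpinv s hs g (hN.le hg)) (by
        intro h2
        rw [h2, finrank_bot] at hpr
        omega)
    have h3 : s ∈ fxG N ⊓ pp Q (fxG N) := ⟨hs, hs1⟩
    rw [h1, Submodule.mem_bot] at h3
    exact hs0 h3
  · have h3 : fxG N ⊓ pp Q (fxG N) = fxG N := Submodule.eq_of_le_of_finrank_eq inf_le_left (by rw [h1, hW])
    have h4 : fxG N ⊓ pp Q (fxG N) = pp Q (fxG N) := Submodule.eq_of_le_of_finrank_eq inf_le_right (by rw [h1, hpr])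
    rw [← h4, h3]
  · exfalso
    have h3 : finrank F (fxG N ⊓ pp Q (fxG N) : Submodule F V) ≤ finrank F (fxG N) := Submodule.finrank_mono inf_le_left
    rw [h1, finrank_top, h.dim, hW] at h3
    omega

/-- **the fixed space is totally singular** -/
theorem sing_fxG (hN : NP D p N) : ∀ w ∈ fxG N, Q w = 0 := by
  obtain ⟨y, hyD, hy⟩ := h.exists_y
  have hW := h.finrank_fxG hN
  have hpp := h.pp_fxG hN
  have hB : ∀ w ∈ fxG N, ∀ w' ∈ fxG N, polar Q w w' = 0 := by
    intro w hw w' hw'
    rw [← hpp] at hw'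
    exact hw' w hw
  let Z : Submodule F V :=
    { carrier := {w | w ∈ fxG N ∧ Q w = 0}
      add_mem' := by
        rintro a b ⟨ha, ha'⟩ ⟨hb, hb'⟩
        exact ⟨(fxG N).add_mem ha hb, by rw [Q_add, ha', hb', hB a ha b hb, add_zero, add_zero]⟩
      zero_mem' := ⟨(fxG N).zero_mem, QuadraticMap.map_zero Q⟩
      smul_mem' := by
        rintro a b ⟨hb, hb'⟩
        exact ⟨(fxG N).smul_mem a hb, by rw [QuadraticMap.map_smul, hb', smul_zero]⟩ }
  have hZ : Z ≤ fxG N := fun w hw => hw.1
  rcases h.finrank_cases hyD hy (S := Z) (fun v hv => ⟨fun g hg => by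
    have h1 := hN.norm _ (D.inv_mem hyD) g hg
    have h2 := hv.1 _ h1
    have h3 : (y⁻¹ * g * y⁻¹⁻¹) v = y.symm (g (y v)) := by rw [inv_inv]; rfl
    rw [h3, LinearEquiv.symm_apply_eq] at h2
    exact h2, by rw [mem_O.1 (h.le hyD)]; exact hv.2⟩) with h1 | h1 | h1
  · exfalso
    obtain ⟨w, hw, hw0, hQw⟩ := exists_sing_mem (Q := Q) (fxG N) (by rw [hW]; exact h.hm)
    have h2 : w ∈ Z := ⟨hw, hQw⟩
    rw [h1, Submodule.mem_bot] at h2
    exact hw0 h2
  · have h2 : Z = fxG N := Submodule.eq_of_le_of_finrank_eq hZ (by rw [h1, hW])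
    intro w hw
    rw [← h2] at hw
    exact hw.2
  · intro w hw
    have h2 : w ∈ Z := by rw [h1]; exact Submodule.mem_top
    exact h2.2

/-- invariance of the fixed space of a normal subgroup -/
theorem fxG_inv (hN : NP D p N) {v : V} (hv : v ∈ fxG N) {g : V ≃ₗ[F] V} (hg : g ∈ D) : g v ∈ fxG N := by
  intro n hn
  have h1 := hN.norm _ (D.inv_mem hg) n hn
  have h2 := hv _ h1
  have h3 : (g⁻¹ * n * g⁻¹⁻¹) v = g.symm (n (g v)) := by rw [inv_inv]; rfl
  rw [h3, LinearEquiv.symm_apply_eq] at h2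
  exact h2

/-- all normal `p`-subgroups have the same fixed space -/
theorem fxG_eq {N' : Subgroup (V ≃ₗ[F] V)} (hN : NP D p N) (hN' : NP D p N') : fxG N = fxG N' := by
  have hsup : NP D p (N ⊔ N') := by
    refine ⟨sup_le hN.le hN'.le, ?_, ?_, ?_⟩
    · intro g hg n hn
      have h1 : N ⊔ N' ≤ (N ⊔ N').comap (MulAut.conj g).toMonoidHom := by
        refine sup_le ?_ ?_
        · intro x hx
          exact (le_sup_left : N ≤ N ⊔ N') (hN.norm g hg x hx)
        · intro x hx
          exact (le_sup_right : N' ≤ N ⊔ N') (hN'.norm g hg x hx)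
      exact h1 hn
    · apply IsPGroup.to_sup_of_normal_right' hN.pgrp hN'.pgrp
      intro g hg
      rw [Subgroup.mem_normalizer_iff]
      intro n
      constructor
      · intro hn
        exact hN'.norm g (hN.le hg) n hn
      · intro hn
        have := hN'.norm g⁻¹ (D.inv_mem (hN.le hg)) _ hn
        have e : g⁻¹ * (g * n * g⁻¹) * g⁻¹⁻¹ = n := by group
        rwa [e] at this
    · intro h1
      apply hN.ne
      rw [eq_bot_iff, ← h1]
      exact le_sup_left
  have h1 : fxG (N ⊔ N') ≤ fxG N := fun v hv g hg => hv g ((le_sup_left : N ≤ N ⊔ N') hg)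
  have h2 : fxG (N ⊔ N') ≤ fxG N' := fun v hv g hg => hv g ((le_sup_right : N' ≤ N ⊔ N') hg)
  rw [← Submodule.eq_of_le_of_finrank_eq h1 (by rw [h.finrank_fxG hsup, h.finrank_fxG hN]),
    Submodule.eq_of_le_of_finrank_eq h2 (by rw [h.finrank_fxG hsup, h.finrank_fxG hN'])]

/-- an isometry trivial on `V / W` is trivial on `W` -/
theorem triv_on (hN : NP D p N) {a : V ≃ₗ[F] V} (haO : a ∈ O Q) (ha : ∀ v, a v - v ∈ fxG N) : ∀ w ∈ fxG N, a w = w := by
  have hpp := h.pp_fxG hN
  intro w hw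
  have h1 : a w - w = 0 := by
    apply h.nd
    intro v
    have h3 : polar Q (a w) (a v - v) = 0 := by
      have h4 : a w ∈ fxG N := by
        have := (fxG N).add_mem (ha w) hw
        rwa [sub_add_cancel] at this
      have h5 := ha v
      rw [← hpp] at h5
      exact h5 _ h4
    rw [polar_sub_right, polar_map haO] at h3
    rw [polar_sub_left]
    linear_combination -h3
  exact sub_eq_zero.1 h1

/-- the elements of `D` trivial on `V / W` -/
def AA (D : Subgroup (V ≃ₗ[F] V)) (W : Submodule F V) : Subgroup D where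
  carrier := {a | ∀ v, (a : V ≃ₗ[F] V) v - v ∈ W}
  mul_mem' {a b} ha hb v := by
    have h1 : ((a * b : D) : V ≃ₗ[F] V) v - v = ((a : V ≃ₗ[F] V) ((b : V ≃ₗ[F] V) v) - (b : V ≃ₗ[F] V) v) +
        ((b : V ≃ₗ[F] V) v - v) := by
      rw [sub_add_sub_cancel]; rfl
    rw [h1]
    exact W.add_mem (ha _) (hb v)
  one_mem' v := by
    show v - v ∈ W
    rw [sub_self]; exact W.zero_mem
  inv_mem' {a} ha v := by
    have h1 : ((a⁻¹ : D) : V ≃ₗ[F] V) v - v = -((a : V ≃ₗ[F] V) ((a : V ≃ₗ[F] V).symm v) - (a : V ≃ₗ[F] V).symm v) := by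
      rw [LinearEquiv.apply_symm_apply, neg_sub]; rfl
    rw [h1]
    exact W.neg_mem (ha _)

omit h in
theorem mem_AA {W : Submodule F V} {a : D} : a ∈ AA D W ↔ ∀ v, (a : V ≃ₗ[F] V) v - v ∈ W := Iff.rfl

/-- an isometry trivial on `V / W` has order dividing `p` -/
theorem pow_p (hN : NP D p N) {a : V ≃ₗ[F] V} (haO : a ∈ O Q) (ha : ∀ v, a v - v ∈ fxG N) : a ^ p = 1 := by
  have h1 := h.triv_on hN haO ha
  have := h.charP
  have hz : ∀ (n : ℕ) (v : V), (a ^ n) v = v + (n : F) • (a v - v) := by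
    intro n v
    induction n with
    | zero => simp
    | succ n ih =>
      rw [pow_succ']
      show a ((a ^ n) v) = _
      rw [ih, map_add, map_smul, h1 _ (ha v), Nat.cast_succ]
      module
  ext v
  rw [hz, CharP.cast_eq_zero, zero_smul, add_zero]
  rfl

theorem isPGroup_AA (hN : NP D p N) : IsPGroup p (AA D (fxG N)) := by
  intro a
  refine ⟨1, ?_⟩
  rw [pow_one]
  apply Subtype.ext
  apply Subtype.ext
  exact h.pow_p hN (h.le a.1.2) a.2

theorem AA_ne_bot (hN : NP D p N) : AA D (fxG N) ≠ ⊥ := by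
  intro h1
  apply hN.ne
  rw [Subgroup.eq_bot_iff_forall]
  intro n hn
  have h2 : (⟨n, hN.le hn⟩ : D) ∈ AA D (fxG N) := by
    intro v
    rw [← h.pp_fxG hN]
    intro w hw
    have h3 : polar Q w (n v) = polar Q w v := by
      have h4 := polar_map (h.le (hN.le hn)) w v
      rw [hw n hn] at h4
      exact h4
    show polar Q w (n v - v) = 0
    rw [polar_sub_right, h3, sub_self]
  rw [h1, Subgroup.mem_bot] at h2
  exact congrArg Subtype.val h2

/-- vectors of `W` dual to the cosets of `W` -/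
theorem exists_omega (hN : NP D p N) : ∃ ω : V ⧸ fxG N → V, ∀ u, u ∉ fxG N →
    ω (Submodule.Quotient.mk u) ∈ fxG N ∧ polar Q u (ω (Submodule.Quotient.mk u)) = 1 := by
  classical
  have hpp := h.pp_fxG hN
  have hB : ∀ w ∈ fxG N, ∀ w' ∈ fxG N, polar Q w w' = 0 := by
    intro w hw w' hw'
    rw [← hpp] at hw'
    exact hw' w hw
  have key : ∀ x : V ⧸ fxG N, ∃ w, ∀ u, Submodule.Quotient.mk u = x → u ∉ fxG N → w ∈ fxG N ∧ polar Q u w = 1 := by
    intro x
    obtain ⟨u0, rfl⟩ := Submodule.Quotient.mk_surjective _ x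
    by_cases hu0 : u0 ∈ fxG N
    · refine ⟨0, fun u hu hun => ?_⟩
      exfalso
      apply hun
      rw [Submodule.Quotient.eq] at hu
      have := (fxG N).add_mem hu hu0
      rwa [sub_add_cancel] at this
    · obtain ⟨w, hw, hw0⟩ : ∃ w ∈ fxG N, polar Q w u0 ≠ 0 := by
        by_contra hcon
        push Not at hcon
        apply hu0
        rw [← hpp]
        exact hcon
      have hw0' : polar Q u0 w ≠ 0 := by rw [polar_comm]; exact hw0
      refine ⟨(polar Q u0 w)⁻¹ • w, fun u hu _ => ⟨(fxG N).smul_mem _ hw, ?_⟩⟩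
      rw [Submodule.Quotient.eq] at hu
      have h1 : polar Q u w = polar Q u0 w := by
        have h2 := hB _ hu w hw
        rw [polar_sub_left] at h2
        exact sub_eq_zero.1 h2
      rw [polar_smul_right, smul_eq_mul, h1, inv_mul_cancel₀ hw0']
  choose ω hω using key
  exact ⟨ω, fun u hu => hω _ u rfl hu⟩

/-- **the number of vectors of norm `c`** -/
theorem card_norm (hN : NP D p N) : Nat.card {u : V // Q u = c} = (p ^ (f * m) - 1) * p ^ (f * (m - 1)) := by
  classical
  have hfV : Finite V := Module.finite_of_finite F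
  obtain ⟨ω, hω⟩ := h.exists_omega hN
  have hs := h.sing_fxG hN
  have hW := h.finrank_fxG hN
  have hnW : ∀ u, Q u = c → u ∉ fxG N := fun u hu hu' => h.hc (by rw [← hu, hs u hu'])
  -- adding an element of `W`
  have hmk : ∀ (u w : V), w ∈ fxG N → (Submodule.Quotient.mk (u + w) : V ⧸ fxG N) = Submodule.Quotient.mk u := by
    intro u w hw
    rw [Submodule.Quotient.eq, add_sub_cancel_left]
    exact hw
  have hadd : ∀ (u : V), u ∉ fxG N → ∀ t : F, u + t • ω (Submodule.Quotient.mk u) ∉ fxG N := by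
    intro u hu t h1
    apply hu
    have := (fxG N).sub_mem h1 ((fxG N).smul_mem t (hω u hu).1)
    rwa [add_sub_cancel_right] at this
  have hQ : ∀ (u : V), u ∉ fxG N → ∀ t : F, Q (u + t • ω (Submodule.Quotient.mk u)) = Q u + t := by
    intro u hu t
    rw [Q_add, QuadraticMap.map_smul, hs _ (hω u hu).1, polar_smul_right, (hω u hu).2]
    simp
  let e : {u : V // u ∉ fxG N} ≃ {u : V // Q u = c} × F :=
    { toFun := fun u => (⟨u.1 + (c - Q u.1) • ω (Submodule.Quotient.mk u.1), by
        rw [hQ _ u.2, add_sub_cancel]⟩, Q u.1)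
      invFun := fun x => ⟨x.1.1 + (x.2 - c) • ω (Submodule.Quotient.mk x.1.1), hadd _ (hnW _ x.1.2) _⟩
      left_inv := fun u => by
        apply Subtype.ext
        show u.1 + (c - Q u.1) • ω (Submodule.Quotient.mk u.1) +
          (Q u.1 - c) • ω (Submodule.Quotient.mk (u.1 + (c - Q u.1) • ω (Submodule.Quotient.mk u.1))) = u.1
        rw [hmk _ _ ((fxG N).smul_mem _ (hω u.1 u.2).1)]
        module
      right_inv := fun x => by
        obtain ⟨⟨u, hu⟩, t⟩ := x
        have h1 : Q (u + (t - c) • ω (Submodule.Quotient.mk u)) = t := by rw [hQ _ (hnW u hu), hu]; ring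
        refine Prod.ext (Subtype.ext ?_) h1
        show u + (t - c) • ω (Submodule.Quotient.mk u) + (c - Q (u + (t - c) • ω (Submodule.Quotient.mk u))) •
          ω (Submodule.Quotient.mk (u + (t - c) • ω (Submodule.Quotient.mk u))) = u
        rw [h1, hmk _ _ ((fxG N).smul_mem _ (hω u (hnW u hu)).1)]
        module }
  have h1 := Nat.card_congr e
  rw [Nat.card_prod] at h1
  have h2 : Nat.card {u : V // u ∉ fxG N} = p ^ (2 * (f * m)) - p ^ (f * m) := by
    have h3 : Nat.card {u : V // u ∉ fxG N} = Nat.card V - Nat.card (fxG N) := by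
      have := Fintype.ofFinite V
      have := Fintype.ofFinite (fxG N)
      rw [Nat.card_eq_fintype_card, Nat.card_eq_fintype_card, Nat.card_eq_fintype_card, Fintype.card_subtype_compl]
    rw [h3, Module.natCard_eq_pow_finrank (K := F) (V := V), Module.natCard_eq_pow_finrank (K := F) (V := fxG N), h.cardF,
      h.dim, hW, ← pow_mul, ← pow_mul]
    congr 2
    ring
  rw [h2, h.cardF] at h1
  have hq : 0 < p ^ f := Nat.pow_pos h.prime.pos
  apply Nat.eq_of_mul_eq_mul_right hq
  rw [← h1, mul_assoc, ← pow_add]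
  have h4 : f * (m - 1) + f = f * m := by
    obtain ⟨k, hk⟩ : ∃ k, m = k + 1 := ⟨m - 1, by have := h.hm; omega⟩
    rw [hk, Nat.add_sub_cancel]
    ring
  rw [h4, Nat.sub_mul, one_mul, ← pow_add, two_mul]

/-- **`|D|` divides `q ^ (m - 1) (q ^ m - 1)`** -/
theorem card_dvd (hN : NP D p N) : Nat.card D ∣ p ^ (f * (m - 1)) * (p ^ (f * m) - 1) := by
  have hfV : Finite V := Module.finite_of_finite F
  rw [mul_comm, ← h.card_norm hN]
  let _ : MulAction D {u : V // Q u = c} :=
    { smul := fun g u => ⟨(g : V ≃ₗ[F] V) u.1, by rw [mem_O.1 (h.le g.2)]; exact u.2⟩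
      one_smul := fun u => rfl
      mul_smul := fun a b u => rfl }
  have hst : ∀ u : {u : V // Q u = c}, MulAction.stabilizer D u = ⊥ := by
    intro u
    rw [Subgroup.eq_bot_iff_forall]
    intro g hg
    apply Subtype.ext
    exact h.free g g.2 u.1 u.2 (congrArg Subtype.val hg)
  have e := MulAction.selfEquivOrbitsQuotientProd hst
  rw [Nat.card_congr e, Nat.card_prod]
  exact Dvd.intro_left _ rfl

/-- the order of the `p`-subgroups of `D` -/
theorem card_le_of_pgroup (hN : NP D p N) {A : Subgroup D} (hA : IsPGroup p A) :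
    ∃ a, Nat.card A = p ^ a ∧ a ≤ f * (m - 1) := by
  have hfV : Finite V := Module.finite_of_finite F
  have : Finite (V ≃ₗ[F] V) := Finite.of_injective (fun e : V ≃ₗ[F] V => (e : V → V)) DFunLike.coe_injective
  have := Fact.mk h.prime
  obtain ⟨a, ha⟩ := IsPGroup.iff_card.1 hA
  refine ⟨a, ha, ?_⟩
  have h1 : p ^ a ∣ p ^ (f * (m - 1)) * (p ^ (f * m) - 1) := by
    rw [← ha]
    exact (Subgroup.card_subgroup_dvd_card A).trans (h.card_dvd hN)
  have h2 : Nat.Coprime (p ^ a) (p ^ (f * m) - 1) := by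
    apply Nat.Coprime.pow_left
    rw [Nat.Prime.coprime_iff_not_dvd h.prime]
    intro h3
    have h4 : p ∣ p ^ (f * m) := dvd_pow_self p h.fmpos.ne'
    have h5 : 1 ≤ p ^ (f * m) := Nat.one_le_pow _ _ h.prime.pos
    have h6 : p ∣ p ^ (f * m) - (p ^ (f * m) - 1) := Nat.dvd_sub h4 h3
    have h7 : p ^ (f * m) - (p ^ (f * m) - 1) = 1 := by omega
    rw [h7] at h6
    exact h.prime.one_lt.ne' (Nat.dvd_one.1 h6)
  have h3 := h2.dvd_of_dvd_mul_right h1
  exact (Nat.pow_dvd_pow_iff_le_right h.prime.one_lt).1 h3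

theorem card_AA_lt (hN : NP D p N) : Nat.card (AA D (fxG N)) < p ^ (f * m) := by
  obtain ⟨a, ha, hle⟩ := h.card_le_of_pgroup hN (h.isPGroup_AA hN)
  rw [ha]
  apply Nat.pow_lt_pow_right h.prime.one_lt
  refine lt_of_le_of_lt hle ?_
  exact Nat.mul_lt_mul_of_pos_left (by have := h.hm; omega) h.fpos

/-- `A` is normal in `D` -/
theorem AA_conj (hN : NP D p N) (g a : D) (ha : a ∈ AA D (fxG N)) : g * a * g⁻¹ ∈ AA D (fxG N) := by
  intro v
  have h1 : ((g * a * g⁻¹ : D) : V ≃ₗ[F] V) v - v = (g : V ≃ₗ[F] V) ((a : V ≃ₗ[F] V) ((g : V ≃ₗ[F] V).symm v) -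
      (g : V ≃ₗ[F] V).symm v) := by
    rw [map_sub, LinearEquiv.apply_symm_apply]; rfl
  rw [h1]
  exact h.fxG_inv hN (ha _) g.2

/-- **an element of order `r` centralizes `A`** -/
theorem comm_AA (hN : NP D p N) {y : D} (hy : orderOf y = r) : ∀ a ∈ AA D (fxG N), y * a * y⁻¹ = a := by
  have hfV : Finite V := Module.finite_of_finite F
  have : Finite (V ≃ₗ[F] V) := Finite.of_injective (fun e : V ≃ₗ[F] V => (e : V → V)) DFunLike.coe_injective
  have := Fact.mk h.prime
  set A := AA D (fxG N) with hA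
  let g : A → A := fun a => ⟨y * a * y⁻¹, h.AA_conj hN y a a.2⟩
  have hgi : Function.Injective g := by
    intro a b hab
    have h1 : y * (a : D) * y⁻¹ = y * b * y⁻¹ := congrArg Subtype.val hab
    exact Subtype.ext (mul_left_cancel (mul_right_cancel h1))
  let e : Equiv.Perm A := Equiv.ofBijective g (Finite.injective_iff_bijective.1 hgi)
  have he : ∀ (n : ℕ) (a : A), (((e ^ n) a : A) : D) = y ^ n * a * (y ^ n)⁻¹ := by
    intro n
    induction n with
    | zero => intro a; simp
    | succ n ih =>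
      intro a
      rw [pow_succ', pow_succ', Equiv.Perm.mul_apply]
      show y * (((e ^ n) a : A) : D) * y⁻¹ = _
      rw [ih]
      group
  have her : e ^ r = 1 := by
    ext a
    rw [he, ← hy, pow_orderOf_eq_one]
    simp
  have h1 := card_modEq h.rprime e her
  let C : Subgroup A := (Subgroup.centralizer {y}).subgroupOf A
  have h2 : Nat.card {a : A // e a = a} = Nat.card C := by
    refine Nat.card_congr (Equiv.subtypeEquivRight fun a => ?_)
    have h3 : (e a = a) ↔ y * (a : D) * y⁻¹ = a := ⟨fun h => congrArg Subtype.val h, fun h => Subtype.ext h⟩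
    rw [h3]
    show _ ↔ (a : D) ∈ Subgroup.centralizer {y}
    rw [Subgroup.mem_centralizer_singleton_iff, mul_inv_eq_iff_eq_mul]
    exact eq_comm
  obtain ⟨a, ha, hle⟩ := h.card_le_of_pgroup hN (h.isPGroup_AA hN)
  obtain ⟨b, hb⟩ := IsPGroup.iff_card.1 ((h.isPGroup_AA hN).to_subgroup C)
  have hba : b ≤ a := by
    rw [← Nat.pow_dvd_pow_iff_le_right h.prime.one_lt, ← ha, ← hb]
    exact Subgroup.card_subgroup_dvd_card C
  rw [h2, ha, hb] at h1
  have h3 := dvd_of_modEq h.rprime h.fmpos h.ord hba h1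
  have h4 : f * (m - 1) < f * m := Nat.mul_lt_mul_of_pos_left (by have := h.hm; omega) h.fpos
  have h5 : a - b = 0 := Nat.eq_zero_of_dvd_of_lt h3 (by omega)
  have h6 : a = b := by omega
  have h7 : C = ⊤ := by
    apply Subgroup.eq_top_of_card_eq
    rw [hb, ha, h6]
  intro x hx
  have h8 : (⟨x, hx⟩ : A) ∈ C := by rw [h7]; exact Subgroup.mem_top _
  have h9 : x ∈ Subgroup.centralizer {y} := h8
  rw [Subgroup.mem_centralizer_singleton_iff] at h9
  rw [← h9, mul_inv_cancel_right]

/-- **`C_V(a) = W` for `1 ≠ a ∈ A`** -/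
theorem fix_AA (hN : NP D p N) {a : D} (ha : a ∈ AA D (fxG N)) (ha1 : a ≠ 1) {v : V} (hv : (a : V ≃ₗ[F] V) v = v) :
    v ∈ fxG N := by
  obtain ⟨y, hyD, hy⟩ := h.exists_y
  have hy' : orderOf (⟨y, hyD⟩ : D) = r := by rw [← hy, ← Subgroup.orderOf_coe]
  have hc := h.comm_AA hN hy' a ha
  have hle : fxG N ≤ fxv (a : V ≃ₗ[F] V) := fun w hw => mem_fxv.2 (h.triv_on hN (h.le a.2) ha w hw)
  rcases h.finrank_cases hyD hy (S := fxv (a : V ≃ₗ[F] V)) (fun s hs => by
    rw [mem_fxv] at hs ⊢
    have h1 : ((a : V ≃ₗ[F] V) * y) = y * a := by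
      have h2 := congrArg Subtype.val (mul_inv_eq_iff_eq_mul.1 hc)
      exact h2.symm
    have h2 : (a : V ≃ₗ[F] V) (y s) = ((a : V ≃ₗ[F] V) * y) s := rfl
    rw [h2, h1]
    show y ((a : V ≃ₗ[F] V) s) = y s
    rw [hs]) with h1 | h1 | h1
  · exfalso
    rw [h1, le_bot_iff] at hle
    have h2 := h.finrank_fxG hN
    rw [hle, finrank_bot] at h2
    have := h.hm
    omega
  · rw [Submodule.eq_of_le_of_finrank_eq hle (by rw [h1, h.finrank_fxG hN])]
    exact mem_fxv.2 hv
  · exfalso
    apply ha1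
    apply Subtype.ext
    ext w
    have h2 : w ∈ fxv (a : V ≃ₗ[F] V) := by rw [h1]; exact Submodule.mem_top
    exact mem_fxv.1 h2

end LD

end L

end Cfsg.Agent.H826.Rg

private theorem dce_71bc757073cb : _root_.True := by
  try have : _root_.True := by simp only [_root_.Cfsg.Agent.H826.Rg.fxv.eq_1]
  exact _root_.True.intro
end

-- part: H177/Rg/SpOver
section
prune_inst 0x4b43065047da2020000188014302000647800052200400400a4e20f420b49ac62adc228412bb004171a0284c12805006001180010424000000e0000000005010000001604b148a008020018000000000000000000000000000000000000010000000000000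
set_option linter.all false
open scoped Cfsg.Agent.FastGrp

/-!
# S3691, task T2: overgroups of `Ω(Q)` in the symplectic group, characteristic two (helper177)

* `tv`, `sp_mem` : the symplectic transvections generate the isometry group of the polar form;
* `sp_over` : a group between `E Q` and the isometry group of the polar form lies in `O Q` or contains all isometries
  of the polar form.
-/

set_option autoImplicit false

namespace Cfsg.Agent.H177.Rg

open Module QuadraticMap Cfsg.Agent.LieClassical.OrthCore Cfsg.Agent.LieClassical.OrthTrans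
  Cfsg.Agent.LieClassical.OrthFinite

universe u v

variable {F : Type u} [Field F] {V : Type v} [AddCommGroup V] [Module F V] {Q : QuadraticForm F V}
  {H : Subgroup (V ≃ₗ[F] V)}

/-! ### characteristic two -/

theorem add_self_two (h2 : (2 : F) = 0) (c : F) : c + c = 0 := by
  rw [← two_mul, h2, zero_mul]

theorem neg_two (h2 : (2 : F) = 0) (c : F) : -c = c := by
  linear_combination (-c) * h2

theorem polar_self_two (h2 : (2 : F) = 0) (x : V) : polar Q x x = 0 := by
  rw [polar_self', h2, zero_mul]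

theorem sq_inj (h2 : (2 : F) = 0) {a b : F} (h : a ^ 2 = b ^ 2) : a = b := by
  have h1 : (a - b) ^ 2 = 0 := by linear_combination h + (b ^ 2 - a * b) * h2
  exact sub_eq_zero.1 (pow_eq_zero_iff two_ne_zero |>.1 h1)

theorem exists_sq [Finite F] (h2 : (2 : F) = 0) (c : F) : ∃ e : F, e ^ 2 = c := by
  have h1 : Function.Injective (fun a : F => a ^ 2) := fun a b h => sq_inj h2 h
  exact (Finite.injective_iff_surjective.1 h1) c

/-! ### symplectic transvections -/

/-- the linear map `v ↦ v + c B(x,v) x` -/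
def tvLin (Q : QuadraticForm F V) (c : F) (x : V) : V →ₗ[F] V :=
  LinearMap.id + c • (polarBilin Q x).smulRight x

theorem tvLin_apply (c : F) (x v : V) : tvLin Q c x v = v + (c * polar Q x v) • x := by
  simp only [tvLin, LinearMap.add_apply, LinearMap.id_apply, LinearMap.smul_apply,
    LinearMap.smulRight_apply, polarBilin_apply_apply, smul_smul]

theorem tvLin_tvLin (h2 : (2 : F) = 0) (c : F) (x v : V) : tvLin Q c x (tvLin Q c x v) = v := by
  simp only [tvLin_apply, polar_add_right, polar_smul_right, polar_self_two h2, smul_eq_mul, mul_zero, add_zero]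
  rw [add_assoc, ← add_smul, add_self_two h2, zero_smul, add_zero]

/-- the transvection `v ↦ v + c B(x,v) x` in characteristic two -/
def tv (h2 : (2 : F) = 0) (Q : QuadraticForm F V) (c : F) (x : V) : V ≃ₗ[F] V :=
  LinearEquiv.ofLinearMap (tvLin Q c x) (tvLin Q c x)
    (by ext v; exact tvLin_tvLin h2 c x v) (by ext v; exact tvLin_tvLin h2 c x v)

theorem tv_apply (h2 : (2 : F) = 0) (c : F) (x v : V) : tv h2 Q c x v = v + (c * polar Q x v) • x :=
  tvLin_apply c x v

theorem tv_polar (h2 : (2 : F) = 0) (c : F) (x u v : V) :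
    polar Q (tv h2 Q c x u) (tv h2 Q c x v) = polar Q u v := by
  simp only [tv_apply, polar_add_left, polar_add_right, polar_smul_left, polar_smul_right, polar_self_two h2,
    smul_eq_mul]
  rw [polar_comm Q u x]
  linear_combination (c * polar Q x u * polar Q x v) * h2

theorem tv_zero (h2 : (2 : F) = 0) (c : F) : tv h2 Q c 0 = 1 := by
  ext v
  rw [tv_apply, smul_zero, add_zero]
  rfl

theorem tv_conj (h2 : (2 : F) = 0) {g : V ≃ₗ[F] V} (hg : ∀ u v, polar Q (g u) (g v) = polar Q u v) (c : F) (x : V) :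
    g * tv h2 Q c x * g⁻¹ = tv h2 Q c (g x) := by
  ext v
  obtain ⟨v, rfl⟩ := g.surjective v
  have h1 : (g * tv h2 Q c x * g⁻¹) (g v) = g (tv h2 Q c x v) := by
    show g (tv h2 Q c x (g.symm (g v))) = _
    rw [LinearEquiv.symm_apply_apply]
  rw [h1, tv_apply, tv_apply, hg, map_add, map_smul]

/-- the transvections generate the symplectic group -/
theorem sp_mem [FiniteDimensional F V] (h2 : (2 : F) = 0) (hQ : Nondeg Q) (hH : ∀ c x, tv h2 Q c x ∈ H)
    {g : V ≃ₗ[F] V} (hg : ∀ u v, polar Q (g u) (g v) = polar Q u v) : g ∈ H := by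
  suffices key : ∀ (n : ℕ) (g : V ≃ₗ[F] V), (∀ u v, polar Q (g u) (g v) = polar Q u v) →
      finrank F V - finrank F (LinearMap.ker (g.toLinearMap - LinearMap.id)) = n → g ∈ H from key _ g hg rfl
  intro n
  induction n using Nat.strong_induction_on with
  | _ n ih =>
    intro g hg hn
    by_cases hone : ∀ w, g w = w
    · have : g = 1 := by ext w; exact hone w
      rw [this]
      exact H.one_mem
    push Not at hone
    have step : ∀ (r : V ≃ₗ[F] V), (∀ u v, polar Q (r u) (r v) = polar Q u v) → r ∈ H →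
        (∀ s, g s = s → r s = s) → (∃ w, g w ≠ w ∧ r (g w) = w) → g ∈ H := by
      intro r hrO hr hfix ⟨w, hw, hrw⟩
      have hlt : LinearMap.ker (g.toLinearMap - LinearMap.id) <
          LinearMap.ker ((r * g).toLinearMap - LinearMap.id) := by
        refine lt_of_le_of_ne ?_ ?_
        · intro s hs
          rw [LinearMap.mem_ker, LinearMap.sub_apply, sub_eq_zero] at hs ⊢
          have hs' : g s = s := hs
          show r (g s) = s
          rw [hs', hfix s hs']
        · intro heq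
          have : w ∈ LinearMap.ker ((r * g).toLinearMap - LinearMap.id) := by
            rw [LinearMap.mem_ker, LinearMap.sub_apply, sub_eq_zero]
            exact hrw
          rw [← heq, LinearMap.mem_ker, LinearMap.sub_apply, sub_eq_zero] at this
          exact hw this
      have hlt' := Submodule.finrank_lt_finrank_of_lt hlt
      have hle := Submodule.finrank_le (LinearMap.ker ((r * g).toLinearMap - LinearMap.id))
      have hmem := ih _ (by omega) (r * g) (fun u v => by
        show polar Q (r (g u)) (r (g v)) = _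
        rw [hrO, hg]) rfl
      have : g = r⁻¹ * (r * g) := by group
      rw [this]
      exact H.mul_mem (H.inv_mem hr) hmem
    have hfixp : ∀ v s, g s = s → polar Q (g v - v) s = 0 := by
      intro v s hs
      rw [polar_sub_left]
      nth_rewrite 1 [← hs]
      rw [hg, sub_self]
    by_cases hA : ∃ v, polar Q v (g v) ≠ 0
    · obtain ⟨v, hv⟩ := hA
      refine step (tv h2 Q (polar Q v (g v))⁻¹ (g v - v)) (tv_polar h2 _ _) (hH _ _) ?_ ⟨v, ?_, ?_⟩
      · intro s hs
        rw [tv_apply, hfixp v s hs, mul_zero, zero_smul, add_zero]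
      · intro h
        rw [h] at hv
        exact hv (polar_self_two h2 v)
      · rw [tv_apply, polar_sub_left, polar_self_two h2, zero_sub, neg_two h2, inv_mul_cancel₀ hv, one_smul]
        have h3 : g v + (g v - v) = v + (2 : F) • (g v - v) := by module
        rw [h3, h2, zero_smul, add_zero]
    · push Not at hA
      obtain ⟨v, hv⟩ := hone
      obtain ⟨y, hy⟩ := hQ.exists_polar_eq (sub_ne_zero.2 hv) 1
      have hsw : ∀ a b, polar Q a (g b) = polar Q (g a) b := by
        intro a b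
        have h3 := hA (a + b)
        rw [map_add, polar_add_left, polar_add_right, polar_add_right, hA a, hA b, zero_add, add_zero] at h3
        rw [polar_comm Q b] at h3
        linear_combination h3 - polar Q (g a) b * h2
      -- `u = g v + (g y - y)`
      have e1 : tv h2 Q 1 (g y - y) (g v) = g v + (g y - y) := by
        have h3 : polar Q (g y - y) (g v) = 1 := by
          rw [polar_sub_left, hg, hsw, polar_comm Q (g y) v, hsw, polar_comm Q y v, ← polar_sub_left] 
          rw [polar_sub_left] at hy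
          rw [polar_sub_left]
          linear_combination hy + (polar Q v y - polar Q (g v) y) * h2
        rw [tv_apply, h3, mul_one, one_smul]
      have e2 : tv h2 Q 1 (g v + (g y - y) - v) (g v + (g y - y)) = v := by
        have h3 : polar Q (g v + (g y - y) - v) (g v + (g y - y)) = 1 := by
          rw [polar_sub_left, polar_self_two h2, polar_add_right, hA, polar_sub_right, hsw]
          rw [polar_sub_left] at hy
          linear_combination hy + (polar Q v y - polar Q (g v) y) * h2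
        rw [tv_apply, h3, mul_one, one_smul]
        have h4 : g v + (g y - y) + (g v + (g y - y) - v) = v + (2 : F) • (g v + (g y - y) - v) := by module
        rw [h4, h2, zero_smul, add_zero]
      refine step (tv h2 Q 1 (g v + (g y - y) - v) * tv h2 Q 1 (g y - y)) ?_ (H.mul_mem (hH _ _) (hH _ _)) ?_
        ⟨v, hv, ?_⟩
      · intro a b
        show polar Q (tv h2 Q 1 _ (tv h2 Q 1 _ a)) (tv h2 Q 1 _ (tv h2 Q 1 _ b)) = _
        rw [tv_polar, tv_polar]
      · intro s hs
        show tv h2 Q 1 _ (tv h2 Q 1 _ s) = s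
        have h3 : polar Q (g v + (g y - y) - v) s = 0 := by
          have h4 : g v + (g y - y) - v = (g v - v) + (g y - y) := by abel
          rw [h4, polar_add_left, hfixp v s hs, hfixp y s hs, add_zero]
        rw [tv_apply h2 1 (g y - y), hfixp y s hs, mul_zero, zero_smul, add_zero, tv_apply, h3, mul_zero, zero_smul,
          add_zero]
      · show tv h2 Q 1 _ (tv h2 Q 1 _ (g v)) = v
        rw [e1, e2]

/-! ### linear functionals -/

theorem exists_vec [FiniteDimensional F V] (hQ : Nondeg Q) (f : V →ₗ[F] F) : ∃ w : V, ∀ v, f v = polar Q w v := by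
  have h1 : Function.Injective (polarBilin Q : V →ₗ[F] V →ₗ[F] F) := by
    rw [← LinearMap.ker_eq_bot, LinearMap.ker_eq_bot']
    intro x hx
    exact hQ x fun y => by rw [← polarBilin_apply_apply, hx]; rfl
  have h2 : Function.Surjective (polarBilin Q : V →ₗ[F] V →ₗ[F] F) :=
    (LinearMap.injective_iff_surjective_of_finrank_eq_finrank (by
      rw [Module.finrank_linearMap, Module.finrank_self, mul_one])).1 h1
  obtain ⟨w, hw⟩ := h2 f
  exact ⟨w, fun v => by rw [← hw]; rfl⟩

/-- the difference of two quadratic forms with the same polar form is the square of a linear functional -/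
theorem exists_diff [Finite F] [FiniteDimensional F V] (h2 : (2 : F) = 0) (hQ : Nondeg Q) {g : V ≃ₗ[F] V}
    (hg : ∀ u v, polar Q (g u) (g v) = polar Q u v) :
    ∃ w : V, ∀ v, Q v + Q (g v) = polar Q w v ^ 2 := by
  choose sq hsq using exists_sq (F := F) h2
  let f : V →ₗ[F] F :=
    { toFun := fun v => sq (Q v + Q (g v))
      map_add' := fun a b => by
        refine sq_inj h2 ?_
        rw [hsq, map_add g, Q_add, Q_add, hg]
        linear_combination (-1 : F) * hsq (Q a + Q (g a)) - hsq (Q b + Q (g b)) +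
          (polar Q a b - sq (Q a + Q (g a)) * sq (Q b + Q (g b))) * h2
      map_smul' := fun c a => by
        refine sq_inj h2 ?_
        rw [hsq, map_smul g, QuadraticMap.map_smul, QuadraticMap.map_smul, RingHom.id_apply, smul_eq_mul,
          smul_eq_mul, smul_eq_mul]
        linear_combination (-1 : F) * c ^ 2 * hsq (Q a + Q (g a)) }
  obtain ⟨w, hw⟩ := exists_vec hQ f
  refine ⟨w, fun v => ?_⟩
  rw [← hw]
  exact (hsq _).symm

/-! ### overgroups -/

/-- **(T2) overgroups of `Ω(Q)` in `Sp`, characteristic two** -/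
theorem sp_over_of_finite [Finite F] [FiniteDimensional F V] (h2 : (2 : F) = 0) (hQ : Nondeg Q)
    (hn : 5 ≤ finrank F V) (hH : ∀ h ∈ H, ∀ u v, polar Q (h u) (h v) = polar Q u v) (hE : E Q ≤ H) :
    H ≤ O Q ∨ ∀ x : V ≃ₗ[F] V, (∀ u v, polar Q (x u) (x v) = polar Q u v) → x ∈ H := by
  by_cases hO : H ≤ O Q
  · exact Or.inl hO
  right
  obtain ⟨g, hgH, hgO⟩ := SetLike.not_le_iff_exists.1 hO
  have hg := hH g hgH
  have hG : Good Q := good_of_finite hQ hn
  obtain ⟨w, hw⟩ := exists_diff h2 hQ hg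
  have hw0 : w ≠ 0 := by
    rintro rfl
    refine hgO fun v => ?_
    have h3 := hw v
    rw [polar_zero_left] at h3
    linear_combination h3 - Q v * h2
  obtain ⟨w', hw'⟩ := hQ.exists_polar_eq hw0 1
  obtain ⟨x, hx0, hx, hxp⟩ := exists_sing_perp (Q := Q) ![w, w'] (by omega)
  have hwx : polar Q w x = 0 := hxp 0
  have hw'x : polar Q w' x = 0 := hxp 1
  have hgx : Q (g x) = 0 := by
    have h3 := hw x
    rw [hx, hwx] at h3
    linear_combination h3
  obtain ⟨y, hxy, hwy⟩ := exists_sep hQ (x := w) (z := x) (by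
    intro c hc
    rw [hc, polar_smul_left, polar_comm, hw'x, smul_zero] at hw'
    exact zero_ne_one hw')
  -- the transvections with centre `x`
  have tv_x : ∀ c, tv h2 Q c x ∈ H := by
    intro c
    obtain ⟨e, he⟩ := exists_sq h2 c
    have h3 : polar Q x (e • y) = 0 := by rw [polar_smul_right, hxy, smul_zero]
    have h4 : polar Q (g x) (g (e • y)) = 0 := by rw [hg, h3]
    have h5 : tv h2 Q c x = siegel Q x (e • y) hx h3 * (g⁻¹ * siegel Q (g x) (g (e • y)) hgx h4 * g) := by
      ext v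
      have h6 : (g⁻¹ * siegel Q (g x) (g (e • y)) hgx h4 * g) v =
          v + polar Q x v • (e • y) - polar Q (e • y) v • x - (Q (g (e • y)) * polar Q x v) • x := by
        show g.symm (siegel Q (g x) (g (e • y)) hgx h4 (g v)) = _
        rw [siegel_apply, hg, hg, map_sub, map_sub, map_add, map_smul g.symm, map_smul g.symm, map_smul g.symm,
          LinearEquiv.symm_apply_apply, LinearEquiv.symm_apply_apply, LinearEquiv.symm_apply_apply]
      have h7 : Q (e • y) + Q (g (e • y)) = c := by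
        rw [hw, polar_smul_right, hwy, smul_eq_mul, mul_one, he]
      show _ = siegel Q x (e • y) hx h3 ((g⁻¹ * siegel Q (g x) (g (e • y)) hgx h4 * g) v)
      rw [h6, siegel_apply, tv_apply, ← h7]
      have hyy : polar Q (e • y) (e • y) = 0 := polar_self_two h2 _
      have hyx : polar Q (e • y) x = 0 := by rw [polar_comm, h3]
      simp only [polar_add_right, polar_sub_right, polar_smul_right, polar_self_two h2, h3, hyx, smul_eq_mul,
        mul_zero, add_zero, sub_zero]
      match_scalars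
      · ring
      · linear_combination (Q (e • y) * polar Q x v + Q (g (e • y)) * polar Q x v + polar Q (e • y) v) * h2
      · linear_combination (-(polar Q x v * e)) * h2
    rw [h5]
    exact H.mul_mem (hE (siegel_mem_E hx h3))
      (H.mul_mem (H.mul_mem (H.inv_mem hgH) (hE (siegel_mem_E hgx h4))) hgH)
  -- the transvections with singular centre
  have tv_sing : ∀ x' : V, Q x' = 0 → ∀ c, tv h2 Q c x' ∈ H := by
    intro x' hx' c
    by_cases h0 : x' = 0
    · rw [h0, tv_zero]
      exact H.one_mem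
    obtain ⟨k, hk, hkx⟩ := hG.trans_sing hx hx' hx0 h0
    rw [← hkx, ← tv_conj h2 (hH k (hE hk))]
    exact H.mul_mem (H.mul_mem (hE hk) (tv_x c)) (H.inv_mem (hE hk))
  -- all transvections
  have tv_all : ∀ c u, tv h2 Q c u ∈ H := by
    intro c u
    by_cases hu : Q u = 0
    · exact tv_sing u hu c
    have hu0 : u ≠ 0 := by
      rintro rfl
      exact hu (QuadraticMap.map_zero Q)
    obtain ⟨x₁, y₁, hxy₁⟩ := hG.exists_hyp
    obtain ⟨z, hz, hzu⟩ : ∃ z, Q z = 0 ∧ polar Q z u ≠ 0 := by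
      by_contra hcon
      push Not at hcon
      refine hu0 (hQ u fun v => ?_)
      refine sing_induction hxy₁ (P := fun v => polar Q u v = 0) (fun a b ha hb => ?_) (fun a ha => ?_) v
      · rw [polar_add_right, ha, hb, add_zero]
      · rw [polar_comm]
        exact hcon a ha
    -- scale
    obtain ⟨z, hz, hzu⟩ : ∃ z, Q z = 0 ∧ polar Q z u = 1 :=
      ⟨(polar Q z u)⁻¹ • z, by rw [QuadraticMap.map_smul, hz, smul_zero],
        by rw [polar_smul_left, smul_eq_mul, inv_mul_cancel₀ hzu]⟩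
    have h3 : Q (u + Q u • z) = 0 := by
      rw [Q_add, QuadraticMap.map_smul, hz, polar_smul_right, polar_comm, hzu, smul_zero, smul_eq_mul, mul_one,
        add_zero, add_self_two h2]
    have h4 : tv h2 Q (Q u) z (u + Q u • z) = u := by
      rw [tv_apply, polar_add_right, polar_smul_right, polar_self_two h2, hzu, smul_zero, add_zero, mul_one,
        add_assoc, ← add_smul, add_self_two h2, zero_smul, add_zero]
    rw [← h4, ← tv_conj h2 (tv_polar h2 (Q u) z)]
    exact H.mul_mem (H.mul_mem (tv_sing z hz _) (tv_sing _ h3 c)) (H.inv_mem (tv_sing z hz _))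
  exact fun x hx => sp_mem h2 hQ tv_all hx

/-- **(T2)**, the form of the plan -/
theorem sp_over [Fintype F] [FiniteDimensional F V] (h2 : (2 : F) = 0) (hQ : Nondeg Q) (hn : 6 ≤ finrank F V)
    (hH : ∀ h ∈ H, ∀ u v, polar Q (h u) (h v) = polar Q u v) (hE : E Q ≤ H) :
    H ≤ O Q ∨ ∀ x : V ≃ₗ[F] V, (∀ u v, polar Q (x u) (x v) = polar Q u v) → x ∈ H :=
  sp_over_of_finite h2 hQ (by omega) hH hE

end Cfsg.Agent.H177.Rg

private theorem dce_68954eb336b8 : _root_.True := by
  try have : _root_.True := by simp only [_root_.Cfsg.Agent.H177.Rg.tvLin.eq_1]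
  try have : _root_.True := by simp only [_root_.Cfsg.Agent.H177.Rg.tv.congr_simp]
  exact _root_.True.intro
end

-- part: H826/RgD/Plane
section
prune_inst 0x947065444ce2000000188004202000643c0004b2004004000ce20c400109ae622d80284121a004171a0200410001006001080010424000000e0000000004000000000404b1480008000010000000000000000000000000000000000000010000000000000
set_option linter.all false
open scoped Cfsg.Agent.FastGrp

-- part: H826/RgD/GenU
section
/-!
# S3691, F-D+2: elements of `Ω(Q)` trivial on a nondegenerate subspace (helper826)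

`U` nondegenerate, `dim U ≥ 5`: `g ∈ E Q`, `(g - 1) V ≤ U` imply that `g` is a product of Siegel transformations with vectors of `U`.
-/

set_option autoImplicit false
set_option linter.unusedSectionVars false

namespace Cfsg.Agent.H826.RgD

open QuadraticMap Module
open Cfsg.Agent.LieClassical.OrthCore Cfsg.Agent.LieClassical.OrthTrans
open Cfsg.Agent.LieClassical.OrthFinite (exists_sing_perp good_of_finite isometryEquiv isometryEquiv_apply)
open Cfsg.Agent.H160.QSpin
open Cfsg.Agent.H826.Rg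

variable {F V : Type*} [Field F] [AddCommGroup V] [Module F V] {Q : QuadraticForm F V}

/-- the isometries trivial on `V / U` -/
def StU (Q : QuadraticForm F V) (U : Submodule F V) : Subgroup (V ≃ₗ[F] V) where
  carrier := {g | g ∈ O Q ∧ ∀ v, g v - v ∈ U}
  mul_mem' {g h} hg hh := ⟨(O Q).mul_mem hg.1 hh.1, fun v => by
    have h1 : (g * h) v - v = (g (h v) - h v) + (h v - v) := by
      rw [sub_add_sub_cancel]; rfl
    rw [h1]
    exact U.add_mem (hg.2 _) (hh.2 _)⟩
  one_mem' := ⟨(O Q).one_mem, fun v => by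
    show v - v ∈ U
    rw [sub_self]; exact U.zero_mem⟩
  inv_mem' {g} hg := ⟨(O Q).inv_mem hg.1, fun v => by
    have h1 : g⁻¹ v - v = -(g (g.symm v) - g.symm v) := by
      rw [LinearEquiv.apply_symm_apply, neg_sub]; rfl
    rw [h1]
    exact U.neg_mem (hg.2 _)⟩

/-- the group generated by the Siegel transformations of `U` -/
def SgU (Q : QuadraticForm F V) (U : Submodule F V) : Subgroup (V ≃ₗ[F] V) :=
  Subgroup.closure {g | ∃ (u w : V) (hu : Q u = 0) (hw : polar Q u w = 0), u ∈ U ∧ w ∈ U ∧ g = siegel Q u w hu hw}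

variable {U : Submodule F V}

theorem siegel_mem_StU {u w : V} (hu : Q u = 0) (hw : polar Q u w = 0) (huU : u ∈ U) (hwU : w ∈ U) :
    siegel Q u w hu hw ∈ StU Q U := by
  refine ⟨siegel_mem_O hu hw, fun v => ?_⟩
  have h1 : siegel Q u w hu hw v - v =
      polar Q u v • w - (polar Q w v + Q w * polar Q u v) • u := by
    rw [siegel_apply]
    module
  rw [h1]
  exact U.sub_mem (U.smul_mem _ hwU) (U.smul_mem _ huU)

theorem refl_mem_StU {a : V} (ha : Q a ≠ 0) (haU : a ∈ U) : refl Q a ha ∈ StU Q U := by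
  refine ⟨refl_mem_O ha, fun v => ?_⟩
  rw [refl_apply, sub_sub_cancel_left]
  exact U.neg_mem (U.smul_mem _ haU)

theorem siegel_mem_SgU {u w : V} (hu : Q u = 0) (hw : polar Q u w = 0) (huU : u ∈ U) (hwU : w ∈ U) :
    siegel Q u w hu hw ∈ SgU Q U := Subgroup.subset_closure ⟨u, w, hu, hw, huU, hwU, rfl⟩

theorem SgU_le {H : Subgroup (V ≃ₗ[F] V)} (h : ∀ (u w : V) (hu : Q u = 0) (hw : polar Q u w = 0), u ∈ U → w ∈ U →
    siegel Q u w hu hw ∈ H) : SgU Q U ≤ H := by
  rw [SgU, Subgroup.closure_le]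
  rintro _ ⟨u, w, hu, hw, huv, hwv, rfl⟩
  exact h u w hu hw huv hwv

theorem SgU_le_StU : SgU Q U ≤ StU Q U := SgU_le fun _ _ hu hw huv hwv => siegel_mem_StU hu hw huv hwv

theorem SgU_le_E : SgU Q U ≤ E Q := SgU_le fun _ _ hu hw _ _ => siegel_mem_E hu hw

theorem StU_map {g : V ≃ₗ[F] V} (hg : g ∈ StU Q U) {u : V} (hu : u ∈ U) : g u ∈ U := by
  have := U.add_mem (hg.2 u) hu
  rwa [sub_add_cancel] at this

theorem conj_mem_SgU {g h : V ≃ₗ[F] V} (hg : g ∈ StU Q U) (hh : h ∈ SgU Q U) : g * h * g⁻¹ ∈ SgU Q U := by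
  induction hh using Subgroup.closure_induction with
  | mem x hx =>
    obtain ⟨u, w, hu, hw, huv, hwv, rfl⟩ := hx
    have hu' : Q (g u) = 0 := by rw [mem_O.1 hg.1]; exact hu
    have hw' : polar Q (g u) (g w) = 0 := by rw [polar_map hg.1]; exact hw
    rw [siegel_conj hg.1 hu hw hu' hw']
    exact siegel_mem_SgU hu' hw' (StU_map hg huv) (StU_map hg hwv)
  | one => simp
  | mul x y _ _ hx hy =>
    have : g * (x * y) * g⁻¹ = (g * x * g⁻¹) * (g * y * g⁻¹) := by group
    rw [this]
    exact (SgU Q U).mul_mem hx hy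
  | inv x _ hx =>
    have : g * x⁻¹ * g⁻¹ = (g * x * g⁻¹)⁻¹ := by group
    rw [this]
    exact (SgU Q U).inv_mem hx

/-- `SgU` in `StU` -/
def SNU (Q : QuadraticForm F V) (U : Submodule F V) : Subgroup (StU Q U) := (SgU Q U).subgroupOf (StU Q U)

instance : (SNU Q U).Normal := ⟨fun n hn g => by
  rw [SNU, Subgroup.mem_subgroupOf] at hn ⊢
  exact conj_mem_SgU g.2 hn⟩

/-- the class modulo `SgU` -/
def clsU : StU Q U →* (StU Q U) ⧸ (SNU Q U) := QuotientGroup.mk' _

theorem clsU_eq_one {g : StU Q U} : clsU g = 1 ↔ (g : V ≃ₗ[F] V) ∈ SgU Q U := by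
  rw [clsU, QuotientGroup.mk'_apply, QuotientGroup.eq_one_iff, SNU, Subgroup.mem_subgroupOf]

/-- conjugate reflections have the same class -/
theorem clsU_refl_eq {a b : V} (ha : Q a ≠ 0) (hb : Q b ≠ 0) (hav : a ∈ U) (hbv : b ∈ U)
    {s : V ≃ₗ[F] V} (hs : s ∈ SgU Q U) (hsb : s b = a) :
    clsU (⟨refl Q a ha, refl_mem_StU ha hav⟩ : StU Q U) = clsU (⟨refl Q b hb, refl_mem_StU hb hbv⟩ : StU Q U) := by
  subst hsb
  have hs' := SgU_le_StU hs
  have h1 : (⟨refl Q (s b) ha, refl_mem_StU ha hav⟩ : StU Q U) =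
      ⟨s, hs'⟩ * ⟨refl Q b hb, refl_mem_StU hb hbv⟩ * ⟨s, hs'⟩⁻¹ := by
    apply Subtype.ext
    show refl Q (s b) ha = s * refl Q b hb * s⁻¹
    rw [refl_conj hs'.1 hb ha]
  have h2 : clsU (⟨s, hs'⟩ : StU Q U) = 1 := clsU_eq_one.2 hs
  rw [h1, map_mul, map_mul, map_inv, h2, one_mul, inv_one, mul_one]

theorem clsU_refl_sq {a : V} (ha : Q a ≠ 0) (hav : a ∈ U) :
    clsU (⟨refl Q a ha, refl_mem_StU ha hav⟩ : StU Q U) * clsU (⟨refl Q a ha, refl_mem_StU ha hav⟩ : StU Q U) = 1 := by
  rw [← map_mul]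
  have h1 : (⟨refl Q a ha, refl_mem_StU ha hav⟩ * ⟨refl Q a ha, refl_mem_StU ha hav⟩ : StU Q U) = 1 :=
    Subtype.ext (refl_mul_self ha)
  rw [h1, map_one]

section fin

variable [Finite F] [FiniteDimensional F V] (hQ : Nondeg Q)
include hQ

/-- the classes, if the classes of the reflections are `α` and `β` -/
theorem classU_cases {α β : (StU Q U) ⧸ (SNU Q U)} (hα : α * α = 1) (hβ : β * β = 1) (hαβ : Commute α β)
    (hr : ∀ (a : V) (ha : Q a ≠ 0) (hav : a ∈ U),
      clsU (⟨refl Q a ha, refl_mem_StU ha hav⟩ : StU Q U) = α ∨ clsU (⟨refl Q a ha, refl_mem_StU ha hav⟩ : StU Q U) = β)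
    (g : StU Q U) : ∃ i j : ℕ, clsU g = α ^ i * β ^ j := by
  have key : ∀ g ∈ Subgroup.closure (genSet Q U), ∀ hg : g ∈ StU Q U,
      ∃ i j : ℕ, clsU (⟨g, hg⟩ : StU Q U) = α ^ i * β ^ j := by
    have hle : Subgroup.closure (genSet Q U) ≤ StU Q U := by
      rw [Subgroup.closure_le]
      rintro _ (⟨a, ha, haU, rfl⟩ | ⟨u, w, hu, hw, huU, hwU, rfl⟩)
      · exact refl_mem_StU ha haU
      · exact siegel_mem_StU hu hw huU hwU
    intro g hgc
    induction hgc using Subgroup.closure_induction with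
    | mem x hx =>
      intro hx'
      rcases hx with ⟨a, ha, haU, rfl⟩ | ⟨u, w, hu, hw, huU, hwU, rfl⟩
      · rcases hr a ha haU with h | h
        · exact ⟨1, 0, by rw [pow_one, pow_zero, mul_one]; exact h⟩
        · exact ⟨0, 1, by rw [pow_one, pow_zero, one_mul]; exact h⟩
      · refine ⟨0, 0, ?_⟩
        rw [pow_zero, pow_zero, mul_one, clsU_eq_one]
        exact siegel_mem_SgU hu hw huU hwU
    | one =>
      intro h1
      exact ⟨0, 0, by rw [pow_zero, pow_zero, mul_one]; exact map_one _⟩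
    | mul x y hx hy ihx ihy =>
      intro hxy
      obtain ⟨i, j, h1⟩ := ihx (hle hx)
      obtain ⟨i', j', h3⟩ := ihy (hle hy)
      refine ⟨i + i', j + j', ?_⟩
      have : (⟨x * y, hxy⟩ : StU Q U) = ⟨x, hle hx⟩ * ⟨y, hle hy⟩ := rfl
      have h5 : β ^ j * α ^ i' = α ^ i' * β ^ j := (hαβ.pow_pow i' j).eq.symm
      rw [this, map_mul, h1, h3, pow_add, pow_add, mul_assoc, ← mul_assoc (β ^ j), h5]
      group
    | inv x hx ihx =>
      intro hxi
      obtain ⟨i, j, h1⟩ := ihx (hle hx)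
      refine ⟨i, j, ?_⟩
      have : (⟨x⁻¹, hxi⟩ : StU Q U) = ⟨x, hle hx⟩⁻¹ := rfl
      rw [this, map_inv, h1, mul_inv_rev, ← inv_pow, ← inv_pow, inv_eq_of_mul_eq_one_left hα, inv_eq_of_mul_eq_one_left hβ]
      exact (hαβ.pow_pow i j).eq.symm
  exact key g (mem_closure_of_res hQ U g.2.1 g.2.2) g.2

variable (hU : Nondeg (Q.comp U.subtype)) (h5 : 5 ≤ finrank F U)
include hU h5

/-- `SgU` is transitive on the vectors of given norm of `U` -/
theorem trans_U {a b : V} (ha : a ≠ 0) (hb : b ≠ 0) (haU : a ∈ U) (hbU : b ∈ U)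
    (h : Q a = Q b) : ∃ s ∈ SgU Q U, s b = a := by
  let QU : QuadraticForm F U := Q.comp U.subtype
  have hG : Good QU := good_of_finite hU h5
  have hext : ∀ e ∈ E QU, ∃ s ∈ SgU Q U, ∀ x : U, s x = e x := by
    intro e he
    induction he using Subgroup.closure_induction with
    | mem x hx =>
      obtain ⟨u, w, hu, hw, rfl⟩ := hx
      have hu' : Q (u : V) = 0 := hu
      have hw' : polar Q (u : V) (w : V) = 0 := hw
      refine ⟨siegel Q (u : V) (w : V) hu' hw', siegel_mem_SgU _ _ u.2 w.2, fun x => ?_⟩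
      rw [siegel_apply, siegel_apply]
      rfl
    | one => exact ⟨1, (SgU Q U).one_mem, fun x => rfl⟩
    | mul x y _ _ hx hy =>
      obtain ⟨s, hs, hs'⟩ := hx
      obtain ⟨t, ht, ht'⟩ := hy
      refine ⟨s * t, (SgU Q U).mul_mem hs ht, fun z => ?_⟩
      show s (t z) = x (y z)
      rw [ht', hs']
    | inv x _ hx =>
      obtain ⟨s, hs, hs'⟩ := hx
      refine ⟨s⁻¹, (SgU Q U).inv_mem hs, fun z => ?_⟩
      show s.symm z = x.symm z
      rw [LinearEquiv.symm_apply_eq, hs', LinearEquiv.apply_symm_apply]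
  obtain ⟨e, he, hea⟩ := hG.trans_norm (v := (⟨b, hbU⟩ : U)) (v' := (⟨a, haU⟩ : U))
    (fun h0 => hb (congrArg Subtype.val h0)) (fun h0 => ha (congrArg Subtype.val h0)) h.symm
  obtain ⟨s, hs, hs'⟩ := hext e he
  exact ⟨s, hs, by rw [hs' ⟨b, hbU⟩, hea]⟩

/-- reflections of vectors of the same norm up to squares -/
theorem clsU_refl_class {a b : V} (ha : Q a ≠ 0) (hb : Q b ≠ 0) (haU : a ∈ U)
    (hbU : b ∈ U) (h : IsSquare (Q a * (Q b)⁻¹)) :
    clsU (⟨refl Q a ha, refl_mem_StU ha haU⟩ : StU Q U) = clsU (⟨refl Q b hb, refl_mem_StU hb hbU⟩ : StU Q U) := by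
  obtain ⟨c, hc⟩ := h
  have hc0 : c ≠ 0 := by
    rintro rfl
    rw [mul_zero, mul_eq_zero, inv_eq_zero] at hc
    rcases hc with h | h
    · exact ha h
    · exact hb h
  have h3 : Q (c • b) = Q a := by
    rw [QuadraticMap.map_smul, smul_eq_mul, ← hc, mul_assoc, inv_mul_cancel₀ hb, mul_one]
  have h4 : Q (c • b) ≠ 0 := by rw [h3]; exact ha
  have h5' : c • b ∈ U := U.smul_mem _ hbU
  obtain ⟨s, hs, hsb⟩ := trans_U hQ hU h5 (fun h0 => ha (by rw [h0, QuadraticMap.map_zero]))
    (fun h0 => h4 (by rw [h0, QuadraticMap.map_zero])) haU h5' h3.symm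
  rw [clsU_refl_eq ha h4 haU h5' hs hsb]
  congr 1
  apply Subtype.ext
  exact refl_smul hb hc0 h4

/-- two orthogonal vectors of given norms in `U` -/
theorem exists_two (c d : F) : ∃ a b : V, a ∈ U ∧ b ∈ U ∧ Q a = c ∧ Q b = d ∧ polar Q a b = 0 := by
  have hG : Good (Q.comp U.subtype) := good_of_finite hU h5
  obtain ⟨x, y, hxy⟩ := hG.exists_hyp
  obtain ⟨z, w, hzw, hxz, hxw, hyz, hyw⟩ := hG.exists_hyp2 hxy
  have e1 : ∀ s t : U, (Q.comp U.subtype) s = Q (s : V) := fun _ _ => rfl
  have hx : Q (x : V) = 0 := hxy.left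
  have hy : Q (y : V) = 0 := hxy.right
  have hp : polar Q (x : V) (y : V) = 1 := hxy.pair
  have hz : Q (z : V) = 0 := hzw.left
  have hw : Q (w : V) = 0 := hzw.right
  have hp' : polar Q (z : V) (w : V) = 1 := hzw.pair
  have h1 : polar Q (x : V) (z : V) = 0 := hxz
  have h2 : polar Q (x : V) (w : V) = 0 := hxw
  have h3 : polar Q (y : V) (z : V) = 0 := hyz
  have h4 : polar Q (y : V) (w : V) = 0 := hyw
  refine ⟨(x : V) + c • (y : V), (z : V) + d • (w : V), U.add_mem x.2 (U.smul_mem _ y.2), U.add_mem z.2 (U.smul_mem _ w.2), ?_, ?_, ?_⟩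
  · rw [Q_add, QuadraticMap.map_smul, hx, hy, polar_smul_right, hp]
    simp
  · rw [Q_add, QuadraticMap.map_smul, hz, hw, polar_smul_right, hp']
    simp
  · rw [polar_add_left, polar_add_right, polar_add_right, polar_smul_right, polar_smul_right, polar_smul_left, polar_smul_left, h1, h2, h3, h4]
    simp

/-- **elements of `Ω(Q)` trivial on `V / U`** -/
theorem mem_SgU {g : V ≃ₗ[F] V} (hg : g ∈ E Q) (hgU : ∀ v, g v - v ∈ U) : g ∈ SgU Q U := by
  classical
  have hgS : g ∈ StU Q U := ⟨E_le_O hg, hgU⟩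
  have hV5 : 5 ≤ finrank F V := h5.trans (Submodule.finrank_le U)
  have hG : Good Q := good_of_finite hQ hV5
  by_cases h2 : (2 : F) = 0
  · -- characteristic two
    obtain ⟨a, -, haU, -, hQa, -, -⟩ := exists_two hQ hU h5 1 1
    have ha : Q a ≠ 0 := by rw [hQa]; exact one_ne_zero
    set ρ := clsU (⟨refl Q a ha, refl_mem_StU ha haU⟩ : StU Q U) with hρ
    have hρ2 : ρ * ρ = 1 := clsU_refl_sq ha haU
    obtain ⟨i, j, hij⟩ := classU_cases hQ hρ2 hρ2 (Commute.refl ρ) (fun b hb hbU => Or.inl (by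
      obtain ⟨c, hc⟩ := Cfsg.Agent.ClassicalGeometry.OrthDickson.exists_sq_of_two h2 (Q b * (Q a)⁻¹)
      exact clsU_refl_class hQ hU h5 hb ha hbU haU ⟨c, hc.symm⟩)) ⟨g, hgS⟩
    rw [← pow_add] at hij
    rcases Nat.even_or_odd (i + j) with he | ho
    · obtain ⟨k, hk⟩ := he
      rw [hk, ← two_mul, pow_mul, pow_two, hρ2, one_pow] at hij
      exact clsU_eq_one.1 hij
    · exfalso
      obtain ⟨k, hk⟩ := ho
      rw [hk, pow_succ, pow_mul, pow_two, hρ2, one_pow, one_mul] at hij
      have h3 : clsU ((⟨refl Q a ha, refl_mem_StU ha haU⟩ : StU Q U) * (⟨g, hgS⟩ : StU Q U)⁻¹) = 1 := by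
        rw [map_mul, map_inv, hij, ← hρ, mul_inv_cancel]
      rw [clsU_eq_one] at h3
      have h4 : refl Q a ha * g⁻¹ ∈ ⁅O Q, O Q⁆ := by
        rw [hG.commutator_eq_E]
        exact SgU_le_E h3
      apply refl_notMem hQ ha (by omega : finrank F V ≠ 4)
      have h5 : refl Q a ha = (refl Q a ha * g⁻¹) * g := by group
      rw [h5]
      refine Subgroup.mul_mem _ h4 ?_
      rw [hG.commutator_eq_E]; exact hg
  · -- odd characteristic
    have hfV : Finite V := Module.finite_of_finite F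
    have hchar : ringChar F ≠ 2 := by
      intro h
      apply h2
      have := ringChar.Nat.cast_ringChar (R := F)
      rw [h] at this
      exact_mod_cast this
    obtain ⟨ν, hν⟩ := FiniteField.exists_nonsquare (F := F) hchar
    have hν0 : ν ≠ 0 := by
      rintro rfl
      exact hν ⟨0, by rw [mul_zero]⟩
    obtain ⟨a, b, haU, hbU, hna, hnb, hab⟩ := exists_two hQ hU h5 1 ν
    have ha : Q a ≠ 0 := by rw [hna]; exact one_ne_zero
    have hb : Q b ≠ 0 := by rw [hnb]; exact hν0
    set α := clsU (⟨refl Q _ ha, refl_mem_StU ha haU⟩ : StU Q U) with hα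
    set β := clsU (⟨refl Q _ hb, refl_mem_StU hb hbU⟩ : StU Q U) with hβ
    have hαβ : Commute α β := by
      show α * β = β * α
      rw [hα, hβ, ← map_mul, ← map_mul]
      congr 1
      exact Subtype.ext (refl_comm ha hb hab)
    obtain ⟨i, j, hij⟩ := classU_cases hQ (α := α) (β := β) (clsU_refl_sq ha haU) (clsU_refl_sq hb hbU) hαβ (by
      intro c hc hcU
      by_cases hsq : IsSquare (Q c)
      · left
        refine clsU_refl_class hQ hU h5 hc ha hcU haU ?_
        rw [hna, inv_one, mul_one]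
        exact hsq
      · right
        refine clsU_refl_class hQ hU h5 hc hb hcU hbU ?_
        rw [hnb]
        exact Cfsg.Agent.ClassicalGeometry.Universal.isSquare_mul_of_not h2 hsq (by rwa [isSquare_inv])) ⟨g, hgS⟩
    set ra : V ≃ₗ[F] V := refl Q _ ha with hra
    set rb : V ≃ₗ[F] V := refl Q _ hb with hrb
    have hE : ra ^ i * rb ^ j ∈ ⁅O Q, O Q⁆ := by
      have h3 : clsU ((⟨refl Q _ ha, refl_mem_StU ha haU⟩ : StU Q U) ^ i *
          (⟨refl Q _ hb, refl_mem_StU hb hbU⟩ : StU Q U) ^ j * (⟨g, hgS⟩ : StU Q U)⁻¹) = 1 := by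
        rw [map_mul, map_mul, map_pow, map_pow, map_inv, hij, ← hα, ← hβ, mul_inv_cancel]
      rw [clsU_eq_one] at h3
      have h4 : ra ^ i * rb ^ j * g⁻¹ ∈ ⁅O Q, O Q⁆ := by
        rw [hG.commutator_eq_E]
        exact SgU_le_E h3
      have h5 : ra ^ i * rb ^ j = (ra ^ i * rb ^ j * g⁻¹) * g := by group
      rw [h5]
      refine Subgroup.mul_mem _ h4 ?_
      rw [hG.commutator_eq_E]; exact hg
    have hraO : ra ∈ O Q := refl_mem_O ha
    have hrbO : rb ∈ O Q := refl_mem_O hb
    have hO : ra ^ i * rb ^ j ∈ O Q := (O Q).mul_mem ((O Q).pow_mem hraO i) ((O Q).pow_mem hrbO j)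
    have e1 : (⟨ra ^ i * rb ^ j, hO⟩ : O Q) = (⟨ra, hraO⟩ : O Q) ^ i * (⟨rb, hrbO⟩ : O Q) ^ j := rfl
    have hi : (-1 : ℤˣ) ^ i = 1 := by
      have h3 := hom_comm (spin Q) hE hO
      rw [e1, map_mul, map_pow, map_pow, spin_refl h2 ha, spin_refl h2 hb, hna, hnb, if_pos ⟨1, by rw [mul_one]⟩, if_neg hν,
        one_pow, mul_one] at h3
      exact h3
    have hj : (-1 : Fˣ) ^ (i + j) = 1 := by
      have h3 := hom_comm ((LinearEquiv.det (R := F) (M := V)).comp (O Q).subtype) hE hO
      rw [e1, map_mul, map_pow, map_pow, MonoidHom.comp_apply, MonoidHom.comp_apply] at h3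
      have h4 : LinearEquiv.det ra = -1 := det_refl ha
      have h5 : LinearEquiv.det rb = -1 := det_refl hb
      change LinearEquiv.det ra ^ i * LinearEquiv.det rb ^ j = 1 at h3
      rw [h4, h5, ← pow_add] at h3
      exact h3
    have hie : Even i := by
      rcases Nat.even_or_odd i with h | h
      · exact h
      · rw [h.neg_one_pow] at hi
        exact absurd hi (by decide)
    have hije : Even (i + j) := by
      rcases Nat.even_or_odd (i + j) with h | h
      · exact h
      · rw [h.neg_one_pow] at hj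
        exact absurd hj (Cfsg.Agent.ClassicalGeometry.OmegaIndex.neg_one_ne_one_units h2)
    have hje : Even j := (Nat.even_add.1 hije).1 hie
    have hg1 : clsU (⟨g, hgS⟩ : StU Q U) = 1 := by
      rw [hij]
      obtain ⟨i', rfl⟩ := hie
      obtain ⟨j', rfl⟩ := hje
      have hα2 : α * α = 1 := clsU_refl_sq ha haU
      have hβ2 : β * β = 1 := clsU_refl_sq hb hbU
      rw [← two_mul, ← two_mul, pow_mul, pow_mul, pow_two, pow_two, hα2, hβ2, one_pow, one_pow, mul_one]
    exact clsU_eq_one.1 hg1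

end fin

end Cfsg.Agent.H826.RgD
end

-- part: H386/Rg/D2
section
/-!
# S3691, residual case F-D+2 : the abstract frame (helper386)

Plan: section 11 of tools/plans/S3691.md.  `V` is a nondegenerate quadratic space of plus type of dimension `2m` over the field with
`q = p^f` elements and `K` is a group of isometries (the preimage of one factor), the other factor is the stabiliser of an anisotropic plane.
-/

set_option autoImplicit false

namespace Cfsg.Agent.H386.Rg

open QuadraticMap Module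

universe u v

variable {F : Type u} {V : Type v} [Field F] [AddCommGroup V] [Module F V]

/-- `⟨u, w⟩` is an anisotropic plane -/
def Aniso (Q : QuadraticForm F V) (u w : V) : Prop :=
  ∀ a b : F, Q (a • u + b • w) = 0 → a = 0 ∧ b = 0

/-- the table of sizes of `PΩ⁺_{2m}(q)` (from `3 * 29!`) -/
def SzD (m q : ℕ) : Prop := (m = 5 → 4 < q) ∧ (m ≤ 7 → 2 < q)

/-- **the abstract frame of the residual case F-D+2** (`m' = m - 1`) -/
structure D2 [Finite F] [FiniteDimensional F V] (Q : QuadraticForm F V) (p f m : ℕ) (K : Subgroup (V ≃ₗ[F] V)) : Prop where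
  hp : p.Prime
  hf : 1 ≤ f
  hF : Nat.card F = p ^ f
  hm : 5 ≤ m
  size : SzD m (p ^ f)
  dim : finrank F V = 2 * m
  nd : ∀ v : V, (∀ w, polar Q v w = 0) → v = 0
  plus : ∃ W : Submodule F V, (∀ w ∈ W, Q w = 0) ∧ finrank F W = m
  iso : ∀ k ∈ K, ∀ v, Q (k v) = Q v
  /-- `K` lies in `SO(V)` (the kernel of the Dickson invariant) -/
  even : ∀ k ∈ K, Even (finrank F (LinearMap.range ((k : V →ₗ[F] V) - LinearMap.id)))
  /-- (F) -/
  fix : ∀ k ∈ K, k ≠ 1 → ∀ u w : V, Aniso Q u w → k u = u → k w = w → False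
  /-- an involution which is unique in `K` up to sign (then the other factor and `K` fix planes: impossible) -/
  inv : p ≠ 2 → ∀ t ∈ K, t * t = 1 → t ≠ 1 → (∃ v, t v ≠ -v) → ∃ s ∈ K, s * s = 1 ∧ s ≠ 1 ∧ s ≠ t ∧ ∃ v, s v ≠ -v
  /-- (N) -/
  card_ge : p ^ (f * (2 * m - 2)) * (p ^ (f * m) - 1) * (p ^ (f * (m - 1)) - 1) ≤
    2 * (p ^ f + 1) * ((if p = 2 then 2 else 8) * f) * Nat.card K
  card_p : f * (2 * m - 2) ≤ (Nat.card K).factorization p + (if p = 2 then (4 * f).factorization p else f.factorization p)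
  card_dvd : Nat.card K ∣ 2 * (p ^ (f * (2 * m - 2)) * (p ^ (f * m) - 1) * (p ^ (f * (m - 1)) - 1))
  card_dvd2 : p = 2 → Nat.card K ∣ p ^ (f * (2 * m - 2)) * (p ^ (f * m) - 1) * (p ^ (f * (m - 1)) - 1)
  /-- the primitive primes -/
  rdvd : ∀ r : ℕ, r.Prime → (orderOf (p : ZMod r) = f * m ∨ orderOf (p : ZMod r) = f * (m - 1)) → r ∣ Nat.card K

end Cfsg.Agent.H386.Rg
end

-- part: H826/RgD/Plane
section
/-!
# S3691, F-D+2: anisotropic planes (helper826)

* `nondeg_of_aniso` : an anisotropic plane over a finite field is nondegenerate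
* `exists_iso_pair` : every anisotropic plane has a basis with the Gram data of a given anisotropic pair
* `trans_aniso` : `E Q` is transitive on the anisotropic pairs with given Gram data (`dim V ≥ 6`)
* `stab_plane` : the pointwise stabiliser of an anisotropic plane `P` in `E Q` is `SgU Q P^⊥` (`dim V ≥ 7`)
-/

set_option autoImplicit false
set_option linter.unusedSectionVars false

namespace Cfsg.Agent.H826.RgD

open QuadraticMap Module
open Cfsg.Agent.LieClassical.OrthCore Cfsg.Agent.LieClassical.OrthTrans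
open Cfsg.Agent.LieClassical.OrthFinite (good_of_finite exists_sing_perp)
open Cfsg.Agent.H826.Rg
open Cfsg.Agent.H955 (res perp mem_perp mem_perp' nondeg_res_iff nondeg_perp finrank_perp perp_perp)
open Cfsg.Agent.H386.Rg (Aniso)

variable {F V : Type*} [Field F] [AddCommGroup V] [Module F V] {Q : QuadraticForm F V}

theorem Q_lin (x y : V) (a b : F) :
    Q (a • x + b • y) = a * a * Q x + b * b * Q y + a * b * polar Q x y := by
  rw [Q_add, QuadraticMap.map_smul, QuadraticMap.map_smul, polar_smul_left, polar_smul_right]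
  simp only [smul_eq_mul]
  ring

section fin

variable [Finite F]

/-- an anisotropic pair has `polar ≠ 0` in characteristic two -/
theorem polar_ne_of_aniso {u w : V} (h : Aniso Q u w) (h2 : (2 : F) = 0) : polar Q u w ≠ 0 := by
  intro h0
  obtain ⟨c, hc⟩ := Cfsg.Agent.ClassicalGeometry.OrthDickson.exists_sq_of_two h2 (Q u * (Q w)⁻¹)
  have hw : Q w ≠ 0 := by
    intro hw
    exact one_ne_zero (h 0 1 (by rw [zero_smul, one_smul, zero_add, hw])).2
  have h1 : Q ((1 : F) • u + c • w) = 0 := by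
    rw [Q_lin, h0, hc, mul_assoc (Q u), inv_mul_cancel₀ hw]
    have : (1 : F) * 1 * Q u + Q u * 1 + 1 * c * 0 = 2 * Q u := by ring
    rw [this, h2, zero_mul]
  exact one_ne_zero (h 1 c h1).1

/-- an anisotropic plane is nondegenerate -/
theorem nondeg_of_aniso {P : Submodule F V} (hP : finrank F P = 2) (ha : ∀ x ∈ P, Q x = 0 → x = 0) : Nondeg (res Q P) := by
  rw [nondeg_res_iff]
  intro x hx hxy
  by_cases h2 : (2 : F) = 0
  · by_contra hx0
    obtain ⟨y, hy, hyx⟩ : ∃ y ∈ P, y ∉ F ∙ x := by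
      by_contra hcon
      push Not at hcon
      have : Module.Finite F P := Module.finite_of_finrank_pos (by omega)
      have h1 : P ≤ F ∙ x := hcon
      have h3 := Submodule.finrank_mono h1
      rw [hP, finrank_span_singleton hx0] at h3
      omega
    have hani : Aniso Q x y := by
      intro a b hab
      have h1 := ha _ (P.add_mem (P.smul_mem a hx) (P.smul_mem b hy)) hab
      have hb : b = 0 := by
        by_contra hb
        apply hyx
        rw [Submodule.mem_span_singleton]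
        refine ⟨-(b⁻¹ * a), ?_⟩
        have h3 : b • y = -(a • x) := by rw [eq_neg_iff_add_eq_zero, add_comm]; exact h1
        have h4 : y = b⁻¹ • (b • y) := by rw [smul_smul, inv_mul_cancel₀ hb, one_smul]
        rw [h4, h3, smul_neg, smul_smul, neg_smul]
      rw [hb, zero_smul, add_zero] at h1
      exact ⟨(smul_eq_zero.1 h1).resolve_right hx0, hb⟩
    exact polar_ne_of_aniso hani h2 (hxy y hy)
  · apply ha x hx
    have h1 := hxy x hx
    rw [polar_self'] at h1
    exact (mul_eq_zero.1 h1).resolve_left h2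

/-- the span of an anisotropic pair -/
theorem span_pair_aniso {u w : V} (h : Aniso Q u w) : finrank F (Submodule.span F {u, w}) = 2 ∧
    ∀ x ∈ Submodule.span F {u, w}, Q x = 0 → x = 0 := by
  have hli : LinearIndependent F ![u, w] := by
    rw [LinearIndependent.pair_iff]
    intro s t hst
    exact h s t (by rw [hst, QuadraticMap.map_zero])
  refine ⟨?_, ?_⟩
  · have h1 := finrank_span_eq_card hli
    rw [Matrix.range_cons_cons_empty, Fintype.card_fin] at h1
    exact h1
  · intro x hx hQ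
    obtain ⟨a, b, rfl⟩ := Submodule.mem_span_pair.1 hx
    obtain ⟨rfl, rfl⟩ := h a b hQ
    rw [zero_smul, zero_smul, add_zero]

/-- a basis of `P` with the Gram data of `(u, w)` -/
theorem exists_iso_pair {P : Submodule F V} (hP : finrank F P = 2) (ha : ∀ x ∈ P, Q x = 0 → x = 0) {u w : V} (h : Aniso Q u w) :
    ∃ u' w', P = Submodule.span F {u', w'} ∧ Q u' = Q u ∧ Q w' = Q w ∧ polar Q u' w' = polar Q u w := by
  have hPf : Module.Finite F P := Module.finite_of_finrank_pos (by omega)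
  -- a basis of `P`
  obtain ⟨b⟩ : Nonempty (Basis (Fin 2) F P) := ⟨Module.finBasisOfFinrankEq F P hP⟩
  set u0 : V := ((b 0 : P) : V) with hu0
  set w0 : V := ((b 1 : P) : V) with hw0
  have hmem : ∀ x y : F, x • u0 + y • w0 ∈ P := fun x y => P.add_mem (P.smul_mem _ (b 0).2) (P.smul_mem _ (b 1).2)
  have h0 : Aniso Q u0 w0 := by
    intro x y hxy
    have h1 := ha _ (hmem x y) hxy
    have h2 : x • b 0 + y • b 1 = 0 := Subtype.ext h1
    have h3 := LinearIndependent.pair_iff.1 (show LinearIndependent F ![b 0, b 1] by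
      have := b.linearIndependent
      have e : (⇑b : Fin 2 → P) = ![b 0, b 1] := by
        funext i; fin_cases i <;> rfl
      rwa [e] at this) x y h2
    exact h3
  have hα : Q u ≠ 0 := by
    intro hu
    exact one_ne_zero (h 1 0 (by rw [zero_smul, one_smul, add_zero, hu])).1
  have hα0 : Q u0 ≠ 0 := by
    intro hu
    exact one_ne_zero (h0 1 0 (by rw [zero_smul, one_smul, add_zero, hu])).1
  have hA : Cfsg.Agent.GenOrth.Aniso (polar Q u w / Q u) (Q w / Q u) := by
    intro x y hxy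
    apply h x y
    rw [Q_lin]
    have : x * x * Q u + y * y * Q w + x * y * polar Q u w =
        Q u * (x ^ 2 + polar Q u w / Q u * x * y + Q w / Q u * y ^ 2) := by
      field_simp
      ring
    rw [this, hxy, mul_zero]
  have hA0 : Cfsg.Agent.GenOrth.Aniso (polar Q u0 w0 / Q u0) (Q w0 / Q u0) := by
    intro x y hxy
    apply h0 x y
    rw [Q_lin]
    have : x * x * Q u0 + y * y * Q w0 + x * y * polar Q u0 w0 =
        Q u0 * (x ^ 2 + polar Q u0 w0 / Q u0 * x * y + Q w0 / Q u0 * y ^ 2) := by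
      field_simp
      ring
    rw [this, hxy, mul_zero]
  obtain ⟨e, he⟩ := Cfsg.Agent.H193.QuadEmb.aniso_iso hA hA0 (c := Q u / Q u0) (div_ne_zero hα hα0)
  have key : ∀ z : Fin 2 → F, Q (e z 0 • u0 + e z 1 • w0) = Q (z 0 • u + z 1 • w) := by
    intro z
    rw [Q_lin, Q_lin]
    have h1 := he z
    have h2 : e z 0 * e z 0 * Q u0 + e z 1 * e z 1 * Q w0 + e z 0 * e z 1 * polar Q u0 w0 =
        Q u0 * (e z 0 ^ 2 + polar Q u0 w0 / Q u0 * e z 0 * e z 1 + Q w0 / Q u0 * e z 1 ^ 2) := by
      field_simp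
      ring
    have h3 : z 0 * z 0 * Q u + z 1 * z 1 * Q w + z 0 * z 1 * polar Q u w =
        Q u * (z 0 ^ 2 + polar Q u w / Q u * z 0 * z 1 + Q w / Q u * z 1 ^ 2) := by
      field_simp
      ring
    rw [h2, h3, h1, ← mul_assoc, mul_div_cancel₀ _ hα0]
  set u' := e ![1, 0] 0 • u0 + e ![1, 0] 1 • w0 with hu'
  set w' := e ![0, 1] 0 • u0 + e ![0, 1] 1 • w0 with hw'
  have k1 : Q u' = Q u := by
    have := key ![1, 0]
    simpa only [_root_.Fin.isValue, _root_.Matrix.cons_val_zero, _root_.one_smul, _root_.Matrix.cons_val_one, _root_.Matrix.cons_val_fin_one, _root_.zero_smul, _root_.add_zero] using this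
  have k2 : Q w' = Q w := by
    have := key ![0, 1]
    simpa only [_root_.Fin.isValue, _root_.Matrix.cons_val_zero, _root_.zero_smul, _root_.Matrix.cons_val_one, _root_.Matrix.cons_val_fin_one, _root_.one_smul, _root_.zero_add] using this
  have k3 : polar Q u' w' = polar Q u w := by
    have h1 := key ![1, 1]
    have h2 : e ![1, 1] = e ![1, 0] + e ![0, 1] := by
      rw [← map_add]
      congr 1
      funext i; (revert i; simp only [_root_.Fin.forall_fin_succ, _root_.Nat.succ_eq_add_one, Nat.reduceAdd, _root_.Pi.add_apply, Fin.isValue, _root_.Matrix.cons_val_zero, _root_.add_zero, _root_.Matrix.cons_val_succ, _root_.Matrix.cons_val_fin_one, _root_.zero_add, _root_.implies_true, _root_.and_self])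
    have h3 : e ![1, 1] 0 • u0 + e ![1, 1] 1 • w0 = u' + w' := by
      rw [h2, hu', hw']
      simp only [Pi.add_apply]
      module
    rw [h3] at h1
    have h4 : Q (u' + w') = Q (u + w) := by simpa only [_root_.Fin.isValue, _root_.Matrix.cons_val_zero, _root_.one_smul, _root_.Matrix.cons_val_one, _root_.Matrix.cons_val_fin_one] using h1
    rw [Q_add u' w', Q_add u w, k1, k2] at h4
    exact add_left_cancel h4
  refine ⟨u', w', ?_, k1, k2, k3⟩
  have hle : Submodule.span F {u', w'} ≤ P := by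
    rw [Submodule.span_le]
    rintro _ (rfl | rfl)
    · exact hmem _ _
    · exact hmem _ _
  have hani' : Aniso Q u' w' := by
    intro x y hxy
    apply h x y
    rw [Q_lin] at hxy ⊢
    rw [k1, k2, k3] at hxy
    exact hxy
  exact (Submodule.eq_of_le_of_finrank_eq hle (by rw [(span_pair_aniso hani').1, hP])).symm

variable [FiniteDimensional F V]

/-- a vector of given norm orthogonal to `u`, `w` -/
theorem exists_perp_value (hQ : Nondeg Q) (hd : 6 ≤ finrank F V) {u w : V} (h : Aniso Q u w) {c : F} :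
    ∃ b, polar Q b u = 0 ∧ polar Q b w = 0 ∧ Q b = c := by
  obtain ⟨h1, h2⟩ := span_pair_aniso h
  set P := Submodule.span F {u, w} with hP
  have hnd := nondeg_perp hQ (nondeg_of_aniso h1 h2)
  have hfr := finrank_perp hQ P
  rw [h1] at hfr
  obtain ⟨x, hx0, hx, hxx⟩ := exists_sing_perp (Q := Q) ![u, w] (by omega)
  have hxP : x ∈ perp Q P := by
    rw [mem_perp]
    intro y hy
    obtain ⟨a, b, rfl⟩ := Submodule.mem_span_pair.1 hy
    have e1 : polar Q u x = 0 := hxx 0
    have e2 : polar Q w x = 0 := hxx 1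
    rw [polar_add_left, polar_smul_left, polar_smul_left, e1, e2]
    simp
  -- a hyperbolic partner in `P^⊥`
  have hx' : (⟨x, hxP⟩ : perp Q P) ≠ 0 := fun h0 => hx0 (congrArg Subtype.val h0)
  obtain ⟨y, hy⟩ := exists_hyp hnd (show (res Q (perp Q P)) ⟨x, hxP⟩ = 0 from hx) hx'
  have hy1 : Q (y : V) = 0 := hy.right
  have hy2 : polar Q x (y : V) = 1 := hy.pair
  have hmem : x + c • (y : V) ∈ perp Q P := (perp Q P).add_mem hxP ((perp Q P).smul_mem _ y.2)
  have hu : u ∈ P := Submodule.subset_span (by simp)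
  have hw : w ∈ P := Submodule.subset_span (by simp)
  refine ⟨x + c • (y : V), mem_perp'.1 hmem u hu, mem_perp'.1 hmem w hw, ?_⟩
  rw [Q_add, QuadraticMap.map_smul, hx, hy1, polar_smul_right, hy2]
  simp

/-- the product of two reflections of vectors of the same norm lies in `E Q` -/
theorem refl_mul_refl_mem (hG : Good Q) {a b : V} (ha : Q a ≠ 0) (hb : Q b ≠ 0) (h : Q a = Q b) :
    refl Q a ha * refl Q b hb ∈ E Q := by
  have ha0 : a ≠ 0 := by
    rintro rfl
    exact ha (QuadraticMap.map_zero Q)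
  have hb0 : b ≠ 0 := by
    rintro rfl
    exact hb (QuadraticMap.map_zero Q)
  obtain ⟨s, hs, hsb⟩ := hG.trans_norm hb0 ha0 h.symm
  subst hsb
  have h1 : refl Q (s b) ha = s * refl Q b hb * s⁻¹ := (refl_conj (E_le_O hs) hb ha).symm
  have h2 : refl Q (s b) ha * refl Q b hb = s * (refl Q b hb * s⁻¹ * (refl Q b hb)⁻¹) := by
    have h3 : (refl Q b hb)⁻¹ = refl Q b hb := inv_eq_of_mul_eq_one_left (refl_mul_self hb)
    rw [h3, h1]
    group
  rw [h2]
  refine (E Q).mul_mem hs ?_
  exact conj_mem_E (refl_mem_O hb) ((E Q).inv_mem hs)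

/-- **transitivity on anisotropic pairs** -/
theorem trans_aniso (hQ : Nondeg Q) (hd : 6 ≤ finrank F V) {u w u' w' : V} (h : Aniso Q u w) (hu : Q u = Q u') (hw : Q w = Q w')
    (huw : polar Q u w = polar Q u' w') : ∃ g ∈ E Q, g u = u' ∧ g w = w' := by
  have hG : Good Q := good_of_finite hQ (by omega)
  have hα : Q u ≠ 0 := by
    intro hu
    exact one_ne_zero (h 1 0 (by rw [zero_smul, one_smul, add_zero, hu])).1
  have hu0 : u ≠ 0 := by
    rintro rfl
    exact hα (QuadraticMap.map_zero Q)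
  have hu0' : u' ≠ 0 := by
    rintro rfl
    rw [QuadraticMap.map_zero] at hu
    exact hα hu
  obtain ⟨g, hg, hgu⟩ := hG.trans_norm hu0 hu0' hu
  -- now `(u', g w)` and `(u', w')`
  have hgO := E_le_O hg
  have h1 : Q (g w) = Q w' := by rw [mem_O.1 hgO, hw]
  have h2 : polar Q u' (g w) = polar Q u' w' := by
    rw [← huw, ← hgu, polar_map hgO]
  have h' : Aniso Q u' w' := by
    intro x y hxy
    apply h x y
    rw [Q_lin] at hxy ⊢
    rw [hu, hw, huw]
    exact hxy
  have hg' : Aniso Q u' (g w) := by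
    intro x y hxy
    apply h x y
    rw [Q_lin] at hxy ⊢
    rw [hu, ← mem_O.1 hgO w, huw, ← h2]
    exact hxy
  set z := g w with hz
  have hdu : polar Q (z - w') u' = 0 := by
    rw [polar_sub_left, polar_comm Q z, h2, polar_comm Q w', sub_self]
  have huz : polar Q u' (z - w') = 0 := by rw [polar_comm]; exact hdu
  by_cases hd0 : Q (z - w') = 0
  · by_cases hz0 : z - w' = 0
    · exact ⟨g, hg, hgu, sub_eq_zero.1 hz0⟩
    -- a Siegel transformation
    have hzd : polar Q (z - w') z = 0 := by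
      have e1 := Q_add (Q := Q) z (-(z - w'))
      have e2 : z + -(z - w') = w' := by abel
      rw [e2, QuadraticMap.map_neg, hd0, polar_neg_right, h1] at e1
      rw [polar_comm]
      linear_combination e1
    have hsep : z ∉ Submodule.span F {u', z - w'} := by
      intro hmem
      obtain ⟨a, b, hab⟩ := Submodule.mem_span_pair.1 hmem
      by_cases hb : b = 0
      · rw [hb, zero_smul, add_zero] at hab
        have := hg' a (-1) (by rw [hab, neg_smul, one_smul, add_neg_cancel, QuadraticMap.map_zero])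
        exact one_ne_zero (neg_eq_zero.1 this.2)
      · apply hz0
        have e1 : b • (z - w') = z - a • u' := eq_sub_of_add_eq (by rw [add_comm]; exact hab)
        have e2 : Q ((-a) • u' + (1 : F) • z) = 0 := by
          have e3 : (-a) • u' + (1 : F) • z = b • (z - w') := by rw [e1]; module
          rw [e3, QuadraticMap.map_smul, hd0, smul_zero]
        exact absurd (hg' _ _ e2).2 one_ne_zero
    obtain ⟨x, hx, hxz⟩ := _root_.Cfsg.Agent.H826.Rg.exists_sep hQ hsep
    have hxu : polar Q x u' = 0 := hx u' (Submodule.subset_span (by simp))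
    have hxd : polar Q x (z - w') = 0 := hx _ (Submodule.subset_span (by simp))
    have hdx : polar Q (z - w') x = 0 := by rw [polar_comm]; exact hxd
    refine ⟨siegel Q (z - w') x hd0 hdx * g, (E Q).mul_mem (siegel_mem_E _ _) hg, ?_, ?_⟩
    · show siegel Q (z - w') x hd0 hdx (g u) = u'
      rw [hgu, siegel_apply, hdu, hxu]
      simp
    · show siegel Q (z - w') x hd0 hdx z = w'
      rw [siegel_apply, hzd, hxz]
      simp
  · -- a reflection, corrected by a reflection of `⟨u', w'⟩^⊥`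
    obtain ⟨b, hbu, hbw, hbQ⟩ := exists_perp_value hQ hd h' (c := Q (z - w'))
    have hb : Q b ≠ 0 := by rw [hbQ]; exact hd0
    refine ⟨refl Q b hb * refl Q (z - w') hd0 * g, (E Q).mul_mem (refl_mul_refl_mem hG hb hd0 hbQ) hg, ?_, ?_⟩
    · show refl Q b hb (refl Q (z - w') hd0 (g u)) = u'
      rw [hgu, refl_apply (v := z - w') hd0, hdu, mul_zero, zero_smul, sub_zero, refl_apply, hbu, mul_zero, zero_smul, sub_zero]
    · show refl Q b hb (refl Q (z - w') hd0 z) = w'
      rw [refl_sub_apply h1.symm hd0, refl_apply, hbw, mul_zero, zero_smul, sub_zero]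

/-- **the pointwise stabiliser of an anisotropic plane** -/
theorem stab_plane (hQ : Nondeg Q) (hd : 7 ≤ finrank F V) {P : Submodule F V} (hP : finrank F P = 2)
    (ha : ∀ x ∈ P, Q x = 0 → x = 0) {g : V ≃ₗ[F] V} (hg : g ∈ E Q) (hgP : ∀ x ∈ P, g x = x) : g ∈ SgU Q (perp Q P) := by
  have hfr := finrank_perp hQ P
  rw [hP] at hfr
  refine mem_SgU hQ (nondeg_perp hQ (nondeg_of_aniso hP ha)) (by omega) hg fun v => ?_
  rw [mem_perp]
  intro x hx
  rw [polar_sub_right]
  nth_rewrite 1 [← hgP x hx]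
  rw [polar_map (E_le_O hg), sub_self]

end fin

end Cfsg.Agent.H826.RgD
end

private theorem dce_8b6ffe44229a : _root_.True := by
  try have : _root_.True := by simp only [_root_.Cfsg.Agent.H826.RgD.SgU.eq_1]
  try have : _root_.True := by simp only [_root_.Cfsg.Agent.H826.RgD.SNU.eq_1]
  try have : _root_.True := by simp only [_root_.Cfsg.Agent.H826.RgD.clsU.eq_1]
  exact _root_.True.intro
end

-- part: H449/Reg/Semi
section
prune_inst 0x10000000000000
set_option linter.all false
open scoped Cfsg.Agent.FastGrp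

/-!
# S3691: groups with socle `PΩ(Q)` act on the subspaces (helper449)

`T` normal in `G`, `e : T ≃* E Q / Z(E Q)`, every element of `G` induces on `T` an automorphism which comes from a
semisimilitude of `Q` (`Ind e`; true except for `PΩ₈⁺` ).

* `act h : G → Submodule F V → Submodule F V` : the action on subspaces; `act_mul`, `act_one`, `act_T` (elements of `T` act
  as the isometries), `act_of` (`g` acts as any semisimilitude inducing the same automorphism), `finrank_act`, `act_mono`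
* `no_common` : in a factorization `G = X Y`, if `X` fixes a point `⟨v⟩`, `Q v ≠ 0`, then `Y` fixes no nonzero subspace whose
  perp contains a vector `w` with `Q w = Q v`
* `exists_fixed` : if the subspaces `≠ V` invariant under `X ∩ T` of dimension `< k` all lie in `D` and there is a nonzero one, there
  is a nonzero subspace of `D` fixed by `X`.
-/

set_option autoImplicit false

namespace Cfsg.Agent.H449.Reg

open Module QuadraticMap Cfsg.Agent.LieClassical.OrthCore Cfsg.Agent.LieClassical.OrthTrans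
  Cfsg.Agent.ClassicalGeometry.OrthSemi Cfsg.Agent.H454.Reg

universe u

section semi

variable {F V : Type*} [Field F] [AddCommGroup V] [Module F V] {Q : QuadraticForm F V}

/-- the image of a subspace under a semisimilitude -/
def img (M : Gam Q) (S : Submodule F V) : Submodule F V where
  carrier := M.1 '' S
  add_mem' := by
    rintro _ _ ⟨a, ha, rfl⟩ ⟨b, hb, rfl⟩
    exact ⟨a + b, S.add_mem ha hb, add_of_mem M.2 a b⟩
  zero_mem' := by
    obtain ⟨σ, c, hM⟩ := M.2
    exact ⟨0, S.zero_mem, hM.map_zero⟩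
  smul_mem' := by
    rintro a _ ⟨b, hb, rfl⟩
    obtain ⟨σ, c, hM⟩ := M.2
    exact ⟨σ.symm a • b, S.smul_mem _ hb, by rw [hM.smul, RingEquiv.apply_symm_apply]⟩

theorem mem_img {M : Gam Q} {S : Submodule F V} {w : V} : w ∈ img M S ↔ ∃ v ∈ S, M.1 v = w := Iff.rfl

theorem img_one (S : Submodule F V) : img (1 : Gam Q) S = S := by
  ext w
  rw [mem_img]
  constructor
  · rintro ⟨v, hv, rfl⟩; exact hv
  · intro h; exact ⟨w, h, rfl⟩

theorem img_mul (M N : Gam Q) (S : Submodule F V) : img (M * N) S = img M (img N S) := by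
  ext w
  rw [mem_img, mem_img]
  constructor
  · rintro ⟨v, hv, rfl⟩; exact ⟨N.1 v, ⟨v, hv, rfl⟩, rfl⟩
  · rintro ⟨_, ⟨v, hv, rfl⟩, rfl⟩; exact ⟨v, hv, rfl⟩

theorem img_mono (M : Gam Q) {S W : Submodule F V} (h : S ≤ W) : img M S ≤ img M W := by
  rintro _ ⟨v, hv, rfl⟩
  exact ⟨v, h hv, rfl⟩

theorem card_img (M : Gam Q) (S : Submodule F V) : Nat.card (img M S) = Nat.card S := by
  refine (Nat.card_congr (Equiv.ofBijective (fun s : S => (⟨M.1 s, s, s.2, rfl⟩ : img M S)) ⟨?_, ?_⟩)).symm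
  · intro a b hab
    have h1 : M.1 a = M.1 b := congrArg Subtype.val hab
    exact Subtype.ext (M.1.injective h1)
  · rintro ⟨_, v, hv, rfl⟩
    exact ⟨⟨v, hv⟩, rfl⟩

theorem finrank_img [Finite F] [FiniteDimensional F V] (M : Gam Q) (S : Submodule F V) :
    finrank F (img M S) = finrank F S := by
  have h1 := card_img M S
  have h2 := Module.natCard_eq_pow_finrank (K := F) (V := S)
  have h3 := Module.natCard_eq_pow_finrank (K := F) (V := img M S)
  rw [h2, h3] at h1
  exact Nat.pow_right_injective Finite.one_lt_card h1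

/-- two semisimilitudes with the same image in `MulAut (PΩ)` have the same action on subspaces -/
theorem img_eq_of_Psi (hG : Good Q) {M N : Gam Q} (h : Psi Q M = Psi Q N) (S : Submodule F V) : img M S = img N S := by
  have h1 : Psi Q (N⁻¹ * M) = 1 := by rw [map_mul, map_inv, h, inv_mul_cancel]
  have h2 : conjE Q (N⁻¹ * M) = 1 := eq_one_of_quotAut (commutator_E hG) _ h1
  obtain ⟨a, ha, h3⟩ := exists_scalar_of_conjE hG _ h2
  have h4 : img (N⁻¹ * M) S = S := by
    ext w
    rw [mem_img]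
    constructor
    · rintro ⟨v, hv, rfl⟩
      rw [h3]
      exact S.smul_mem a hv
    · intro hw
      exact ⟨a⁻¹ • w, S.smul_mem _ hw, by rw [h3, smul_smul, mul_inv_cancel₀ ha, one_smul]⟩
  have h5 : img N (img (N⁻¹ * M) S) = img M S := by rw [← img_mul, mul_inv_cancel_left]
  rw [← h5, h4]

/-- an element of `E Q` as a semisimilitude -/
def lg (g : ↥(E Q)) : Gam Q :=
  ⟨(g.1 : V ≃ₗ[F] V).toEquiv, RingEquiv.refl F, 1, ⟨one_ne_zero, fun u v => map_add g.1 u v, fun a v => map_smul g.1 a v,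
    fun v => by
      rw [one_mul]
      exact E_le_O g.2 v⟩⟩

theorem lg_apply (g : ↥(E Q)) (v : V) : (lg g).1 v = g.1 v := rfl

theorem Psi_lg (g : ↥(E Q)) :
    Psi Q (lg g) = MulAut.conj (QuotientGroup.mk g : ↥(E Q) ⧸ Subgroup.center ↥(E Q)) := by
  ext x
  induction x using QuotientGroup.induction_on with
  | H h =>
    rw [Psi_mk, MulAut.conj_apply]
    have h1 : conjE Q (lg g) h = g * h * g⁻¹ := by
      apply Subtype.ext
      rw [coe_conjE]
      ext1 v
      rfl
    rw [h1]
    rfl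

theorem img_lg (g : ↥(E Q)) (S : Submodule F V) : img (lg g) S = S.map (g.1 : V →ₗ[F] V) := by
  ext w
  rw [mem_img, Submodule.mem_map]
  rfl

end semi

section act

variable {G : Type u} [Group G] {T : Subgroup G} [T.Normal]
variable {F V : Type*} [Field F] [AddCommGroup V] [Module F V] {Q : QuadraticForm F V}

/-- the automorphism of `P Q` induced by an element of `G` -/
def autP (e : T ≃* (↥(E Q) ⧸ Subgroup.center ↥(E Q))) : G →* MulAut (↥(E Q) ⧸ Subgroup.center ↥(E Q)) :=
  (MulAut.congr e).toMonoidHom.comp (MulAut.conjNormal : G →* MulAut T)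

theorem autP_apply (e : T ≃* (↥(E Q) ⧸ Subgroup.center ↥(E Q))) (g : G) (t : T) :
    autP e g (e t) = e (MulAut.conjNormal g t) := by
  change e (MulAut.conjNormal g (e.symm (e t))) = _
  rw [e.symm_apply_apply]

theorem autP_T (e : T ≃* (↥(E Q) ⧸ Subgroup.center ↥(E Q))) (t : T) : autP e (t : G) = MulAut.conj (e t) := by
  ext x
  obtain ⟨s, rfl⟩ := e.surjective x
  rw [autP_apply, MulAut.conj_apply]
  have h1 : MulAut.conjNormal (t : G) s = t * s * t⁻¹ := by
    apply Subtype.ext
    rw [MulAut.conjNormal_apply]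
    rfl
  rw [h1, map_mul, map_mul, map_inv]

/-- every element of `G` induces an automorphism coming from a semisimilitude -/
def Ind (e : T ≃* (↥(E Q) ⧸ Subgroup.center ↥(E Q))) : Prop := ∀ g : G, ∃ M : Gam Q, Psi Q M = autP e g

theorem ind_of_surjective (e : T ≃* (↥(E Q) ⧸ Subgroup.center ↥(E Q))) (h : Function.Surjective (Psi Q)) : Ind e :=
  fun _ => h _

variable {e : T ≃* (↥(E Q) ⧸ Subgroup.center ↥(E Q))}

/-- the action of `G` on the subspaces -/
noncomputable def act (h : Ind e) (g : G) (S : Submodule F V) : Submodule F V := img (h g).choose S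

theorem act_of (hG : Good Q) (h : Ind e) {g : G} {M : Gam Q} (hM : Psi Q M = autP e g) (S : Submodule F V) :
    act h g S = img M S :=
  img_eq_of_Psi hG ((h g).choose_spec.trans hM.symm) S

theorem act_mul (hG : Good Q) (h : Ind e) (a b : G) (S : Submodule F V) : act h (a * b) S = act h a (act h b S) := by
  rw [act_of hG h (M := (h a).choose * (h b).choose) (by
    rw [map_mul, (h a).choose_spec, (h b).choose_spec, map_mul]), img_mul]
  rfl

theorem act_one (hG : Good Q) (h : Ind e) (S : Submodule F V) : act h (1 : G) S = S := by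
  rw [act_of hG h (M := 1) (by rw [map_one, map_one]), img_one]

theorem act_inv_act (hG : Good Q) (h : Ind e) (g : G) (S : Submodule F V) : act h g⁻¹ (act h g S) = S := by
  rw [← act_mul hG, inv_mul_cancel, act_one hG]

theorem act_act_inv (hG : Good Q) (h : Ind e) (g : G) (S : Submodule F V) : act h g (act h g⁻¹ S) = S := by
  rw [← act_mul hG, mul_inv_cancel, act_one hG]

theorem act_mono (h : Ind e) (g : G) {S W : Submodule F V} (hSW : S ≤ W) : act h g S ≤ act h g W := img_mono _ hSW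

theorem finrank_act [Finite F] [FiniteDimensional F V] (h : Ind e) (g : G) (S : Submodule F V) :
    finrank F (act h g S) = finrank F S := finrank_img _ S

/-- elements of `T` act as the isometries -/
theorem act_T (hG : Good Q) (h : Ind e) {t : T} {x : ↥(E Q)} (hx : e t = QuotientGroup.mk x) (S : Submodule F V) :
    act h (t : G) S = S.map (x.1 : V →ₗ[F] V) := by
  rw [act_of hG h (M := lg x) (by rw [Psi_lg, autP_T, hx]), img_lg]

theorem act_perp (h : Ind e) (g : G) {v : V} (hv : act h g (F ∙ v) = F ∙ v) {S : Submodule F V} :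
    (∀ s ∈ act h g S, polar Q s v = 0) ↔ ∀ s ∈ S, polar Q s v = 0 := by
  obtain ⟨σ, c, hM⟩ := (h g).choose.2
  set M := (h g).choose with hMdef
  have h1 : M.1 v ∈ F ∙ v := by
    rw [← hv]
    exact ⟨v, Submodule.mem_span_singleton_self v, rfl⟩
  obtain ⟨d, hd⟩ := Submodule.mem_span_singleton.1 h1
  by_cases hv0 : v = 0
  · subst hv0
    constructor
    · intro _ s _; exact polar_zero_right Q s
    · intro _ s _; exact polar_zero_right Q s
  have hd0 : d ≠ 0 := by
    rintro rfl
    rw [zero_smul] at hd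
    apply hv0
    have h2 : M.1 0 = M.1 v := by rw [hM.map_zero, hd]
    exact (M.1.injective h2).symm
  have key : ∀ s : V, polar Q (M.1 s) v = 0 ↔ polar Q s v = 0 := by
    intro s
    have h2 := hM.polar s v
    rw [← hd, polar_smul_right, smul_eq_mul] at h2
    constructor
    · intro h3
      rw [h3, mul_zero] at h2
      have h4 := (mul_eq_zero.1 h2.symm).resolve_left hM.ne
      exact (map_eq_zero σ).1 h4
    · intro h3
      rw [h3, map_zero, mul_zero] at h2
      exact (mul_eq_zero.1 h2).resolve_left hd0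
  constructor
  · intro h2 s hs
    exact (key s).1 (h2 _ ⟨s, hs, rfl⟩)
  · rintro h2 _ ⟨s, hs, rfl⟩
    exact (key s).2 (h2 s hs)

/-- some isometry in `E Q` moves `s ≠ 0` to a vector not perpendicular to `v ≠ 0` -/
theorem exists_not_perp (hG : Good Q) {v s : V} (hv : v ≠ 0) (hs : s ≠ 0) : ∃ g ∈ E Q, polar Q (g s) v ≠ 0 := by
  obtain ⟨x, y, hxy⟩ := hG.exists_hyp
  obtain ⟨a, b, hab, hv'⟩ := exists_hyp_decomp hG.nondeg hxy hv
  obtain ⟨z, w, hzw, haz, haw, hbz, hbw⟩ := hG.exists_hyp2 hab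
  have hzb : polar Q z b = 0 := by rw [polar_comm]; exact hbz
  have hwb : polar Q w b = 0 := by rw [polar_comm]; exact hbw
  have hza : polar Q z a = 0 := by rw [polar_comm]; exact haz
  have hwa : polar Q w a = 0 := by rw [polar_comm]; exact haw
  -- a vector of norm `Q s`
  have h1 : polar Q (z + Q s • w + b) v = 1 := by
    rw [hv', polar_add_left, polar_add_left, polar_add_right, polar_add_right, polar_add_right, polar_smul_left,
      polar_smul_left, polar_smul_right, polar_smul_right, polar_smul_right, hza, hwa, hzb, hwb, hab.pair', hab.polar_right]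
    simp
  have h2 : Q (z + Q s • w + b) = Q s := by
    rw [Q_add, Q_add, QuadraticMap.map_smul, hzw.left, hzw.right, hab.right, polar_smul_right, hzw.pair,
      polar_add_left, polar_smul_left, hzb, hwb]
    simp
  have h3 : z + Q s • w + b ≠ 0 := by
    intro h0
    rw [h0, polar_zero_left] at h1
    exact zero_ne_one h1
  obtain ⟨g, hg, hgs⟩ := hG.trans_norm hs h3 h2.symm
  exact ⟨g, hg, by rw [hgs, h1]; exact one_ne_zero⟩

/-- **a factor fixing a point `⟨v⟩` and a factor fixing a nonzero subspace** `S` whose perp contains a nonzero vector of norm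
`Q v` : impossible -/
theorem no_common [Finite G] (hG : Good Q) (h : Ind e) {X Y : Subgroup G} (hf : Fac T X Y) {v : V} (hv0 : v ≠ 0)
    (hX : ∀ x ∈ X, act h x (F ∙ v) = F ∙ v) {S : Submodule F V} (hS : S ≠ ⊥) (hY : ∀ y ∈ Y, act h y S = S) {w : V}
    (hw0 : w ≠ 0) (hw : Q w = Q v) (hSw : ∀ s ∈ S, polar Q s w = 0) : False := by
  -- images of `S` under `Ω`
  have key : ∀ x : ↥(E Q), (∀ s ∈ S.map (x.1 : V →ₗ[F] V), polar Q s v = 0) ↔ ∀ s ∈ S, polar Q s v = 0 := by
    intro x
    obtain ⟨a, ha, b, hb, hab⟩ := hf.exists_mul ((e.symm (QuotientGroup.mk x) : T) : G)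
    have h1 : act h ((e.symm (QuotientGroup.mk x) : T) : G) S = S.map (x.1 : V →ₗ[F] V) :=
      act_T hG h (by rw [e.apply_symm_apply]) S
    rw [← hab, act_mul hG, hY b hb] at h1
    rw [← h1]
    exact act_perp h a (hX a ha)
  -- some image is perpendicular to `v`
  obtain ⟨g, hg, hgw⟩ := hG.trans_norm hw0 hv0 hw
  have h1 : ∀ s ∈ S, polar Q s v = 0 := by
    rw [← key ⟨g, hg⟩]
    rintro _ ⟨s, hs, rfl⟩
    change polar Q (g s) v = 0
    rw [← hgw, polar_map (E_le_O hg)]
    exact hSw s hs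
  -- some image is not
  obtain ⟨s, hs, hs0⟩ := Submodule.exists_mem_ne_zero_of_ne_bot hS
  obtain ⟨g', hg', hne⟩ := exists_not_perp hG hv0 hs0
  exact hne ((key ⟨g', hg'⟩).2 h1 _ ⟨s, hs, rfl⟩)

/-- `W` is invariant under `X ∩ T` -/
def Inv0 (h : Ind e) (X : Subgroup G) (W : Submodule F V) : Prop := ∀ t : T, (t : G) ∈ X → act h (t : G) W = W

theorem Inv0.act (hG : Good Q) {h : Ind e} {X : Subgroup G} {W : Submodule F V} (hW : Inv0 h X W) {g : G} (hg : g ∈ X) :
    Inv0 h X (act h g W) := by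
  intro t ht
  have h1 : (g⁻¹ * (t : G) * g) ∈ T := by
    have := (inferInstance : T.Normal).conj_mem (t : G) t.2 g⁻¹
    rwa [inv_inv] at this
  have h2 : Reg.act h (g⁻¹ * (t : G) * g) W = W := hW ⟨_, h1⟩ (X.mul_mem (X.mul_mem (X.inv_mem hg) ht) hg)
  have h3 : (t : G) * g = g * (g⁻¹ * (t : G) * g) := by group
  rw [← act_mul hG, h3, act_mul hG, h2]

/-- **a subspace fixed by `X`** from the subspaces invariant under `X ∩ T` -/
theorem exists_fixed [Finite F] [FiniteDimensional F V] (hG : Good Q) (h : Ind e) {X : Subgroup G} {k : ℕ}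
    {D : Submodule F V} (hD : ∀ W : Submodule F V, Inv0 h X W → finrank F W < k → W ≤ D)
    (hex : ∃ W : Submodule F V, Inv0 h X W ∧ finrank F W < k ∧ W ≠ ⊥) :
    ∃ S : Submodule F V, S ≠ ⊥ ∧ S ≤ D ∧ ∀ x ∈ X, act h x S = S := by
  set A : Set (Submodule F V) := {W | Inv0 h X W ∧ finrank F W < k} with hA
  have hle : ∀ x ∈ X, sSup A ≤ act h x (sSup A) := by
    intro x hx
    refine sSup_le fun W hW => ?_
    have h1 : act h x⁻¹ W ∈ A := ⟨hW.1.act hG (X.inv_mem hx), by rw [finrank_act]; exact hW.2⟩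
    have h2 := act_mono h x (le_sSup h1)
    rwa [act_act_inv hG] at h2
  refine ⟨sSup A, ?_, sSup_le fun W hW => hD W hW.1 hW.2, fun x hx => le_antisymm ?_ (hle x hx)⟩
  · obtain ⟨W, hW, hd, hne⟩ := hex
    intro h0
    apply hne
    rw [eq_bot_iff, ← h0]
    exact le_sSup ⟨hW, hd⟩
  · have h1 := act_mono h x (hle x⁻¹ (X.inv_mem hx))
    rwa [act_act_inv hG] at h1

end act

end Cfsg.Agent.H449.Reg
end

-- part: H449/Reg/Semi2
section
set_option linter.all false
open scoped Cfsg.Agent.FastGrp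

/-!
# S3691: factors fixing subspaces, general form (helper449)

* `act_perp_iff` : `act g S ⊥ act g P ↔ S ⊥ P`
* `no_common'` : `G = X Y`, `X` fixes `P ≠ 0`, `Y` fixes `S ≠ 0`, some image of `S` under `Ω` is perpendicular to `P`: impossible
* `exists_act_eq` : `X` is transitive on the images of `S` under `Ω`
-/

set_option autoImplicit false

namespace Cfsg.Agent.H449.Reg

open Module QuadraticMap Cfsg.Agent.LieClassical.OrthCore Cfsg.Agent.LieClassical.OrthTrans
  Cfsg.Agent.ClassicalGeometry.OrthSemi Cfsg.Agent.H454.Reg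

universe u

variable {G : Type u} [Group G] {T : Subgroup G} [T.Normal]
variable {F V : Type*} [Field F] [AddCommGroup V] [Module F V] {Q : QuadraticForm F V}
variable {e : T ≃* (↥(E Q) ⧸ Subgroup.center ↥(E Q))}

theorem act_perp_iff (h : Ind e) (g : G) {S P : Submodule F V} :
    (∀ s ∈ act h g S, ∀ p ∈ act h g P, polar Q s p = 0) ↔ ∀ s ∈ S, ∀ p ∈ P, polar Q s p = 0 := by
  obtain ⟨σ, c, hM⟩ := (h g).choose.2
  set M := (h g).choose with hMdef
  have key : ∀ s p : V, polar Q (M.1 s) (M.1 p) = 0 ↔ polar Q s p = 0 := by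
    intro s p
    rw [hM.polar]
    constructor
    · intro h3
      exact (map_eq_zero σ).1 ((mul_eq_zero.1 h3).resolve_left hM.ne)
    · intro h3
      rw [h3, map_zero, mul_zero]
  constructor
  · intro h2 s hs p hp
    exact (key s p).1 (h2 _ ⟨s, hs, rfl⟩ _ ⟨p, hp, rfl⟩)
  · rintro h2 _ ⟨s, hs, rfl⟩ _ ⟨p, hp, rfl⟩
    exact (key s p).2 (h2 s hs p hp)

/-- `X` is transitive on the images of `S` under `Ω` if `Y` fixes `S` -/
theorem exists_act_eq [Finite G] (hG : Good Q) (h : Ind e) {X Y : Subgroup G} (hf : Fac T X Y) {S : Submodule F V}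
    (hY : ∀ y ∈ Y, act h y S = S) {g : V ≃ₗ[F] V} (hg : g ∈ E Q) : ∃ x ∈ X, act h x S = S.map (g : V →ₗ[F] V) := by
  obtain ⟨a, ha, b, hb, hab⟩ := hf.exists_mul ((e.symm (QuotientGroup.mk ⟨g, hg⟩) : T) : G)
  have h1 : act h ((e.symm (QuotientGroup.mk ⟨g, hg⟩) : T) : G) S = S.map (g : V →ₗ[F] V) :=
    act_T hG h (x := ⟨g, hg⟩) (by rw [e.apply_symm_apply]) S
  rw [← hab, act_mul hG, hY b hb] at h1
  exact ⟨a, ha, h1⟩

/-- **factors fixing subspaces** -/
theorem no_common' [Finite G] (hG : Good Q) (h : Ind e) {X Y : Subgroup G} (hf : Fac T X Y) {P S : Submodule F V}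
    (hP : P ≠ ⊥) (hX : ∀ x ∈ X, act h x P = P) (hS : S ≠ ⊥) (hY : ∀ y ∈ Y, act h y S = S)
    (hex : ∃ g ∈ E Q, ∀ s ∈ S, ∀ p ∈ P, polar Q (g s) p = 0) : False := by
  have key : ∀ g ∈ E Q, (∀ s ∈ S.map (g : V →ₗ[F] V), ∀ p ∈ P, polar Q s p = 0) ↔ ∀ s ∈ S, ∀ p ∈ P, polar Q s p = 0 := by
    intro g hg
    obtain ⟨x, hx, hxS⟩ := exists_act_eq hG h hf hY hg
    rw [← hxS]
    conv_lhs => rw [← hX x hx]
    exact act_perp_iff h x
  obtain ⟨g, hg, hgS⟩ := hex
  have h1 : ∀ s ∈ S, ∀ p ∈ P, polar Q s p = 0 := by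
    rw [← key g hg]
    rintro _ ⟨s, hs, rfl⟩ p hp
    exact hgS s hs p hp
  obtain ⟨s, hs, hs0⟩ := Submodule.exists_mem_ne_zero_of_ne_bot hS
  obtain ⟨p, hp, hp0⟩ := Submodule.exists_mem_ne_zero_of_ne_bot hP
  obtain ⟨g', hg', hne⟩ := exists_not_perp hG hp0 hs0
  exact hne ((key g' hg').2 h1 _ ⟨s, hs, rfl⟩ p hp)

end Cfsg.Agent.H449.Reg
end

-- part: H826/Rg/Gam
section
prune_inst 0x4b57065442de200000818801620200064780005b2004304004c020f000a41ae432d850e413fe0001712928cc1600d006001080010426000000e008e000005000004811606a058a808020016000880000000000000000000000000000000010000000000000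
set_option linter.all false
open scoped Cfsg.Agent.FastGrp

/-!
# S3691, residual cases with the stabiliser of a nonsingular vector (helper826)

`T` normal in `G`, `e : T ≃* E Q / Z(E Q)`, `Fac T X Y`.
* `preE e X` : the preimage of `X ∩ T` in `E Q`;
* `semireg` : if `X` contains the Siegel transformations of `v^⊥`, `Q v ≠ 0`, then `preE e Y` is semiregular on the vectors of
  norm `Q v`;
* `Gh e Y` : the group of the semisimilitudes which induce automorphisms coming from `Y`; `exists_gh` : if `X` fixes `⟨v⟩`, it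
  is transitive on the vectors of norm `Q v`; `derived_le` : its third derived subgroup is contained in `preE e Y`.
-/

set_option autoImplicit false
set_option linter.unusedSectionVars false

namespace Cfsg.Agent.H826.Rg

open QuadraticMap Module
open Cfsg.Agent.LieClassical.OrthCore Cfsg.Agent.LieClassical.OrthTrans
open Cfsg.Agent.ClassicalGeometry.OrthSemi Cfsg.Agent.H454.Reg Cfsg.Agent.H449.Reg
open scoped commutatorElement

universe u

section act

variable {G : Type u} [Group G] {T : Subgroup G} [T.Normal]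
variable {F V : Type*} [Field F] [AddCommGroup V] [Module F V] {Q : QuadraticForm F V}

/-- the preimage of `X ∩ T` in `E Q` -/
def preE (e : T ≃* (↥(E Q) ⧸ Subgroup.center ↥(E Q))) (X : Subgroup G) : Subgroup (V ≃ₗ[F] V) where
  carrier := {g | ∃ hg : g ∈ E Q, ((e.symm (QuotientGroup.mk ⟨g, hg⟩) : T) : G) ∈ X}
  mul_mem' := by
    rintro a b ⟨ha, ha'⟩ ⟨hb, hb'⟩
    refine ⟨(E Q).mul_mem ha hb, ?_⟩
    have h1 : (⟨a * b, (E Q).mul_mem ha hb⟩ : ↥(E Q)) = ⟨a, ha⟩ * ⟨b, hb⟩ := rfl
    rw [h1, QuotientGroup.mk_mul, map_mul]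
    exact X.mul_mem ha' hb'
  one_mem' := by
    refine ⟨(E Q).one_mem, ?_⟩
    have h1 : (⟨1, (E Q).one_mem⟩ : ↥(E Q)) = 1 := rfl
    rw [h1, QuotientGroup.mk_one, map_one]
    exact X.one_mem
  inv_mem' := by
    rintro a ⟨ha, ha'⟩
    refine ⟨(E Q).inv_mem ha, ?_⟩
    have h1 : (⟨a⁻¹, (E Q).inv_mem ha⟩ : ↥(E Q)) = ⟨a, ha⟩⁻¹ := rfl
    rw [h1, QuotientGroup.mk_inv, map_inv]
    exact X.inv_mem ha'

variable {e : T ≃* (↥(E Q) ⧸ Subgroup.center ↥(E Q))} {X Y : Subgroup G}

theorem mem_preE {g : V ≃ₗ[F] V} (hg : g ∈ E Q) :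
    g ∈ preE e X ↔ ((e.symm (QuotientGroup.mk ⟨g, hg⟩) : T) : G) ∈ X := ⟨fun h => h.2, fun h => ⟨hg, h⟩⟩

theorem preE_le_E : preE e X ≤ E Q := fun _ hg => hg.1

theorem preE_le_O : preE e X ≤ O Q := fun _ hg => E_le_O hg.1

/-- a central element of `E Q` with a nonzero fixed vector is trivial -/
theorem eq_one_of_central (hG : Good Q) {g : V ≃ₗ[F] V} (hg : g ∈ E Q)
    (hc : (⟨g, hg⟩ : ↥(E Q)) ∈ Subgroup.center ↥(E Q)) {u : V} (hu : u ≠ 0) (hgu : g u = u) : g = 1 := by
  have h1 : conjE Q (lg ⟨g, hg⟩) = 1 := by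
    ext x v
    obtain ⟨v, rfl⟩ := (lg (Q := Q) ⟨g, hg⟩).1.surjective v
    rw [coe_conjE, conjLin_apply']
    have h2 := congrArg Subtype.val (Subgroup.mem_center_iff.1 hc x)
    have h3 := congrArg (fun z : V ≃ₗ[F] V => z v) h2
    exact h3.symm
  obtain ⟨a, -, ha⟩ := exists_scalar_of_conjE hG _ h1
  have h2 : u = a • u := by
    have h3 := ha u
    rw [lg_apply] at h3
    rw [← h3]
    exact hgu.symm
  have ha1 : a = 1 := by
    have h3 : (1 - a) • u = 0 := by rw [sub_smul, one_smul, ← h2, sub_self]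
    exact (sub_eq_zero.1 ((smul_eq_zero.1 h3).resolve_right hu)).symm
  ext v
  have h3 := ha v
  rw [lg_apply, ha1, one_smul] at h3
  exact h3

/-- **semiregularity** -/
theorem semireg [Finite G] [Finite F] [FiniteDimensional F V] (hG : Good Q) (hd : 7 ≤ finrank F V) (hf : Fac T X Y) {v : V}
    (hv : Q v ≠ 0) (hs : Sg Q v ≤ preE e X) {g : V ≃ₗ[F] V} (hg : g ∈ preE e Y) {u : V} (hu : Q u = Q v) (hgu : g u = u) :
    g = 1 := by
  have hu0 : u ≠ 0 := by
    rintro rfl
    rw [QuadraticMap.map_zero] at hu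
    exact hv hu.symm
  have hv0 : v ≠ 0 := by
    rintro rfl
    exact hv (QuadraticMap.map_zero Q)
  obtain ⟨k, hk, hku⟩ := hG.trans_norm hu0 hv0 hu
  have hgE := preE_le_E hg
  have h1 : k * g * k⁻¹ ∈ E Q := (E Q).mul_mem ((E Q).mul_mem hk hgE) ((E Q).inv_mem hk)
  have h2 : (k * g * k⁻¹) v = v := by
    show k (g (k.symm v)) = v
    have h3 : k.symm v = u := by rw [LinearEquiv.symm_apply_eq, hku]
    rw [h3, hgu, hku]
  have h3 := hs (mem_Sg_of_fix hG.nondeg hd hv h1 h2)
  rw [mem_preE h1] at h3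
  have h4 := (mem_preE hgE).1 hg
  set t := (e.symm (QuotientGroup.mk ⟨g, hgE⟩) : T) with ht
  set s := (e.symm (QuotientGroup.mk ⟨k, hk⟩) : T) with hs'
  have h5 : (e.symm (QuotientGroup.mk ⟨k * g * k⁻¹, h1⟩) : T) = s * t * s⁻¹ := by
    have e1 : (⟨k * g * k⁻¹, h1⟩ : ↥(E Q)) = ⟨k, hk⟩ * ⟨g, hgE⟩ * ⟨k, hk⟩⁻¹ := rfl
    rw [e1, QuotientGroup.mk_mul, QuotientGroup.mk_mul, QuotientGroup.mk_inv, map_mul, map_mul, map_inv]
  rw [h5] at h3
  have h6 : (t : G) = 1 := by
    refine hf.symm.not_conj h4 (s : G) ?_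
    exact h3
  have h7 : t = 1 := Subtype.ext h6
  have h8 : (QuotientGroup.mk ⟨g, hgE⟩ : ↥(E Q) ⧸ Subgroup.center ↥(E Q)) = 1 := by
    rw [← e.apply_symm_apply (QuotientGroup.mk ⟨g, hgE⟩), ← ht, h7, map_one]
  rw [QuotientGroup.eq_one_iff] at h8
  exact eq_one_of_central hG hgE h8 hu0 hgu

/-! ### the semisimilitudes coming from `Y` -/

/-- the semisimilitudes which induce automorphisms coming from `Y` -/
def Gh (e : T ≃* (↥(E Q) ⧸ Subgroup.center ↥(E Q))) (Y : Subgroup G) : Subgroup (Gam Q) :=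
  (Y.map (autP e)).comap (Psi Q)

theorem mem_Gh {M : Gam Q} : M ∈ Gh e Y ↔ ∃ y ∈ Y, autP e y = Psi Q M := Iff.rfl

theorem autP_injective (hc : Subgroup.centralizer (T : Set G) = ⊥) : Function.Injective (autP e) := by
  rw [injective_iff_map_eq_one]
  intro g hg
  have h1 : g ∈ Subgroup.centralizer (T : Set G) := by
    rw [Subgroup.mem_centralizer_iff]
    intro t ht
    have h2 := congrArg (fun z : MulAut _ => z (e ⟨t, ht⟩)) hg
    simp only [MulAut.one_apply] at h2
    rw [autP_apply] at h2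
    have h3 := congrArg Subtype.val (e.injective h2)
    rw [MulAut.conjNormal_apply] at h3
    exact (mul_inv_eq_iff_eq_mul.1 h3).symm
  rw [hc, Subgroup.mem_bot] at h1
  exact h1

theorem lg_mem_iff (hc : Subgroup.centralizer (T : Set G) = ⊥) (g : ↥(E Q)) : lg g ∈ Gh e Y ↔ (g : V ≃ₗ[F] V) ∈ preE e Y := by
  rw [mem_preE g.2, mem_Gh]
  have h1 : autP e ((e.symm (QuotientGroup.mk g) : T) : G) = Psi Q (lg g) := by
    rw [autP_T, e.apply_symm_apply, Psi_lg]
  constructor
  · rintro ⟨y, hy, h2⟩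
    rw [← h1] at h2
    have h3 := autP_injective hc h2
    rw [← h3]; exact hy
  · intro h
    exact ⟨_, h, h1⟩

/-- scalars -/
def sc (Q : QuadraticForm F V) (a : Fˣ) : Gam Q :=
  ⟨{ toFun := fun v => (a : F) • v
     invFun := fun v => ((a⁻¹ : Fˣ) : F) • v
     left_inv := fun v => by
      show ((a⁻¹ : Fˣ) : F) • (a : F) • v = v
      rw [smul_smul, Units.inv_mul, one_smul]
     right_inv := fun v => by
      show (a : F) • ((a⁻¹ : Fˣ) : F) • v = v
      rw [smul_smul, Units.mul_inv, one_smul] }, RingEquiv.refl F, (a : F) * a,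
   ⟨mul_ne_zero a.ne_zero a.ne_zero, fun u v => smul_add _ _ _, fun b v => by
      show (a : F) • b • v = b • (a : F) • v
      rw [smul_comm], fun v => by
      show Q ((a : F) • v) = _
      rw [QuadraticMap.map_smul, smul_eq_mul]
      rfl⟩⟩

theorem sc_apply (a : Fˣ) (v : V) : (sc Q a).1 v = (a : F) • v := rfl

theorem Psi_sc (a : Fˣ) : Psi Q (sc Q a) = 1 := by
  have h1 : conjE Q (sc Q a) = 1 := by
    ext x v
    obtain ⟨v, rfl⟩ := (sc Q a).1.surjective v
    rw [coe_conjE, conjLin_apply']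
    show (a : F) • (x : V ≃ₗ[F] V) v = (x : V ≃ₗ[F] V) ((a : F) • v)
    rw [map_smul]
  ext x
  induction x using QuotientGroup.induction_on with
  | H k => rw [Psi_mk, h1]; rfl

theorem sc_mem (a : Fˣ) : sc Q a ∈ Gh e Y := ⟨1, Y.one_mem, by rw [map_one, Psi_sc]⟩

/-- **transitivity** -/
theorem exists_gh [Finite G] (hG : Good Q) (h : Ind e) (hf : Fac T X Y) {v : V} (hv : Q v ≠ 0)
    (hfix : ∀ x ∈ X, act h x (F ∙ v) = F ∙ v) {u u' : V} (hu : Q u = Q v) (hu' : Q u' = Q v) :
    ∃ M ∈ Gh e Y, M.1 u = u' := by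
  have hv0 : v ≠ 0 := by
    rintro rfl
    exact hv (QuadraticMap.map_zero Q)
  have key : ∀ w : V, Q w = Q v → ∃ M ∈ Gh e Y, M.1 v = w := by
    intro w hw
    have hw0 : w ≠ 0 := by
      rintro rfl
      rw [QuadraticMap.map_zero] at hw
      exact hv hw.symm
    obtain ⟨g, hg, hgv⟩ := hG.trans_norm hv0 hw0 hw.symm
    obtain ⟨y, hy, x, hx, hyx⟩ := hf.symm.exists_mul ((e.symm (QuotientGroup.mk ⟨g, hg⟩) : T) : G)
    have h1 : act h ((e.symm (QuotientGroup.mk ⟨g, hg⟩) : T) : G) (F ∙ v) = (F ∙ v).map (g : V →ₗ[F] V) :=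
      act_T hG h (x := ⟨g, hg⟩) (by rw [e.apply_symm_apply]) _
    rw [← hyx, act_mul hG, hfix x hx] at h1
    obtain ⟨M, hM⟩ := h y
    rw [act_of hG h hM] at h1
    have h2 : M.1 v ∈ (F ∙ v).map (g : V →ₗ[F] V) := by
      rw [← h1]
      exact ⟨v, Submodule.mem_span_singleton_self v, rfl⟩
    obtain ⟨z, hz, hzM⟩ := h2
    obtain ⟨a, rfl⟩ := Submodule.mem_span_singleton.1 hz
    have h3 : M.1 v = a • w := by
      rw [← hzM, map_smul]
      show a • g v = a • w
      rw [hgv]
    have ha : a ≠ 0 := by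
      rintro rfl
      rw [zero_smul] at h3
      obtain ⟨σ, c, hS⟩ := M.2
      have h4 : M.1 0 = M.1 v := by rw [hS.map_zero, h3]
      exact hv0 (M.1.injective h4).symm
    refine ⟨sc Q (Units.mk0 a ha)⁻¹ * M, (Gh e Y).mul_mem (sc_mem _) ⟨y, hy, hM.symm⟩, ?_⟩
    show (sc Q (Units.mk0 a ha)⁻¹).1 (M.1 v) = w
    have h5 : (((Units.mk0 a ha)⁻¹ : Fˣ) : F) * a = 1 := by
      rw [Units.val_inv_eq_inv_val, Units.val_mk0, inv_mul_cancel₀ ha]
    rw [h3, sc_apply, smul_smul, h5, one_smul]
  obtain ⟨M, hM, hMv⟩ := key u hu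
  obtain ⟨M', hM', hMv'⟩ := key u' hu'
  refine ⟨M' * M⁻¹, (Gh e Y).mul_mem hM' ((Gh e Y).inv_mem hM), ?_⟩
  show M'.1 (M.1.symm u) = u'
  rw [← hMv, Equiv.symm_apply_apply, hMv']

/-! ### the derived series of the group of semisimilitudes -/

theorem ringAut_comm [Finite F] (σ τ : F ≃+* F) (x : F) : σ (τ x) = τ (σ x) := by
  obtain ⟨γ, hγ⟩ := IsCyclic.exists_generator (α := Fˣ)
  obtain ⟨i, hi⟩ := Subgroup.mem_zpowers_iff.1 (hγ (Units.map (σ : F →* F) γ))
  have key : ∀ z : Fˣ, Units.map (σ : F →* F) z = z ^ i := by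
    intro z
    obtain ⟨k, rfl⟩ := Subgroup.mem_zpowers_iff.1 (hγ z)
    rw [map_zpow, ← hi, ← zpow_mul, ← zpow_mul, mul_comm]
  by_cases hx : x = 0
  · rw [hx, map_zero, map_zero, map_zero]
  have h1 := congrArg Units.val (key (Units.map (τ : F →* F) (Units.mk0 x hx)))
  rw [← map_zpow, ← key] at h1
  exact h1

/-- `E Q` in the group of semisimilitudes -/
def lgH (Q : QuadraticForm F V) : ↥(E Q) →* Gam Q where
  toFun := lg
  map_one' := rfl
  map_mul' _ _ := rfl

/-- the semisimilitudes which are linear -/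
def K1 (Q : QuadraticForm F V) : Subgroup (Gam Q) where
  carrier := {M | ∃ c, IsSS Q (RingEquiv.refl F) c M.1}
  mul_mem' := by
    rintro M N ⟨c, hM⟩ ⟨d, hN⟩
    exact ⟨_, hM.mul hN⟩
  one_mem' := ⟨1, one_ne_zero, fun _ _ => rfl, fun _ _ => rfl, fun _ => by
    rw [one_mul]; rfl⟩
  inv_mem' := by
    rintro M ⟨c, hM⟩
    exact ⟨_, hM.inv⟩

/-- the isometries -/
def K2 (Q : QuadraticForm F V) : Subgroup (Gam Q) where
  carrier := {M | IsSS Q (RingEquiv.refl F) 1 M.1}
  mul_mem' := by
    rintro M N hM hN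
    have h1 := IsSS.mul hM hN
    have h2 : (1 : F) * (RingEquiv.refl F) 1 = 1 := by rw [map_one, one_mul]
    rw [h2] at h1
    exact h1
  one_mem' := ⟨one_ne_zero, fun _ _ => rfl, fun _ _ => rfl, fun _ => by
    rw [one_mul]; rfl⟩
  inv_mem' := by
    rintro M hM
    have h1 := IsSS.inv hM
    have h2 : (RingEquiv.refl F).symm (1 : F)⁻¹ = 1 := by rw [inv_one, map_one]
    rw [h2] at h1
    exact h1

/-- an isometry as a linear map -/
def toL (M : Gam Q) (h : IsSS Q (RingEquiv.refl F) 1 M.1) : V ≃ₗ[F] V :=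
  { toFun := M.1
    invFun := M.1.symm
    left_inv := M.1.left_inv
    right_inv := M.1.right_inv
    map_add' := h.add
    map_smul' := h.smul }

theorem toL_mem (M : Gam Q) (h : IsSS Q (RingEquiv.refl F) 1 M.1) : toL M h ∈ O Q := by
  intro v
  have h1 := h.form v
  rw [one_mul] at h1
  exact h1

theorem derived_le [Finite F] (hG : Good Q) : derivedSeries (Gam Q) 3 ≤ (lgH Q).range := by
  have h1 : derivedSeries (Gam Q) 1 ≤ K1 Q := by
    rw [derivedSeries_succ, derivedSeries_zero, Subgroup.commutator_le]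
    rintro M - N -
    obtain ⟨σ, c, hM⟩ := M.2
    obtain ⟨τ, d, hN⟩ := N.2
    have h3 := ((hM.mul hN).mul hM.inv).mul hN.inv
    have h4 : (τ.symm).trans ((σ.symm).trans (τ.trans σ)) = RingEquiv.refl F := by
      ext x
      show σ (τ (σ.symm (τ.symm x))) = x
      rw [ringAut_comm σ τ, RingEquiv.apply_symm_apply, RingEquiv.apply_symm_apply]
    rw [h4] at h3
    exact ⟨_, h3⟩
  have h2 : derivedSeries (Gam Q) 2 ≤ K2 Q := by
    rw [derivedSeries_succ]
    refine (Subgroup.commutator_mono h1 h1).trans ?_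
    rw [Subgroup.commutator_le]
    rintro M ⟨c, hM⟩ N ⟨d, hN⟩
    have h3 := ((hM.mul hN).mul hM.inv).mul hN.inv
    have hc := hM.ne
    have hd := hN.ne
    refine ⟨one_ne_zero, h3.add, h3.smul, fun v => ?_⟩
    have h4 := h3.form v
    show Q ((M.1 * N.1 * M.1⁻¹ * N.1⁻¹) v) = 1 * Q v
    rw [h4]
    show c * d * c⁻¹ * d⁻¹ * Q v = 1 * Q v
    field_simp
  rw [derivedSeries_succ]
  refine (Subgroup.commutator_mono h2 h2).trans ?_
  rw [Subgroup.commutator_le]
  intro M hM N hN
  have h3 : ⁅toL M hM, toL N hN⁆ ∈ E Q := by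
    rw [← hG.commutator_eq_E]
    exact Subgroup.commutator_mem_commutator (toL_mem M hM) (toL_mem N hN)
  exact ⟨⟨_, h3⟩, rfl⟩

end act

end Cfsg.Agent.H826.Rg

private theorem dce_cbeda4cb8a11 : _root_.True := by
  try have : _root_.True := by simp only [_root_.Cfsg.Agent.H449.Reg.autP.congr_simp]
  exact _root_.True.intro
end

-- part: H420/Rg/Base
section
set_option linter.all false
open scoped Cfsg.Agent.FastGrp

/-!
# S3691: factorizations of a simple group `S` "up to `e ∣ |Out S|`" (helper420)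

`Tri S X Y e` : `X`, `Y` proper subgroups of `S`, no nontrivial element of `X` conjugate to one of `Y`,
`e ∣ |Out S|`, `|X| |Y| e = |S|`;
`tri_of_fac` : from the exact factorizations of the almost simple groups with socle `S`.
-/

set_option autoImplicit false

namespace Cfsg.Agent.H420.Rg

open Cfsg Subgroup Cfsg.Agent.H454.Reg

universe u v

structure Tri (S : Type v) [Group S] (X Y : Subgroup S) (e : ℕ) : Prop where
  left : X ≠ ⊤
  right : Y ≠ ⊤
  out : e ∣ Nat.card (Out S)
  card : Nat.card X * Nat.card Y * e = Nat.card S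
  conj : ∀ x ∈ X, ∀ y ∈ Y, IsConj x y → x = 1
  both : ∀ r : ℕ, r.Prime → (∀ P : Subgroup S, IsPGroup r P → IsCyclic P) → r ∣ Nat.card X → r ∣ Nat.card Y → False
  large : 3 * Nat.factorial 29 < Nat.card S

namespace Tri

variable {S : Type v} [Group S] {X Y : Subgroup S} {e : ℕ}

theorem symm (h : Tri S X Y e) : Tri S Y X e :=
  ⟨h.right, h.left, h.out, by rw [mul_comm (Nat.card Y)]; exact h.card, fun y hy x hx hc => by
    have h1 := h.conj x hx y hy hc.symm
    rw [h1] at hc
    exact isConj_one_left.1 hc, fun r hr hc h1 h2 => h.both r hr hc h2 h1, h.large⟩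

theorem index_left [Finite S] (h : Tri S X Y e) : X.index = Nat.card Y * e := by
  have h1 := X.card_mul_index
  rw [← h.card, mul_assoc] at h1
  exact Nat.eq_of_mul_eq_mul_left Nat.card_pos h1

theorem epos [Finite S] (h : Tri S X Y e) : 0 < e := by
  rcases Nat.eq_zero_or_pos e with rfl | h1
  · have := h.card
    rw [mul_zero] at this
    exact absurd this Nat.card_pos.ne
  · exact h1

/-- a prime divisor of `|S|` prime to `e` divides one of the factors -/
theorem prime_dvd (h : Tri S X Y e) {r : ℕ} (hr : r.Prime) (hrS : r ∣ Nat.card S) (hre : ¬ r ∣ e) :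
    r ∣ Nat.card X ∨ r ∣ Nat.card Y := by
  rw [← h.card, hr.dvd_mul, hr.dvd_mul] at hrS
  rcases hrS with h1 | h1
  · exact h1
  · exact absurd h1 hre

/-- the exponents of a prime -/
theorem val [Finite S] (h : Tri S X Y e) (r : ℕ) :
    (Nat.card X).factorization r + (Nat.card Y).factorization r + e.factorization r =
      (Nat.card S).factorization r := by
  have h1 : Nat.card X ≠ 0 := Nat.card_pos.ne'
  have h2 : Nat.card Y ≠ 0 := Nat.card_pos.ne'
  have he : e ≠ 0 := h.epos.ne'
  rw [← h.card, Nat.factorization_mul (mul_ne_zero h1 h2) he, Nat.factorization_mul h1 h2]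
  simp only [Finsupp.add_apply]

end Tri

/-- transport of an exact factorization of an almost simple group -/
theorem tri_of_fac {G : Type u} [Group G] [Finite G] {T H B : Subgroup G} (h : Fac T H B) {S : Type v} [Group S] [Finite S]
    (f : T ≃* S) : ∃ (X Y : Subgroup S) (e : ℕ), Tri S X Y e ∧ e ∣ T.index ∧
      X = (H.subgroupOf T).map f.toMonoidHom ∧ Y = (B.subgroupOf T).map f.toMonoidHom := by
  obtain ⟨e, he1, he2, he3⟩ := h.card0
  have hc : ∀ X : Subgroup T, Nat.card (X.map f.toMonoidHom) = Nat.card X := fun X =>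
    card_map_of_injective f.injective
  have ht : ∀ X : Subgroup T, X.map f.toMonoidHom = ⊤ → X = ⊤ := by
    intro X hX
    rw [← card_eq_iff_eq_top] at hX ⊢
    rw [← hc, hX]
    exact (Nat.card_congr f.toEquiv).symm
  refine ⟨_, _, e, ⟨fun h1 => h.ne_top_left (ht _ h1), fun h1 => h.ne_top_right (ht _ h1), ?_, ?_, ?_, ?_, ?_⟩,
    he1, rfl, rfl⟩
  · rw [← H55.OutGen.card_out_congr f]; exact he2
  · rw [hc, hc, he3]; exact Nat.card_congr f.toEquiv
  · rintro _ ⟨x, hx, rfl⟩ _ ⟨y, hy, rfl⟩ hxy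
    have h1 : IsConj x y := by
      obtain ⟨g, hg⟩ := isConj_iff.1 hxy
      rw [isConj_iff]
      refine ⟨f.symm g, f.injective ?_⟩
      rw [map_mul, map_mul, map_inv, f.apply_symm_apply]
      exact hg
    obtain ⟨g, hg⟩ := isConj_iff.1 h1
    have h2 : (x : G) = 1 := h.not_conj hx (g : G) (by
      have : (g : G) * (x : G) * (g : G)⁻¹ = (y : G) := by rw [← hg]; rfl
      rw [this]; exact hy)
    have h3 : x = 1 := Subtype.ext h2
    rw [h3, map_one]
  · intro r hr hcyc h1 h2
    rw [hc] at h1 h2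
    refine h.not_both hr (fun P hP => ?_) h1 h2
    have h3 := hcyc _ (hP.map f.toMonoidHom)
    exact isCyclic_of_injective (f.toMonoidHom.subgroupMap P) (fun a b hab => by
      apply Subtype.ext
      apply f.injective
      exact congrArg Subtype.val hab)
  · rw [← Nat.card_congr f.toEquiv]; exact h.large

end Cfsg.Agent.H420.Rg
end

-- part: H449/Reg/Real
section
prune_inst 0x10000000000000
set_option linter.all false
open scoped Cfsg.Agent.FastGrp

/-!
# S3691: groups with a classical socle act on the subspaces, abstract form (helper449)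

`E0 ≤ GL(V)`, `T` normal in `G`, `π : E0 → T` surjective with scalar kernel, every `g ∈ G` is induced by a semilinear bijection
`M` of `V` normalising `E0` (`Induces`), and a semilinear bijection commuting with `E0` up to scalars is a scalar:
`Real T E0`.

* `Semi F V` : the group of semilinear bijections, as a subgroup of `Equiv.Perm V`;  `img M S` the image of a subspace
* `Real.act` : the action of `G` on the subspaces; `act_mul`, `act_one`, `act_of`, `act_T`, `act_mono`, `finrank_act`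
* `Real.Inv0` : invariant under `X ∩ T`;  `Real.exists_fixed`;  `Real.exists_act` (transitivity in a factorization)
* `comm_of_perfect` : the last condition of `Real` if `E0` is perfect and only scalars commute with `E0`
-/

set_option autoImplicit false

namespace Cfsg.Agent.H449.Reg

open Module Cfsg.Agent.H454.Reg

universe u

section semi

variable (F V : Type*) [Field F] [AddCommGroup V] [Module F V]

/-- the group of semilinear bijections -/
def Semi : Subgroup (Equiv.Perm V) where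
  carrier := {M | ∃ σ : F ≃+* F, (∀ u v, M (u + v) = M u + M v) ∧ ∀ (a : F) (v : V), M (a • v) = σ a • M v}
  mul_mem' := by
    rintro M N ⟨σ, h1, h2⟩ ⟨τ, h3, h4⟩
    refine ⟨τ.trans σ, fun u v => ?_, fun a v => ?_⟩
    · change M (N (u + v)) = M (N u) + M (N v)
      rw [h3, h1]
    · change M (N (a • v)) = σ (τ a) • M (N v)
      rw [h4, h2]
  one_mem' := ⟨RingEquiv.refl F, fun _ _ => rfl, fun _ _ => rfl⟩
  inv_mem' := by
    rintro M ⟨σ, h1, h2⟩
    have e : ∀ v, M (M⁻¹ v) = v := fun v => M.apply_symm_apply v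
    refine ⟨σ.symm, fun u v => ?_, fun a v => ?_⟩
    · apply M.injective
      rw [e, h1, e, e]
    · apply M.injective
      rw [e, h2, e, RingEquiv.apply_symm_apply]

variable {F V}

/-- the image of a subspace under a semilinear bijection -/
def simg (M : Semi F V) (S : Submodule F V) : Submodule F V where
  carrier := M.1 '' S
  add_mem' := by
    obtain ⟨σ, h1, h2⟩ := M.2
    rintro _ _ ⟨a, ha, rfl⟩ ⟨b, hb, rfl⟩
    exact ⟨a + b, S.add_mem ha hb, h1 a b⟩
  zero_mem' := by
    obtain ⟨σ, h1, h2⟩ := M.2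
    refine ⟨0, S.zero_mem, ?_⟩
    have h3 := h2 0 0
    rw [zero_smul] at h3
    rw [h3, map_zero σ, zero_smul]
  smul_mem' := by
    obtain ⟨σ, h1, h2⟩ := M.2
    rintro a _ ⟨b, hb, rfl⟩
    exact ⟨σ.symm a • b, S.smul_mem _ hb, by rw [h2, RingEquiv.apply_symm_apply]⟩

theorem mem_simg {M : Semi F V} {S : Submodule F V} {w : V} : w ∈ simg M S ↔ ∃ v ∈ S, M.1 v = w := Iff.rfl

theorem simg_mul (M N : Semi F V) (S : Submodule F V) : simg (M * N) S = simg M (simg N S) := by
  ext w
  rw [mem_simg, mem_simg]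
  constructor
  · rintro ⟨v, hv, rfl⟩; exact ⟨N.1 v, ⟨v, hv, rfl⟩, rfl⟩
  · rintro ⟨_, ⟨v, hv, rfl⟩, rfl⟩; exact ⟨v, hv, rfl⟩

theorem card_simg (M : Semi F V) (S : Submodule F V) : Nat.card (simg M S) = Nat.card S := by
  refine (Nat.card_congr (Equiv.ofBijective (fun s : S => (⟨M.1 s, s, s.2, rfl⟩ : simg M S)) ⟨?_, ?_⟩)).symm
  · intro a b hab
    have h1 : M.1 a = M.1 b := congrArg Subtype.val hab
    exact Subtype.ext (M.1.injective h1)
  · rintro ⟨_, v, hv, rfl⟩
    exact ⟨⟨v, hv⟩, rfl⟩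

theorem finrank_simg [Finite F] [FiniteDimensional F V] (M : Semi F V) (S : Submodule F V) :
    finrank F (simg M S) = finrank F S := by
  have h1 := card_simg M S
  have h2 := Module.natCard_eq_pow_finrank (K := F) (V := S)
  have h3 := Module.natCard_eq_pow_finrank (K := F) (V := simg M S)
  rw [h2, h3] at h1
  exact Nat.pow_right_injective Finite.one_lt_card h1

theorem simg_of_scalar {M : Semi F V} (h : ∃ a : F, a ≠ 0 ∧ ∀ v, M.1 v = a • v) (S : Submodule F V) : simg M S = S := by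
  obtain ⟨a, ha, h⟩ := h
  ext w
  rw [mem_simg]
  constructor
  · rintro ⟨v, hv, rfl⟩
    rw [h]
    exact S.smul_mem a hv
  · intro hw
    exact ⟨a⁻¹ • w, S.smul_mem _ hw, by rw [h, smul_smul, mul_inv_cancel₀ ha, one_smul]⟩

/-- a linear bijection as a semilinear one -/
def slg (g : V ≃ₗ[F] V) : Semi F V := ⟨g.toEquiv, RingEquiv.refl F, map_add g, fun a v => map_smul g a v⟩

/-- a semilinear bijection commuting up to scalars with a perfect group commutes with it -/
theorem commute_of_perfect {E0 : Subgroup (V ≃ₗ[F] V)} (hp : commutator ↥E0 = ⊤) {M : Semi F V}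
    (h : ∀ x : E0, ∃ c : F, ∀ v, M.1 (x.1 v) = c • x.1 (M.1 v)) (x : E0) (v : V) : M.1 (x.1 v) = x.1 (M.1 v) := by
  classical
  by_cases hV : ∀ w : V, w = 0
  · rw [hV (M.1 _), hV (x.1 _)]
  push Not at hV
  obtain ⟨w₀, hw₀⟩ := hV
  obtain ⟨u₀, hu₀⟩ := M.1.surjective w₀
  have hc0 : ∀ (x : E0) (c : F), (∀ v, M.1 (x.1 v) = c • x.1 (M.1 v)) → c ≠ 0 := by
    rintro x c hc rfl
    have h1 := hc (x.1.symm u₀)
    rw [LinearEquiv.apply_symm_apply, hu₀, zero_smul] at h1
    exact hw₀ h1
  have huniq : ∀ (x : E0) (c d : F), (∀ v, M.1 (x.1 v) = c • x.1 (M.1 v)) → (∀ v, M.1 (x.1 v) = d • x.1 (M.1 v)) → c = d := by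
    intro x c d hc hd
    have h1 := hc u₀
    rw [hd u₀, hu₀] at h1
    have h2 : (d - c) • x.1 w₀ = 0 := by rw [sub_smul, h1, sub_self]
    rcases smul_eq_zero.1 h2 with h3 | h3
    · exact (sub_eq_zero.1 h3).symm
    · exact absurd ((LinearEquiv.map_eq_zero_iff x.1).1 h3) hw₀
  choose c hc using h
  let χ : E0 →* Fˣ :=
    { toFun := fun x => Units.mk0 (c x) (hc0 x _ (hc x))
      map_one' := by
        apply Units.ext
        refine huniq 1 _ _ (hc 1) fun v => ?_
        rw [Units.val_one, one_smul]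
        rfl
      map_mul' := fun x y => by
        apply Units.ext
        refine huniq (x * y) _ _ (hc (x * y)) fun v => ?_
        rw [Units.val_mul, Units.val_mk0, Units.val_mk0]
        change M.1 (x.1 (y.1 v)) = (c x * c y) • x.1 (y.1 (M.1 v))
        rw [hc x, hc y, map_smul, smul_smul] }
  have h1 : commutator ↥E0 ≤ χ.ker := Abelianization.commutator_subset_ker χ
  have h2 : x ∈ χ.ker := h1 (by rw [hp]; exact Subgroup.mem_top x)
  have h3 : c x = 1 := congrArg Units.val (MonoidHom.mem_ker.1 h2)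
  rw [hc x v, h3, one_smul]

end semi

variable {G : Type u} [Group G] {F V : Type*} [Field F] [AddCommGroup V] [Module F V]

/-- `M` normalises `E0` and induces the conjugation by `g` on `T` -/
def Induces {T : Subgroup G} {E0 : Subgroup (V ≃ₗ[F] V)} (π : E0 → T) (M : Semi F V) (g : G) : Prop :=
  (∀ x : E0, ∃ y : E0, ∀ v, y.1 (M.1 v) = M.1 (x.1 v)) ∧
    ∀ x y : E0, (∀ v, y.1 (M.1 v) = M.1 (x.1 v)) → g * (π x : G) * g⁻¹ = π y

/-- a linear realisation of `T`, normal in `G`, such that all of `G` acts semilinearly -/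
structure Real (T : Subgroup G) (E0 : Subgroup (V ≃ₗ[F] V)) where
  /-- the projection -/
  π : E0 →* T
  surj : Function.Surjective π
  ker : ∀ x : E0, π x = 1 → ∃ a : F, ∀ v, x.1 v = a • v
  ind : ∀ g : G, ∃ M : Semi F V, Induces π M g
  comm : ∀ M : Semi F V, (∀ x : E0, ∃ c : F, ∀ v, M.1 (x.1 v) = c • x.1 (M.1 v)) → ∃ a : F, a ≠ 0 ∧ ∀ v, M.1 v = a • v

namespace Real

variable {T : Subgroup G} {E0 : Subgroup (V ≃ₗ[F] V)} (R : Real T E0)

omit R in
theorem semi_inv_apply (M : Semi F V) (v : V) : M.1 (M⁻¹.1 v) = v := M.1.apply_symm_apply v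

/-- two semilinear bijections inducing the same conjugation act in the same way on subspaces -/
theorem simg_eq {M N : Semi F V} {g : G} (hM : Induces R.π M g) (hN : Induces R.π N g) (S : Submodule F V) :
    simg M S = simg N S := by
  have h1 : simg (N⁻¹ * M) S = S := by
    apply simg_of_scalar
    apply R.comm
    intro x
    obtain ⟨y, hy⟩ := hM.1 x
    obtain ⟨z, hz⟩ := hN.1 x
    have h2 := hM.2 x y hy
    have h3 := hN.2 x z hz
    have h4 : R.π (z⁻¹ * y) = 1 := by
      rw [map_mul, map_inv, inv_mul_eq_one]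
      apply Subtype.ext
      rw [← h2, ← h3]
    obtain ⟨a, ha⟩ := R.ker _ h4
    -- `y = a z`
    have h5 : ∀ v, y.1 v = a • z.1 v := by
      intro v
      have h6 : z.1 ((z⁻¹ * y).1 v) = y.1 v := by
        change (z.1 * (z.1⁻¹ * y.1)) v = _
        rw [mul_inv_cancel_left]
      rw [← h6, ha, map_smul]
    obtain ⟨σ, hσ1, hσ2⟩ := (N⁻¹ : Semi F V).2
    refine ⟨σ a, fun v => ?_⟩
    change (N⁻¹ : Semi F V).1 (M.1 (x.1 v)) = σ a • x.1 ((N⁻¹ : Semi F V).1 (M.1 v))
    rw [← hy, h5, hσ2]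
    congr 1
    apply N.1.injective
    rw [semi_inv_apply]
    have h7 := hz ((N⁻¹ : Semi F V).1 (M.1 v))
    rw [semi_inv_apply] at h7
    exact h7
  have h5 : simg N (simg (N⁻¹ * M) S) = simg M S := by rw [← simg_mul, mul_inv_cancel_left]
  rw [← h5, h1]

/-- the action of `G` on the subspaces -/
noncomputable def act (g : G) (S : Submodule F V) : Submodule F V := simg (R.ind g).choose S

theorem act_of {M : Semi F V} {g : G} (hM : Induces R.π M g) (S : Submodule F V) : R.act g S = simg M S :=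
  R.simg_eq (R.ind g).choose_spec hM S

omit R in
theorem induces_mul {π : E0 → T} {M N : Semi F V} {g h : G} (hM : Induces π M g) (hN : Induces π N h) :
    Induces π (M * N) (g * h) := by
  have key : ∀ x y z : E0, (∀ v, y.1 (N.1 v) = N.1 (x.1 v)) → (∀ v, z.1 (M.1 v) = M.1 (y.1 v)) →
      ∀ v, z.1 ((M * N).1 v) = (M * N).1 (x.1 v) := by
    intro x y z h1 h2 v
    change z.1 (M.1 (N.1 v)) = M.1 (N.1 (x.1 v))
    rw [h2, h1]
  refine ⟨fun x => ?_, fun x w hw => ?_⟩
  · obtain ⟨y, hy⟩ := hN.1 x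
    obtain ⟨z, hz⟩ := hM.1 y
    exact ⟨z, key x y z hy hz⟩
  · obtain ⟨y, hy⟩ := hN.1 x
    obtain ⟨z, hz⟩ := hM.1 y
    have h1 : w = z := by
      apply Subtype.ext
      apply LinearEquiv.ext
      intro v
      obtain ⟨v, rfl⟩ := (M * N).1.surjective v
      rw [hw, key x y z hy hz]
    rw [h1, ← hM.2 y z hz, ← hN.2 x y hy]
    group

theorem act_mul (a b : G) (S : Submodule F V) : R.act (a * b) S = R.act a (R.act b S) := by
  rw [R.act_of (induces_mul (R.ind a).choose_spec (R.ind b).choose_spec), simg_mul]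
  rfl

/-- `W` is invariant under `X ∩ T` -/
def Inv0 (X : Subgroup G) (W : Submodule F V) : Prop := ∀ t : T, (t : G) ∈ X → R.act (t : G) W = W

theorem Inv0.act [hT : T.Normal] {X : Subgroup G} {W : Submodule F V} (hW : R.Inv0 X W) {g : G}
    (hg : g ∈ X) : R.Inv0 X (R.act g W) := by
  intro t ht
  have h1 : (g⁻¹ * (t : G) * g) ∈ T := by
    have := hT.conj_mem (t : G) t.2 g⁻¹
    rwa [inv_inv] at this
  have h2 : R.act (g⁻¹ * (t : G) * g) W = W := hW ⟨_, h1⟩ (X.mul_mem (X.mul_mem (X.inv_mem hg) ht) hg)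
  have h3 : (t : G) * g = g * (g⁻¹ * (t : G) * g) := by group
  rw [← act_mul, h3, act_mul, h2]

end Real

end Cfsg.Agent.H449.Reg
end

-- part: H951/Rl/ExtSL
section
set_option linter.all false
open scoped Cfsg.Agent.FastGrp

-- part: H951/Rl/Ext
section
/-!
# Orders of the normalisers of extension fields (S3691, helper951)
-/

set_option autoImplicit false

namespace Cfsg.Agent.H951.Rl

open Cfsg Cfsg.Geo Module
open scoped Matrix MatrixGroups

/-- the number of matrices commuting with a field of matrices -/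
theorem card_comm {ι : Type} [Fintype ι] [DecidableEq ι] {F : Type*} [Field F] [Fintype F] {L : Type*} [Field L]
    [Algebra F L] [FiniteDimensional F L] (φ : L →ₐ[F] Module.End F (ι → F)) :
    Nat.card {M : Matrix ι ι F // ∀ a v, M *ᵥ (φ a v) = φ a (M *ᵥ v)} ≤
      Fintype.card F ^ (Fintype.card ι ^ 2 / finrank F L) := by
  classical
  have hfL : Finite L := Module.finite_of_finite F
  have hfV : Finite (H954.FieldSub.VS φ) := inferInstanceAs (Finite (ι → F))
  have hfE : Finite (H954.FieldSub.VS φ →ₗ[L] H954.FieldSub.VS φ) := Module.finite_of_finite L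
  let g : {M : Matrix ι ι F // ∀ a v, M *ᵥ (φ a v) = φ a (M *ᵥ v)} →
      (H954.FieldSub.VS φ →ₗ[L] H954.FieldSub.VS φ) := fun M =>
    { toFun := fun v => (M.1 *ᵥ v : ι → F)
      map_add' := fun u v => Matrix.mulVec_add M.1 u v
      map_smul' := fun a v => M.2 a v }
  have hg : Function.Injective g := by
    intro M N h
    apply Subtype.ext
    apply Matrix.ext_of_mulVec_single
    intro i
    exact LinearMap.congr_fun h (Pi.single i 1 : ι → F)
  refine (Nat.card_le_card_of_injective g hg).trans (le_of_eq ?_)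
  have h1 := H954.FieldSub.finrank_VS φ
  rw [Module.finrank_fintype_fun_eq_card] at h1
  rw [Module.natCard_eq_pow_finrank (K := L), Module.finrank_linearMap, Module.natCard_eq_pow_finrank (K := F),
    ← pow_mul, Nat.card_eq_fintype_card, ← h1]
  congr 1
  set s := finrank F L with hs
  have hs0 : 0 < s := Module.finrank_pos
  set k := finrank L (H954.FieldSub.VS φ)
  rw [show (s * k) ^ 2 = s * (s * (k * k)) by ring, Nat.mul_div_cancel_left _ hs0]

/-- the order of the normaliser of a field of matrices of degree `s` -/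
theorem card_ext_le' {ι : Type} [Fintype ι] [DecidableEq ι] [Nonempty ι] {F : Type} [Field F] [Fintype F] {s : ℕ}
    {K : Subalgebra F (Matrix ι ι F)} (hK : IsFieldSubalgebra s K) :
    Nat.card (subalgebraNormalizer K) ≤ s * Fintype.card F ^ (Fintype.card ι ^ 2 / s) := by
  classical
  have hfin : Finite (GL ι F) := inferInstance
  have hN : H912.NormAlg (subalgebraNormalizer K) K := fun _ hh a ha => (hh a).mp ha
  let _ : Field K := (H912.isField_of_fieldSub hK).toField
  have hfd : Module.Finite F K := inferInstance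
  have hKfin : Finite K := Module.finite_of_finite F
  have hgal : IsGalois F K := inferInstance
  let φ : subalgebraNormalizer K →* (K ≃ₐ[F] K) :=
    { toFun := fun h => H912.conjSub hN h
      map_one' := by
        apply AlgEquiv.ext
        intro x
        apply Subtype.ext
        rw [H912.conjSub_coe]
        simp
      map_mul' := fun a b => by
        apply AlgEquiv.ext
        intro x
        apply Subtype.ext
        rw [AlgEquiv.mul_apply, H912.conjSub_coe, H912.conjSub_coe, H912.conjSub_coe, Subgroup.coe_mul,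
          _root_.mul_inv_rev, Units.val_mul, Units.val_mul]
        simp only [Matrix.mul_assoc] }
  have hs0 : 0 < s := H912.finrank_pos_fieldSub hK
  let ψ : K →ₐ[F] Module.End F (ι → F) := (Matrix.toLinAlgEquiv' (R := F) (n := ι)).toAlgHom.comp K.val
  have hψ : ∀ (a : K) (v : ι → F), ψ a v = (a : Matrix ι ι F) *ᵥ v := fun a v => rfl
  have hker : Nat.card φ.ker ≤ Fintype.card F ^ (Fintype.card ι ^ 2 / s) := by
    have hmem : ∀ g : φ.ker, ∀ (a : K) (v : ι → F),
        (((g : subalgebraNormalizer K) : GL ι F) : Matrix ι ι F) *ᵥ (ψ a v) =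
          ψ a ((((g : subalgebraNormalizer K) : GL ι F) : Matrix ι ι F) *ᵥ v) := by
      intro g a v
      have h1 : (H912.conjSub hN (g : subalgebraNormalizer K)) = 1 := g.2
      have h2 := H912.conjSub_coe hN (g : subalgebraNormalizer K) a
      rw [h1] at h2
      change (a : Matrix ι ι F) = _ at h2
      rw [hψ, hψ, Matrix.mulVec_mulVec, Matrix.mulVec_mulVec]
      congr 1
      conv_rhs => rw [h2]
      rw [Matrix.mul_assoc, ← Units.val_mul, inv_mul_cancel, Units.val_one, Matrix.mul_one]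
    have h1 := card_comm ψ
    have h2 : finrank F K = s := hK.finrank_eq
    rw [h2] at h1
    refine le_trans (Nat.card_le_card_of_injective (fun g : φ.ker =>
      (⟨_, hmem g⟩ : {M : Matrix ι ι F // ∀ a v, M *ᵥ (ψ a v) = ψ a (M *ᵥ v)})) ?_) h1
    intro a b hab
    apply Subtype.ext
    apply Subtype.ext
    apply Units.ext
    exact congrArg Subtype.val hab
  have hran : Nat.card φ.range ≤ s := by
    have h1 : Nat.card (K ≃ₐ[F] K) = s := by
      rw [IsGalois.card_aut_eq_finrank, hK.finrank_eq]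
    have hf2 : Finite (K ≃ₐ[F] K) := Nat.finite_of_card_ne_zero (by rw [h1]; omega)
    calc Nat.card φ.range ≤ Nat.card (K ≃ₐ[F] K) := Nat.card_le_card_of_injective _ φ.range.subtype_injective
      _ = s := h1
  have h1 := Subgroup.card_eq_card_quotient_mul_card_subgroup φ.ker
  have h2 : Nat.card (subalgebraNormalizer K ⧸ φ.ker) = Nat.card φ.range :=
    Nat.card_congr (QuotientGroup.quotientKerEquivRange φ).toEquiv
  rw [h1, h2]
  exact Nat.mul_le_mul hran hker

/-- PSL-4, extension fields -/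
theorem card_ext_le {ι : Type} [Fintype ι] [DecidableEq ι] [Nonempty ι] {F : Type} [Field F] [Fintype F] {s : ℕ}
    (_hs : s.Prime) {K : Subalgebra F (Matrix ι ι F)} (hK : IsFieldSubalgebra s K) :
    Nat.card (subalgebraNormalizer K) ≤ s * Fintype.card F ^ (Fintype.card ι ^ 2 / s) :=
  card_ext_le' hK

end Cfsg.Agent.H951.Rl
end

-- part: H951/Rl/ExtSL
section
/-!
# Orders of the normalisers of extension fields in `SL` (S3691, helper951)
-/

set_option autoImplicit false

namespace Cfsg.Agent.H951.Rl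

open Cfsg Cfsg.Geo Module
open scoped Matrix MatrixGroups

/-- the determinant is surjective on the centraliser of a field of matrices -/
theorem exists_det {ι : Type} [Fintype ι] [DecidableEq ι] [Nonempty ι] {F : Type} [Field F] [Fintype F] {s : ℕ}
    {K : Subalgebra F (Matrix ι ι F)} (hK : IsFieldSubalgebra s K) (u : Fˣ) :
    ∃ g ∈ subalgebraNormalizer K, Matrix.GeneralLinearGroup.det g = u := by
  classical
  let _ : Field K := (H912.isField_of_fieldSub hK).toField
  have hfd : Module.Finite F K := inferInstance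
  have hKfin : Finite K := Module.finite_of_finite F
  let ψ : K →ₐ[F] Module.End F (ι → F) := (Matrix.toLinAlgEquiv' (R := F) (n := ι)).toAlgHom.comp K.val
  have hψ : ∀ (a : K) (v : ι → F), ψ a v = (a : Matrix ι ι F) *ᵥ v := fun a v => rfl
  obtain ⟨c, hc, hcd⟩ := H954.FieldSub.exists_det_eq ψ u.ne_zero
  let M : Matrix ι ι F := LinearMap.toMatrix' (c : (ι → F) →ₗ[F] (ι → F))
  have hM : ∀ v, M *ᵥ v = c v := fun v => by
    rw [← Matrix.toLin'_apply, Matrix.toLin'_toMatrix']
    rfl
  have hdet : M.det = u := by rw [LinearMap.det_toMatrix', hcd]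
  let g : GL ι F := Matrix.GeneralLinearGroup.mk'' M (by rw [hdet]; exact u.isUnit)
  have hg : (g : Matrix ι ι F) = M := rfl
  refine ⟨g, H954.FieldSub.mem_normalizer_of fun k hk => ?_, Units.ext ?_⟩
  · have h1 : (g : Matrix ι ι F) * k = k * (g : Matrix ι ι F) := by
      apply Matrix.ext_of_mulVec_single
      intro i
      rw [← Matrix.mulVec_mulVec, ← Matrix.mulVec_mulVec, hg, hM, hM]
      exact hc ⟨k, hk⟩ _
    rw [h1, mul_assoc, ← Units.val_mul, mul_inv_cancel, Units.val_one, mul_one]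
    exact hk
  · rw [Matrix.GeneralLinearGroup.val_det_apply, hg, hdet]

theorem card_inf_sl {ι : Type} [Fintype ι] [DecidableEq ι] [Nonempty ι] {F : Type} [Field F] [Fintype F] {s : ℕ}
    {K : Subalgebra F (Matrix ι ι F)} (hK : IsFieldSubalgebra s K) :
    Nat.card (subalgebraNormalizer K ⊓ specialLinear ι F : Subgroup (GL ι F)) * (Fintype.card F - 1) =
      Nat.card (subalgebraNormalizer K) := by
  classical
  set N := subalgebraNormalizer K with hN
  let d : N →* Fˣ := (Matrix.GeneralLinearGroup.det : GL ι F →* Fˣ).comp N.subtype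
  have hd : Function.Surjective d := by
    intro u
    obtain ⟨g, hg, hgd⟩ := exists_det hK u
    exact ⟨⟨g, hg⟩, hgd⟩
  have h1 := Subgroup.card_eq_card_quotient_mul_card_subgroup d.ker
  have h2 : Nat.card (N ⧸ d.ker) = Nat.card Fˣ :=
    Nat.card_congr (QuotientGroup.quotientKerEquivOfSurjective d hd).toEquiv
  have h3 : Nat.card d.ker = Nat.card (N ⊓ specialLinear ι F : Subgroup (GL ι F)) := by
    refine Nat.card_congr
      { toFun := fun x => ⟨x.1.1, x.1.2, x.2⟩
        invFun := fun x => ⟨⟨x.1, x.2.1⟩, x.2.2⟩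
        left_inv := fun x => rfl
        right_inv := fun x => rfl }
  rw [h1, h2, h3, Nat.card_units, Nat.card_eq_fintype_card (α := F), mul_comm]

/-- PSL-4' -/
theorem card_ext_sl_le {ι : Type} [Fintype ι] [DecidableEq ι] [Nonempty ι] {F : Type} [Field F] [Fintype F] {s : ℕ}
    {K : Subalgebra F (Matrix ι ι F)} (hK : IsFieldSubalgebra s K) :
    Nat.card (subalgebraNormalizer K ⊓ specialLinear ι F : Subgroup (GL ι F)) * (Fintype.card F - 1) ≤
      s * Fintype.card F ^ (Fintype.card ι ^ 2 / s) := by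
  rw [card_inf_sl hK]
  exact card_ext_le' hK

end Cfsg.Agent.H951.Rl
end
end

-- part: H788/Rl/Core
section
set_option linter.all false
open scoped Cfsg.Agent.FastGrp

/-!
# Orders of the residual subgroups of `SL_n(q)` (helper788, for S3691)
-/

set_option autoImplicit false

namespace Cfsg.Agent.H788.Rl

open Cfsg Cfsg.Geo Matrix
open scoped MatrixGroups

variable {ι : Type} [Fintype ι] [DecidableEq ι] {F : Type*} [Field F] {H P : Subgroup (GL ι F)}

theorem mem_scalars {g : GL ι F} : g ∈ scalars ι F ↔ ∃ c : Fˣ, (g : Matrix ι ι F) = Matrix.scalar ι (c : F) := by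
  constructor
  · rintro ⟨c, rfl⟩
    exact ⟨c, rfl⟩
  · rintro ⟨c, hc⟩
    exact ⟨c, Units.ext hc.symm⟩

theorem mem_sl {g : GL ι F} (hg : g ∈ specialLinear ι F) : (g : Matrix ι ι F).det = 1 := by
  have h : Matrix.GeneralLinearGroup.det g = 1 := hg
  have := congrArg (Units.val) h
  simpa using this

/-- the scalars of `SL` -/
theorem exists_rou [Nonempty ι] {X : Type*} [Group X] (hHS : H ≤ specialLinear ι F) (φ : H →* X)
    (hφ : ∀ h : H, φ h = 1 → (h : GL ι F) ∈ scalars ι F) :
    ∃ ψ : φ.ker →* rootsOfUnity (Fintype.card ι) F, Function.Injective ψ := by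
  classical
  have h1 : ∀ x : φ.ker, ∃ c : Fˣ, (((x : H) : GL ι F) : Matrix ι ι F) = Matrix.scalar ι (c : F) :=
    fun x => mem_scalars.1 (hφ _ x.2)
  choose c hc using h1
  obtain ⟨i⟩ := (inferInstance : Nonempty ι)
  have hci : ∀ x : φ.ker, (((x : H) : GL ι F) : Matrix ι ι F) i i = (c x : F) := by
    intro x
    rw [hc]
    simp
  have hmem : ∀ x, c x ∈ rootsOfUnity (Fintype.card ι) F := by
    intro x
    rw [mem_rootsOfUnity]
    apply Units.ext
    have h2 := mem_sl (hHS (x : H).2)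
    rw [hc x] at h2
    have h3 : (Matrix.scalar ι (c x : F)).det = (c x : F) ^ Fintype.card ι := by
      rw [Matrix.scalar_apply, Matrix.det_diagonal]
      simp
    rw [h3] at h2
    simpa using h2
  refine ⟨{ toFun := fun x => ⟨c x, hmem x⟩, map_one' := ?_, map_mul' := ?_ }, ?_⟩
  · apply Subtype.ext
    apply Units.ext
    show (c 1 : F) = 1
    rw [← hci]
    simp
  · intro x y
    apply Subtype.ext
    apply Units.ext
    show (c (x * y) : F) = c x * c y
    rw [← hci (x * y)]
    show ((((x : H) : GL ι F) * ((y : H) : GL ι F) : GL ι F) : Matrix ι ι F) i i = _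
    rw [Units.val_mul, hc x, hc y, ← map_mul]
    simp
  · intro x y hxy
    have h2 : c x = c y := congrArg Subtype.val hxy
    apply Subtype.ext
    apply Subtype.ext
    apply Units.ext
    rw [hc x, hc y, h2]

theorem card_ker_le [Nonempty ι] {X : Type*} [Group X] (hHS : H ≤ specialLinear ι F) (φ : H →* X)
    (hφ : ∀ h : H, φ h = 1 → (h : GL ι F) ∈ scalars ι F) : Nat.card φ.ker ≤ Fintype.card ι := by
  obtain ⟨ψ, hψ⟩ := exists_rou hHS φ hφ
  exact (Nat.card_le_card_of_injective ψ hψ).trans (card_rootsOfUnity (R := F) (Fintype.card ι))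

theorem card_ker_dvd [Nonempty ι] [Fintype F] {X : Type*} [Group X] (hHS : H ≤ specialLinear ι F) (φ : H →* X)
    (hφ : ∀ h : H, φ h = 1 → (h : GL ι F) ∈ scalars ι F) : Nat.card φ.ker ∣ Fintype.card F - 1 := by
  obtain ⟨ψ, hψ⟩ := exists_rou hHS φ hφ
  have h1 := Subgroup.card_dvd_of_injective ψ hψ
  have h2 : Nat.card (rootsOfUnity (Fintype.card ι) F) ∣ Nat.card Fˣ := Subgroup.card_subgroup_dvd_card _
  rw [Nat.card_units, Nat.card_eq_fintype_card (α := F)] at h2
  exact h1.trans h2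

theorem card_eq {X : Type*} [Group X] (φ : H →* X) : Nat.card H = Nat.card φ.ker * Nat.card φ.range := by
  rw [Subgroup.card_eq_card_quotient_mul_card_subgroup φ.ker, mul_comm]
  congr 1
  exact Nat.card_congr (QuotientGroup.quotientKerEquivRange φ).toEquiv

/-- the order of a residual subgroup -/
theorem card_le [Nonempty ι] [Finite F] (hP : IsResidualCore H P) (hHS : H ≤ specialLinear ι F) :
    Nat.card H ≤ Fintype.card ι * Nat.card (MulAut (P ⧸ (scalars ι F).subgroupOf P)) := by
  classical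
  obtain ⟨φ, hφ⟩ := Cfsg.Agent.H269.U5.exists_act hP
  rw [card_eq φ]
  exact Nat.mul_le_mul (card_ker_le hHS φ hφ) (Nat.card_le_card_of_injective _ (Subgroup.subtype_injective _))

/-- the primes of the order of a residual subgroup -/
theorem prime_dvd [Nonempty ι] [Fintype F] (hP : IsResidualCore H P) (hHS : H ≤ specialLinear ι F) {u : ℕ} (hu : u.Prime)
    (h : u ∣ Nat.card H) :
    u ∣ Fintype.card F - 1 ∨ u ∣ Nat.card (MulAut (P ⧸ (scalars ι F).subgroupOf P)) := by
  classical
  obtain ⟨φ, hφ⟩ := Cfsg.Agent.H269.U5.exists_act hP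
  rw [card_eq φ] at h
  rcases (hu.dvd_mul).1 h with h1 | h1
  · exact Or.inl (h1.trans (card_ker_dvd hHS φ hφ))
  · exact Or.inr (h1.trans (Subgroup.card_subgroup_dvd_card _))

theorem card_le_of_equiv [Nonempty ι] [Finite F] (hP : IsResidualCore H P) (hHS : H ≤ specialLinear ι F) {S : Type*}
    [Group S] (e : (P ⧸ (scalars ι F).subgroupOf P) ≃* S) {b : ℕ} (hb : Nat.card (MulAut S) ≤ b) :
    Nat.card H ≤ Fintype.card ι * b := by
  refine (card_le hP hHS).trans (Nat.mul_le_mul_left _ ?_)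
  rwa [Nat.card_congr (MulAut.congr e).toEquiv]

theorem prime_dvd_of_equiv [Nonempty ι] [Fintype F] (hP : IsResidualCore H P) (hHS : H ≤ specialLinear ι F) {u : ℕ}
    (hu : u.Prime) (h : u ∣ Nat.card H) {S : Type*} [Group S] (e : (P ⧸ (scalars ι F).subgroupOf P) ≃* S) :
    u ∣ Fintype.card F - 1 ∨ u ∣ Nat.card (MulAut S) := by
  have h1 := prime_dvd hP hHS hu h
  rwa [Nat.card_congr (MulAut.congr e).toEquiv] at h1

end Cfsg.Agent.H788.Rl
end

-- part: H96/Rg/SixField
section
prune_inst 0x4b43065047da2020000000586212000607c0004b000430400e5e003400b09ec638dc22e0133b002171bc2b0a1500c406001180089424800002e0034004007012080825600b348010c26001f808800000000000000000000000000000000010000000000000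
set_option linter.all false
open scoped Cfsg.Agent.FastGrp

/-!
# S3691-M3: the `p`-part of the normaliser of a field of matrices (helper96)

* `card_comm_dvd` : a group of matrices commuting with a field `K` of degree `s` has order dividing `|GL_n(q ^ s)|`
* `factorization_le` : `n = 2`: the `p`-part of a subgroup of the normaliser of `K` is at most `q ^ s` (`s ≠ p`)
-/

set_option autoImplicit false

namespace Cfsg.Agent.H96.Rg

open Cfsg Cfsg.Geo Module
open scoped MatrixGroups Matrix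

universe u

theorem card_dvd_of_end {K : Type u} [Field K] [Finite K] {V : Type*} [AddCommGroup V] [Module K V] {n : ℕ}
    (b : Basis (Fin n) K V) {G : Type*} [Group G] (f : G →* Module.End K V) (hf : Function.Injective f) :
    Nat.card G ∣ ∏ i : Fin n, (Nat.card K ^ n - Nat.card K ^ (i : ℕ)) := by
  classical
  let _ : Fintype K := Fintype.ofFinite K
  let m : G →* Matrix (Fin n) (Fin n) K := (LinearMap.toMatrixAlgEquiv b).toMulEquiv.toMonoidHom.comp f
  have hm : Function.Injective m := fun g h hgh => hf ((LinearMap.toMatrixAlgEquiv b).injective hgh)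
  have hu : Function.Injective m.toHomUnits := by
    intro g h hgh
    apply hm
    exact congrArg (fun u : (Matrix (Fin n) (Fin n) K)ˣ => (u : Matrix (Fin n) (Fin n) K)) hgh
  have h2 := Subgroup.card_dvd_of_injective m.toHomUnits hu
  have h3 : Nat.card ((Matrix (Fin n) (Fin n) K)ˣ) = ∏ i : Fin n, (Fintype.card K ^ n - Fintype.card K ^ (i : ℕ)) :=
    Matrix.card_GL_field n
  rw [h3, ← Nat.card_eq_fintype_card] at h2
  exact h2

variable {ι : Type} [Fintype ι] [DecidableEq ι] {F : Type u} [Field F] [Finite F]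

theorem card_comm_dvd [Nonempty ι] {s n : ℕ} {K : Subalgebra F (Matrix ι ι F)} (hK : IsFieldSubalgebra s K)
    (hn : s * n = Fintype.card ι) (hs : 1 ≤ s)
    {P : Subgroup (GL ι F)} (hP : ∀ g ∈ P, ∀ x ∈ K, (g : Matrix ι ι F) * x = x * (g : Matrix ι ι F)) :
    Nat.card P ∣ ∏ i : Fin n, ((Nat.card F ^ s) ^ n - (Nat.card F ^ s) ^ (i : ℕ)) := by
  classical
  have hcK : Nat.card K = Nat.card F ^ s := by
    have h2 := Module.natCard_eq_pow_finrank (K := F) (V := K)
    rwa [hK.finrank_eq] at h2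
  let _ : Field K := (H906.Cov.isField_of hK).toField
  have hfinK : Finite K := Module.finite_of_finite F
  have hfr99 : Module.Free K (ι → F) := Module.Free.of_divisionRing _ _
  have hst99 : IsScalarTower F K (ι → F) := by first | exact Subalgebra.isScalarTower_mid _ | infer_instance
  have h1 := Module.finrank_mul_finrank F K (ι → F)
  rw [hK.finrank_eq, Module.finrank_fintype_fun_eq_card, ← hn] at h1
  have hrank : finrank K (ι → F) = n := Nat.eq_of_mul_eq_mul_left (by omega) h1
  have hVfin : Module.Finite K (ι → F) := Module.Finite.of_restrictScalars_finite F K (ι → F)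
  let b : Basis (Fin n) K (ι → F) := Module.finBasisOfFinrankEq K (ι → F) hrank
  let f : P →* Module.End K (ι → F) :=
    { toFun := fun g =>
        { toFun := fun v => ((g : GL ι F) : Matrix ι ι F) *ᵥ v
          map_add' := fun u v => Matrix.mulVec_add _ _ _
          map_smul' := fun x v => by
            change ((g : GL ι F) : Matrix ι ι F) *ᵥ ((x : Matrix ι ι F) *ᵥ v) =
              (x : Matrix ι ι F) *ᵥ (((g : GL ι F) : Matrix ι ι F) *ᵥ v)
            rw [Matrix.mulVec_mulVec, Matrix.mulVec_mulVec, hP g g.2 x x.2] }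
      map_one' := by
        apply LinearMap.ext
        intro v
        exact Matrix.one_mulVec v
      map_mul' := fun g h => by
        apply LinearMap.ext
        intro v
        change (((g : GL ι F) * (h : GL ι F) : GL ι F) : Matrix ι ι F) *ᵥ v =
          ((g : GL ι F) : Matrix ι ι F) *ᵥ (((h : GL ι F) : Matrix ι ι F) *ᵥ v)
        rw [Units.val_mul, Matrix.mulVec_mulVec] }
  have hf : Function.Injective f := by
    intro g h h2
    apply Subtype.ext
    apply Units.ext
    apply Matrix.toLin'.injective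
    apply LinearMap.ext
    intro v
    rw [Matrix.toLin'_apply, Matrix.toLin'_apply]
    exact LinearMap.congr_fun h2 v
  have h2 := card_dvd_of_end b f hf
  rwa [hcK] at h2

/-- the `p`-part of a group normalising a field of degree `s ≠ p`, dimension `2 s` -/
theorem factorization_le [Nonempty ι] {p f s : ℕ} (hp : p.Prime) (hf : 1 ≤ f) (hF : Nat.card F = p ^ f) (hs : s.Prime)
    (hsp : s ≠ p) {K : Subalgebra F (Matrix ι ι F)} (hK : IsFieldSubalgebra s K) (hn : s * 2 = Fintype.card ι)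
    {M : Subgroup (GL ι F)} (hM : M ≤ subalgebraNormalizer K) : (Nat.card M).factorization p ≤ f * s := by
  classical
  have hfin : Finite (GL ι F) := inferInstance
  have := Fact.mk hp
  obtain ⟨S⟩ : Nonempty (Sylow p M) := inferInstance
  have hcS : Nat.card S = p ^ (Nat.card M).factorization p := S.card_eq_multiplicity
  set P : Subgroup (GL ι F) := (S : Subgroup M).map M.subtype with hPdef
  have hcP : Nat.card P = p ^ (Nat.card M).factorization p := by
    rw [hPdef, Subgroup.card_map_of_injective M.subtype_injective]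
    exact hcS
  have hPM : P ≤ M := by
    rintro _ ⟨x, -, rfl⟩
    exact x.2
  have hcomm : ∀ g ∈ P, ∀ x ∈ K, (g : Matrix ι ι F) * x = x * (g : Matrix ι ι F) := by
    intro g hg x hx
    apply H906.Cov.commute_of_coprime hK (hM (hPM hg)) _ x hx
    have h1 : orderOf g ∣ p ^ (Nat.card M).factorization p := by
      rw [← hcP, ← Subgroup.orderOf_mk _ hg]
      exact orderOf_dvd_natCard _
    exact Nat.Coprime.coprime_dvd_left h1 (Nat.Coprime.pow_left _ ((Nat.coprime_primes hp hs).2 (Ne.symm hsp)))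
  have h1 := card_comm_dvd hK hn hs.one_le hcomm
  set Q := p ^ (f * s) with hQ
  have hQ' : (p ^ f) ^ s = Q := by rw [← pow_mul]
  rw [hcP, Fin.prod_univ_two, hF, hQ'] at h1
  have hQ1 : 1 ≤ Q := Nat.one_le_pow _ _ hp.pos
  have hpQ : p ∣ Q := dvd_pow_self p (Nat.mul_ne_zero (by omega) hs.ne_zero)
  have h2 : (Q ^ 2 - Q ^ ((0 : Fin 2) : ℕ)) * (Q ^ 2 - Q ^ ((1 : Fin 2) : ℕ)) = Q * ((Q ^ 2 - 1) * (Q - 1)) := by
    have e1 : ((0 : Fin 2) : ℕ) = 0 := rfl
    have e2 : ((1 : Fin 2) : ℕ) = 1 := rfl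
    rw [e1, e2, pow_zero, pow_one]
    have e3 : Q ^ 2 - Q = Q * (Q - 1) := by rw [Nat.mul_sub, mul_one, sq]
    rw [e3]; ring
  rw [h2] at h1
  have hnd : ∀ k : ℕ, 1 ≤ k → ¬ p ∣ Q ^ k - 1 := by
    intro k hk h
    have h3 : p ∣ Q ^ k := dvd_pow hpQ (by omega)
    have h4 : Q ^ k - (Q ^ k - 1) = 1 := by
      have : 1 ≤ Q ^ k := Nat.one_le_pow _ _ hQ1
      omega
    have h5 : p ∣ 1 := by
      rw [← h4]
      exact Nat.dvd_sub h3 h
    exact hp.one_lt.ne' (Nat.dvd_one.1 h5)
  have hco : Nat.Coprime (p ^ (Nat.card M).factorization p) ((Q ^ 2 - 1) * (Q - 1)) := by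
    apply Nat.Coprime.pow_left
    rw [hp.coprime_iff_not_dvd, hp.dvd_mul]
    rintro (h | h)
    · exact hnd 2 (by norm_num) h
    · exact hnd 1 le_rfl (by rwa [pow_one])
  have h3 := hco.dvd_of_dvd_mul_right h1
  exact (Nat.pow_dvd_pow_iff_le_right hp.one_lt).1 h3

end Cfsg.Agent.H96.Rg
end

-- part: H851/Rl/List
section
prune_inst 0x10000000000000
set_option linter.all false
open scoped Cfsg.Agent.FastGrp

/-!
# S3691: the list lemmas (helper851)

* `Big p f k r a` : `r` is a prime with `ord_r(p) = f k`, `r ^ a ∣ q ^ k - 1`, `2 k + 1 < r ^ a`, `q = p ^ f`;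
* `GPPS` : the statement S5948;
* `irr` : irreducible subgroups of `GL_n(q)` (any index type), `n ≥ 10`, of order divisible by `r ^ a`, `n < 2 k`.
-/

set_option autoImplicit false
set_option linter.unusedSectionVars false

namespace Cfsg.Agent.H851.Rl

open Cfsg Cfsg.Geo Module Matrix
open Cfsg.Agent.LieClassical.OmegaReindex (glReindex coe_glReindex glReindex_mulVec)
open scoped MatrixGroups

/-- a `p`-primitive prime power, larger than `2 k + 1` -/
structure Big (p f k r a : ℕ) : Prop where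
  hp : p.Prime
  prime : r.Prime
  ord : orderOf ((p : ℕ) : ZMod r) = f * k
  hf : 1 ≤ f
  hk : 1 ≤ k
  dvd : r ^ a ∣ (p ^ f) ^ k - 1
  big : 2 * k + 1 < r ^ a

/-- **S5948** for fields in the lowest universe. -/
def GPPS : Prop :=
  ∀ (F : Type) [Field F] [Fintype F] {q : ℕ} (_ : Fintype.card F = q) (n k : ℕ) (_ : 10 ≤ n) (_ : n < 2 * k)
    (g : GL (Fin n) F) (_ : 2 * k + 1 < orderOf g) (_ : orderOf g ∣ q ^ k - 1)
    (_ : ∀ i : ℕ, 1 ≤ i → i < k → Nat.Coprime (orderOf g) (q ^ i - 1))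
    (H : Subgroup (GL (Fin n) F)) (_ : g ∈ H) (_ : ActsIrreducibly (matrixSet H)),
    (∃ (F₀ : Subfield F) (r : ℕ) (P : GL (Fin n) F), r.Prime ∧ Fintype.card F = Nat.card F₀ ^ r ∧
      H ≤ subfieldSubgroup F₀ P) ∨
    (∃ (r : ℕ) (E : Subalgebra F (Matrix (Fin n) (Fin n) F)), r.Prime ∧ r ∣ Nat.gcd n k ∧ IsFieldSubalgebra r E ∧
        H ≤ subalgebraNormalizer E) ∨
    specialLinear (Fin n) F ≤ H ∨
    (∃ f : (Fin n → F) → (Fin n → F) → F, IsSymplecticForm f ∧
        ∀ x : GL (Fin n) F, FixesForm {(x : Matrix (Fin n) (Fin n) F)} f → x ∈ H) ∨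
    (∃ (τ : F ≃+* F) (f : (Fin n → F) → (Fin n → F) → F), IsUnitaryForm τ f ∧
        ∀ x : GL (Fin n) F, FixesForm {(x : Matrix (Fin n) (Fin n) F)} f →
          Matrix.GeneralLinearGroup.det x = 1 → x ∈ H) ∨
    (∃ Q : (Fin n → F) → F, IsNondegenerateQuadraticForm Q ∧ omegaGL Q ≤ H)

section

variable {ι : Type} [Fintype ι] [DecidableEq ι] {F : Type} [Field F]

/-- the classical groups on their natural module -/
def Nat' (R : Subgroup (GL ι F)) : Prop :=
  specialLinear ι F ≤ R ∨
  (∃ f : (ι → F) → (ι → F) → F, IsSymplecticForm f ∧ ∀ x : GL ι F, FixesForm {(x : Matrix ι ι F)} f → x ∈ R) ∨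
  (∃ (τ : F ≃+* F) (f : (ι → F) → (ι → F) → F), IsUnitaryForm τ f ∧
    ∀ x : GL ι F, FixesForm {(x : Matrix ι ι F)} f → Matrix.GeneralLinearGroup.det x = 1 → x ∈ R) ∨
  (∃ Q : (ι → F) → F, IsNondegenerateQuadraticForm Q ∧ omegaGL Q ≤ R)

/-- an extension field group -/
def Ext (s : ℕ) (R : Subgroup (GL ι F)) : Prop :=
  ∃ E : Subalgebra F (Matrix ι ι F), IsFieldSubalgebra s E ∧ R ≤ subalgebraNormalizer E

/-! ### transport -/

section transport

variable {κ : Type} [Fintype κ] [DecidableEq κ] (e : ι ≃ κ)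

/-- the same group in other coordinates -/
def re (R : Subgroup (GL ι F)) : Subgroup (GL κ F) := R.map (glReindex F e).toMonoidHom

variable {R : Subgroup (GL ι F)}

theorem mem_re {g : GL ι F} : glReindex F e g ∈ re e R ↔ g ∈ R := by
  constructor
  · rintro ⟨h, hh, h1⟩
    exact (glReindex F e).injective h1 ▸ hh
  · intro h
    exact ⟨g, h, rfl⟩

theorem glReindex_comp (g : GL ι F) (v : ι → F) :
    ((glReindex F e g : GL κ F) : Matrix κ κ F) *ᵥ (v ∘ e.symm) = ((g : Matrix ι ι F) *ᵥ v) ∘ e.symm := by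
  rw [glReindex_mulVec, Function.comp_assoc, Equiv.symm_comp_self, Function.comp_id]

theorem det_glReindex (g : GL ι F) :
    Matrix.GeneralLinearGroup.det (glReindex F e g) = Matrix.GeneralLinearGroup.det g := by
  apply Units.ext
  change Matrix.det ((glReindex F e g : GL κ F) : Matrix κ κ F) = Matrix.det (g : Matrix ι ι F)
  rw [coe_glReindex, Matrix.det_submatrix_equiv_self]

/-- the map on vectors -/
def vec : (ι → F) ≃ₗ[F] (κ → F) := (LinearEquiv.funCongrLeft F F e.symm)

theorem vec_apply (v : ι → F) : vec e v = v ∘ e.symm := rfl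

theorem irr_re (h : ActsIrreducibly (matrixSet R)) : ActsIrreducibly (matrixSet (re e R)) := by
  intro W hW
  have h1 := h (W.comap (vec (F := F) e).toLinearMap) ?_
  · rcases h1 with h1 | h1
    · left
      rw [eq_bot_iff]
      intro w hw
      have h2 : (vec e).symm w ∈ W.comap (vec (F := F) e).toLinearMap := by
        change vec e ((vec e).symm w) ∈ W
        rwa [LinearEquiv.apply_symm_apply]
      rw [h1, Submodule.mem_bot] at h2
      rw [Submodule.mem_bot]
      exact (LinearEquiv.map_eq_zero_iff _).1 h2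
    · right
      rw [eq_top_iff]
      intro w _
      have h2 : (vec e).symm w ∈ W.comap (vec (F := F) e).toLinearMap := by
        rw [h1]; trivial
      have h3 : vec e ((vec e).symm w) ∈ W := h2
      rwa [LinearEquiv.apply_symm_apply] at h3
  · rintro _ ⟨g, hg, rfl⟩
    rintro _ ⟨v, hv, rfl⟩
    change vec e (Matrix.toLin' (g : Matrix ι ι F) v) ∈ W
    rw [vec_apply, Matrix.toLin'_apply, ← glReindex_comp]
    exact hW _ ⟨glReindex F e g, ⟨g, hg, rfl⟩, rfl⟩ ⟨vec e v, hv, by rw [Matrix.toLin'_apply]; rfl⟩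

theorem form_back {f : (κ → F) → (κ → F) → F} {x : GL ι F}
    (h : FixesForm {(x : Matrix ι ι F)} (fun v w => f (v ∘ e.symm) (w ∘ e.symm))) :
    FixesForm {((glReindex F e x : GL κ F) : Matrix κ κ F)} f := by
  rintro _ rfl u v
  have h1 := h _ rfl (u ∘ e) (v ∘ e)
  simp only at h1
  rw [← glReindex_comp, ← glReindex_comp, Function.comp_assoc, Function.comp_assoc, Equiv.self_comp_symm,
    Function.comp_id, Function.comp_id] at h1
  exact h1

theorem comp_symm_ne {v : ι → F} (h : v ≠ 0) : v ∘ e.symm ≠ 0 := by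
  intro h0
  apply h
  exact (LinearEquiv.map_eq_zero_iff (vec (F := F) e)).1 h0

theorem nondeg_back {f : (κ → F) → (κ → F) → F} (h : IsNondegenerateForm f) :
    IsNondegenerateForm (fun v w : ι → F => f (v ∘ e.symm) (w ∘ e.symm)) := by
  intro v hv
  obtain ⟨⟨x, hx⟩, ⟨y, hy⟩⟩ := h _ (comp_symm_ne e hv)
  refine ⟨⟨x ∘ e, ?_⟩, ⟨y ∘ e, ?_⟩⟩
  · change f ((x ∘ e) ∘ e.symm) (v ∘ e.symm) ≠ 0
    rwa [Function.comp_assoc, Equiv.self_comp_symm, Function.comp_id]
  · change f (v ∘ e.symm) ((y ∘ e) ∘ e.symm) ≠ 0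
    rwa [Function.comp_assoc, Equiv.self_comp_symm, Function.comp_id]

theorem bilin_back {f : (κ → F) → (κ → F) → F} (h : IsBilinearForm f) :
    IsBilinearForm (fun v w : ι → F => f (v ∘ e.symm) (w ∘ e.symm)) :=
  ⟨fun x y v => h.add_left _ _ _, fun c x v => h.smul_left _ _ _, fun v x y => h.add_right _ _ _,
    fun c v x => h.smul_right _ _ _⟩

theorem symp_back {f : (κ → F) → (κ → F) → F} (h : IsSymplecticForm f) :
    IsSymplecticForm (fun v w : ι → F => f (v ∘ e.symm) (w ∘ e.symm)) :=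
  ⟨bilin_back e h.bilinear, fun v w => h.skew _ _, fun v => h.alternating _, nondeg_back e h.nondegenerate⟩

theorem uni_back {τ : F ≃+* F} {f : (κ → F) → (κ → F) → F} (h : IsUnitaryForm τ f) :
    IsUnitaryForm τ (fun v w : ι → F => f (v ∘ e.symm) (w ∘ e.symm)) :=
  ⟨h.ne_refl, h.involutive, fun x y v => h.add_left _ _ _, fun c x v => h.smul_left _ _ _,
    fun v w => h.herm _ _, nondeg_back e h.nondegenerate⟩

theorem quad_back {Q : (κ → F) → F} (h : IsNondegenerateQuadraticForm Q) :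
    IsNondegenerateQuadraticForm (fun v : ι → F => Q (v ∘ e.symm)) :=
  ⟨fun c v => h.smul _ _, bilin_back e h.polar_bilinear, nondeg_back e h.nondegenerate⟩

theorem omegaGL_eq (Q : (ι → F) → F) :
    omegaGL Q = ⁅isometryGroup F Q, isometryGroup F Q⁆ := by
  rw [omegaGL, Omega, commutator_def, Subgroup.map_commutator, ← MonoidHom.range_eq_map, Subgroup.range_subtype]

theorem omegaGL_re (Q : (κ → F) → F) :
    re e (omegaGL (fun v : ι → F => Q (v ∘ e.symm))) = omegaGL Q := by
  rw [omegaGL_eq, omegaGL_eq, re, Subgroup.map_commutator,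
    Cfsg.Agent.LieClassical.OmegaReindex.map_isometryGroup e _ Q]
  intro v
  rw [Function.comp_assoc, Equiv.self_comp_symm, Function.comp_id]

theorem nat_back (h : Nat' (re e R)) : Nat' R := by
  rcases h with h | ⟨f, hf, h⟩ | ⟨τ, f, hf, h⟩ | ⟨Q, hQ, h⟩
  · left
    intro x hx
    rw [← mem_re e]
    apply h
    change Matrix.GeneralLinearGroup.det (glReindex F e x) = 1
    rw [det_glReindex]
    exact hx
  · right; left
    exact ⟨_, symp_back e hf, fun x hx => (mem_re e).1 (h _ (form_back e hx))⟩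
  · right; right; left
    exact ⟨τ, _, uni_back e hf, fun x hx hd => (mem_re e).1 (h _ (form_back e hx) (by rw [det_glReindex, hd]))⟩
  · right; right; right
    refine ⟨_, quad_back e hQ, fun x hx => ?_⟩
    rw [← mem_re e]
    apply h
    rw [← omegaGL_re e]
    exact ⟨x, hx, rfl⟩

theorem field_back {s : ℕ} {E : Subalgebra F (Matrix κ κ F)} (h : IsFieldSubalgebra s E) :
    IsFieldSubalgebra s (E.map (Matrix.reindexAlgEquiv F F e.symm : Matrix κ κ F →ₐ[F] Matrix ι ι F)) := by
  refine ⟨?_, ?_, ?_⟩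
  · rintro _ ⟨x, hx, rfl⟩ _ ⟨y, hy, rfl⟩
    change (Matrix.reindexAlgEquiv F F e.symm) x * (Matrix.reindexAlgEquiv F F e.symm) y =
      (Matrix.reindexAlgEquiv F F e.symm) y * (Matrix.reindexAlgEquiv F F e.symm) x
    rw [← map_mul, ← map_mul, h.comm x hx y hy]
  · rintro _ ⟨x, hx, rfl⟩ hx0
    have hx1 : x ≠ 0 := by
      rintro rfl
      exact hx0 (map_zero _)
    obtain ⟨y, hy, hxy⟩ := h.inv x hx hx1
    refine ⟨_, ⟨y, hy, rfl⟩, ?_⟩
    change (Matrix.reindexAlgEquiv F F e.symm) x * (Matrix.reindexAlgEquiv F F e.symm) y = 1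
    rw [← map_mul, hxy, map_one]
  · rw [← h.finrank_eq]
    exact ((E.equivMapOfInjective (Matrix.reindexAlgEquiv F F e.symm : Matrix κ κ F →ₐ[F] Matrix ι ι F)
      (Matrix.reindexAlgEquiv F F e.symm).injective).toLinearEquiv.finrank_eq).symm

theorem ext_back {s : ℕ} (h : Ext s (re e R)) : Ext s R := by
  obtain ⟨E, hE, hR⟩ := h
  refine ⟨_, field_back e hE, fun g hg => ?_⟩
  have h1 := hR ((mem_re e).2 hg)
  have key : ∀ M : Matrix ι ι F, M ∈ E.map (Matrix.reindexAlgEquiv F F e.symm : Matrix κ κ F →ₐ[F] Matrix ι ι F) ↔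
      Matrix.reindexAlgEquiv F F e M ∈ E := by
    intro M
    constructor
    · rintro ⟨x, hx, rfl⟩
      have h2 : (Matrix.reindexAlgEquiv F F e) ((Matrix.reindexAlgEquiv F F e.symm) x) = x := by
        ext i j; simp [Matrix.reindexAlgEquiv_apply, Matrix.reindex_apply]
      change (Matrix.reindexAlgEquiv F F e) ((Matrix.reindexAlgEquiv F F e.symm) x) ∈ E
      rwa [h2]
    · intro h2
      refine ⟨_, h2, ?_⟩
      change (Matrix.reindexAlgEquiv F F e.symm) ((Matrix.reindexAlgEquiv F F e) M) = M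
      ext i j; simp [Matrix.reindexAlgEquiv_apply, Matrix.reindex_apply]
  intro k
  rw [key, key, map_mul, map_mul]
  exact h1 _

end transport

end

/-! ### numbers -/

namespace Big

variable {p f k r a : ℕ} (h : Big p f k r a)
include h

theorem r_ne_two (hk : 2 ≤ f * k) : r ≠ 2 := by
  rintro rfl
  have h1 := h.ord
  have hp : ((p : ℕ) : ZMod 2) = 0 ∨ ((p : ℕ) : ZMod 2) = 1 := by
    generalize ((p : ℕ) : ZMod 2) = x
    revert x; decide
  rcases hp with hp | hp
  · rw [hp, orderOf_eq_zero_iff'.2 (by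
      intro m hm
      rw [zero_pow hm.ne']; exact zero_ne_one)] at h1
    omega
  · rw [hp, orderOf_one] at h1
    omega

theorem fk_pos : 1 ≤ f * k := Nat.mul_pos h.hf h.hk

theorem iff (j : ℕ) : r ∣ (p ^ f) ^ j - 1 ↔ k ∣ j := by
  have := Fact.mk h.prime
  have hne : ((p : ℕ) : ZMod r) ≠ 0 := by
    intro h0
    have h1 := h.ord
    rw [h0, orderOf_eq_zero_iff'.2 (by
      intro m hm
      rw [zero_pow hm.ne']; exact zero_ne_one)] at h1
    have := h.fk_pos
    omega
  have hp0 : p ≠ 0 := by rintro rfl; exact hne Nat.cast_zero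
  have h1 : 1 ≤ (p ^ f) ^ j := Nat.one_le_pow _ _ (Nat.pow_pos (Nat.pos_of_ne_zero hp0))
  rw [← ZMod.natCast_eq_zero_iff, Nat.cast_sub h1, Nat.cast_one, sub_eq_zero, ← pow_mul, Nat.cast_pow,
    ← orderOf_dvd_iff_pow_eq_one, h.ord]
  exact Nat.mul_dvd_mul_iff_left h.hf

theorem not_dvd_q : ¬ r ∣ p ^ f := by
  intro h1
  have h2 : r ∣ (p ^ f) ^ k - 1 := (h.iff k).2 dvd_rfl
  have h3 : r ∣ (p ^ f) ^ k := dvd_pow h1 (by have := h.hk; omega)
  have h4 : 1 ≤ (p ^ f) ^ k := by
    rcases Nat.eq_zero_or_pos ((p ^ f) ^ k) with h5 | h5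
    · exfalso
      have h6 : p = 0 := by
        have := (Nat.pow_eq_zero.1 h5).1
        exact (Nat.pow_eq_zero.1 this).1
      have h7 := h.ord
      rw [h6, Nat.cast_zero, orderOf_eq_zero_iff'.2 (by
        intro m hm
        have := Fact.mk h.prime
        rw [zero_pow hm.ne']; exact zero_ne_one)] at h7
      have := h.fk_pos
      omega
    · exact h5
  have h5 : r ∣ 1 := (Nat.dvd_sub_iff_right h4 h3).1 h2
  exact h.prime.one_lt.ne' (Nat.dvd_one.1 h5)

theorem coprime {i : ℕ} (h1 : 1 ≤ i) (h2 : i < k) : Nat.Coprime (r ^ a) ((p ^ f) ^ i - 1) := by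
  apply Nat.Coprime.pow_left
  rw [h.prime.coprime_iff_not_dvd, h.iff]
  intro h3
  have := Nat.le_of_dvd h1 h3
  omega

theorem a_pos : 1 ≤ a := by
  rcases Nat.eq_zero_or_pos a with h1 | h1
  · have h2 := h.big
    rw [h1, pow_zero] at h2
    omega
  · exact h1

end Big

/-! ### irreducible groups -/

section irr

variable {ι : Type} [Fintype ι] [DecidableEq ι] {F : Type} [Field F] [Fintype F] {R : Subgroup (GL ι F)}
  {p f k r a : ℕ}

theorem exists_elt (hF : Fintype.card F = p ^ f) (h : Big p f k r a) (hk : Fintype.card ι < 2 * k) (h2 : 2 ≤ f * k)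
    (hR : r ^ a ∣ Nat.card R) : ∃ g ∈ R, orderOf g = r ^ a := by
  classical
  have := Fact.mk h.prime
  have hfin : Finite (GL ι F) := inferInstance
  obtain ⟨P⟩ : Nonempty (Sylow r R) := inferInstance
  have hcyc : IsCyclic P := Cfsg.Agent.H124.LinCyc.isCyclic_of_gl (F := F) (ι := ι) (p := r) (e := k) (h.r_ne_two h2) h.hk
    (by rw [hF]; exact h.iff) hk P.isPGroup' (R.subtype.comp (P : Subgroup R).subtype)
    (R.subtype_injective.comp (P : Subgroup R).subtype_injective)
  have hdvd : r ^ a ∣ Nat.card P := by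
    rw [P.card_eq_multiplicity]
    exact pow_dvd_pow _ ((h.prime.pow_dvd_iff_le_factorization Nat.card_pos.ne').1 hR)
  obtain ⟨g, hg⟩ := IsCyclic.exists_ofOrder_eq_natCard (α := P)
  obtain ⟨c, hc⟩ := hdvd
  have hc0 : c ≠ 0 := by
    rintro rfl
    have : 0 < Nat.card P := Nat.card_pos
    omega
  refine ⟨((g ^ c : P) : R), ((g ^ c : P) : R).2, ?_⟩
  rw [Subgroup.orderOf_coe, Subgroup.orderOf_coe, orderOf_pow' _ hc0, hg, hc, Nat.gcd_eq_right (Dvd.intro_left _ rfl),
    Nat.mul_div_cancel _ (Nat.pos_of_ne_zero hc0)]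

/-- primes dividing the order of an extension field group -/
theorem ext_dvd {s : ℕ} (hs : s.Prime) (hF : Fintype.card F = p ^ f) {k' r' : ℕ} (hr : r'.Prime)
    (hord : orderOf ((p : ℕ) : ZMod r') = f * k') (hf : 1 ≤ f) (hk' : 1 ≤ k')
    (hk : Fintype.card ι < 2 * k') (hne : Nonempty ι) (hE : Ext s R) (hR : r' ∣ Nat.card R) : r' = s ∨ s ∣ k' := by
  obtain ⟨E, hE, hRE⟩ := hE
  have hfin : Finite (GL ι F) := inferInstance
  have := Fact.mk hr
  have hne0 : ((p : ℕ) : ZMod r') ≠ 0 := by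
    intro h0
    have h1 := hord
    rw [h0, orderOf_eq_zero_iff'.2 (by
      intro m hm
      rw [zero_pow hm.ne']; exact zero_ne_one)] at h1
    have : 1 ≤ f * k' := Nat.mul_pos hf hk'
    omega
  have hp0 : p ≠ 0 := by rintro rfl; exact hne0 Nat.cast_zero
  have hiff : ∀ j, r' ∣ (p ^ f) ^ j - 1 ↔ k' ∣ j := by
    intro j
    have h1 : 1 ≤ (p ^ f) ^ j := Nat.one_le_pow _ _ (Nat.pow_pos (Nat.pos_of_ne_zero hp0))
    rw [← ZMod.natCast_eq_zero_iff, Nat.cast_sub h1, Nat.cast_one, sub_eq_zero, ← pow_mul, Nat.cast_pow,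
      ← orderOf_dvd_iff_pow_eq_one, hord]
    exact Nat.mul_dvd_mul_iff_left hf
  have hrF : ¬ r' ∣ Nat.card F := by
    rw [Nat.card_eq_fintype_card, hF]
    intro h1
    have h2 := hr.dvd_of_dvd_pow h1
    exact hne0 ((ZMod.natCast_eq_zero_iff p r').2 h2)
  rcases Cfsg.Agent.H251.GeoCard.extension hs hE hr hrF (hR.trans (Subgroup.card_dvd_of_le hRE)) with h1 | ⟨i, h1, h2, h3⟩
  · exact Or.inl h1
  · right
    rw [Nat.card_eq_fintype_card, hF, ← pow_mul, hiff] at h3
    have h4 : s * i ≤ Fintype.card ι := (Nat.mul_le_mul_left s h2).trans (Nat.mul_div_le _ _)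
    obtain ⟨c, hc⟩ := h3
    have hsi : 1 ≤ s * i := Nat.mul_pos hs.pos h1
    have hc1 : c = 1 := by
      have : c < 2 := by
        by_contra hcon
        push Not at hcon
        have := Nat.mul_le_mul_left k' hcon
        omega
      have : c ≠ 0 := by rintro rfl; omega
      omega
    rw [hc1, mul_one] at hc
    exact ⟨i, hc.symm⟩

/-- **THE LIST LEMMA for irreducible groups.** -/
theorem irr (G : GPPS) (hF : Fintype.card F = p ^ f) (h : Big p f k r a) (hn : 10 ≤ Fintype.card ι)
    (hk : Fintype.card ι < 2 * k) (hR : r ^ a ∣ Nat.card R) (hirr : ActsIrreducibly (matrixSet R)) :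
    (∃ s, s.Prime ∧ s ∣ Nat.gcd (Fintype.card ι) k ∧ Ext s R) ∨ Nat' R := by
  classical
  have hfin : Finite (GL ι F) := inferInstance
  have h2 : 2 ≤ f * k := by
    calc 2 ≤ 1 * k := by omega
      _ ≤ f * k := Nat.mul_le_mul_right _ h.hf
  obtain ⟨g, hgR, hg⟩ := exists_elt hF h hk h2 hR
  set e := Fintype.equivFin ι with he
  have hord : orderOf (glReindex F e g) = r ^ a := by
    rw [← hg]
    exact orderOf_injective (glReindex F e).toMonoidHom (glReindex F e).injective g
  rcases G F hF (Fintype.card ι) k hn hk (glReindex F e g) (by rw [hord]; exact h.big) (by rw [hord]; exact h.dvd)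
    (fun i h1 h2 => by rw [hord]; exact h.coprime h1 h2) (re e R) ((mem_re e).2 hgR) (irr_re e hirr) with
    ⟨F₀, s, P, hs, hcard, hle⟩ | ⟨s, E, hs, hsd, hE, hle⟩ | h1 | h1 | h1 | h1
  · exfalso
    have hr1 : r ∣ Nat.card (re e R) := by
      have h3 : Nat.card (re e R) = Nat.card R := Subgroup.card_map_of_injective (glReindex F e).injective
      rw [h3]
      exact (dvd_pow_self r (by have := h.a_pos; omega)).trans hR
    have hrF : ¬ r ∣ Nat.card F := by rw [Nat.card_eq_fintype_card, hF]; exact h.not_dvd_q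
    rcases Cfsg.Agent.H251.GeoCard.subfield h.prime hrF (hr1.trans (Subgroup.card_dvd_of_le hle)) with h3 | ⟨i, hi1, hi2, hi3⟩
    · rw [Nat.card_eq_fintype_card, hF] at h3
      have h4 := (h.iff 1).1 (by rwa [pow_one])
      have := Nat.le_of_dvd one_pos h4
      omega
    · rw [Fintype.card_fin] at hi2
      -- `|F₀| = p ^ f₀`, `f = s f₀`
      have h4 : r ∣ (p ^ f) ^ i - 1 := by
        rw [← hF, hcard, ← pow_mul, mul_comm, pow_mul]
        have h5 : Nat.card F₀ ^ i - 1 ∣ (Nat.card F₀ ^ i) ^ s - 1 := by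
          have := Nat.sub_dvd_pow_sub_pow (Nat.card F₀ ^ i) 1 s
          rwa [one_pow] at this
        exact hi3.trans h5
      rw [h.iff] at h4
      have hik : i = k := by
        obtain ⟨c, hc⟩ := h4
        have : c < 2 := by
          by_contra hcon
          push Not at hcon
          have := Nat.mul_le_mul_left k hcon
          omega
        have : c ≠ 0 := by rintro rfl; omega
        have : c = 1 := by omega
        rw [hc, this, mul_one]
      rw [hik] at hi3
      -- `|F₀| ^ k = p ^ j`, `j < f k`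
      have h5 : Nat.card F₀ ∣ p ^ f := by
        rw [← hF, hcard]
        exact dvd_pow_self _ hs.ne_zero
      obtain ⟨j, -, hj⟩ := (Nat.dvd_prime_pow h.hp).1 h5
      have hjs : j * s = f := by
        have h6 : p ^ (j * s) = p ^ f := by rw [pow_mul, ← hj, ← hcard, hF]
        exact Nat.pow_right_injective h.hp.two_le h6
      have := Fact.mk h.prime
      have h7 : ((p : ℕ) : ZMod r) ^ (j * k) = 1 := by
        have h8 : 1 ≤ (p ^ j) ^ k := Nat.one_le_pow _ _ (Nat.pow_pos h.hp.pos)
        rw [hj, ← ZMod.natCast_eq_zero_iff, Nat.cast_sub h8, Nat.cast_one, sub_eq_zero, ← pow_mul, Nat.cast_pow] at hi3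
        exact hi3
      have h8 := orderOf_dvd_of_pow_eq_one h7
      rw [h.ord] at h8
      have hj0 : 0 < j := by
        rcases Nat.eq_zero_or_pos j with h9 | h9
        · rw [h9, zero_mul] at hjs
          have := h.hf
          omega
        · exact h9
      have h9 := Nat.le_of_dvd (Nat.mul_pos hj0 h.hk) h8
      have h10 : f ≤ j := Nat.le_of_mul_le_mul_right h9 h.hk
      have h11 : j * 2 ≤ j * s := Nat.mul_le_mul_left _ hs.two_le
      omega
  · exact Or.inl ⟨s, hs, hsd, ext_back e ⟨E, hE, hle⟩⟩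
  · exact Or.inr (nat_back e (Or.inl h1))
  · exact Or.inr (nat_back e (Or.inr (Or.inl h1)))
  · exact Or.inr (nat_back e (Or.inr (Or.inr (Or.inl h1))))
  · exact Or.inr (nat_back e (Or.inr (Or.inr (Or.inr h1))))

end irr

end Cfsg.Agent.H851.Rl

private theorem dce_32ed2c1f720c : _root_.True := by
  try have : _root_.True := by simp only [_root_.Cfsg.Omega.eq_1]
  try have : _root_.True := by simp only [_root_.Cfsg.Agent.H851.Rl.re.eq_1]
  exact _root_.True.intro
end

-- part: H73/Rg/HDefs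
section
set_option linter.all false
open scoped Cfsg.Agent.FastGrp

-- part: H73/Rg/PP
section
/-!
# The p-primitive part (helper73)

`PP p k` : the part of `Φ_k(p)` composed of the primes `r` with `p` of order `k` modulo `r`.
-/

set_option autoImplicit false
set_option exponentiation.threshold 7000

namespace Cfsg.Agent.H73.Rg

open Cfsg.Agent.H365.Zsig Cfsg.Agent.Lib.Zsigmondy Cfsg.Agent.H436

/-- the `p`-primitive part of `p ^ k - 1` -/
noncomputable def PP (p k : ℕ) : ℕ := Ph k p / Nat.gcd (Ph k p) k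

variable {p k r : ℕ}

theorem prim_of_orderOf (hp : 2 ≤ p) (hk : 1 ≤ k) (hr : r.Prime) (h : orderOf (p : ZMod r) = k) : Prim p k r where
  prime := hr
  dvd_iff m := by rw [dvd_pow_sub_one_iff (by omega), h]
  not_dvd hd := by
    have := Fact.mk hr
    have h0 : (p : ZMod r) = 0 := (ZMod.natCast_eq_zero_iff p r).2 hd
    rw [h0] at h
    have h1 : (0 : ZMod r) ^ k = 1 := by rw [← h]; exact pow_orderOf_eq_one _
    rw [zero_pow (by omega)] at h1
    exact zero_ne_one h1

theorem orderOf_of_prim (hp : 2 ≤ p) (h : Prim p k r) : orderOf (p : ZMod r) = k := by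
  apply Nat.dvd_antisymm
  · rw [← dvd_pow_sub_one_iff (by omega)]; exact h.dvd dvd_rfl
  · rw [← h.dvd_iff, dvd_pow_sub_one_iff (by omega)]

theorem PP_dvd_Ph : PP p k ∣ Ph k p := Nat.div_dvd_of_dvd (Nat.gcd_dvd_left _ _)

theorem PP_dvd (hp : 1 ≤ p) (hk : 1 ≤ k) : PP p k ∣ p ^ k - 1 := PP_dvd_Ph.trans (Ph_dvd (by omega) hp)

theorem PP_mul : PP p k * Nat.gcd (Ph k p) k = Ph k p := Nat.div_mul_cancel (Nat.gcd_dvd_left _ _)

theorem Ph_le_PP_mul (hk : 1 ≤ k) : Ph k p ≤ PP p k * k := by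
  conv_lhs => rw [← PP_mul]
  exact Nat.mul_le_mul_left _ (Nat.gcd_le_right _ (by omega))

/-- a prime divisor of `PP p k` is `p`-primitive -/
theorem prim_of_dvd_PP (hp : 2 ≤ p) (hk : 3 ≤ k) (hr : r.Prime) (h : r ∣ PP p k) : Prim p k r := by
  rcases prime_dvd_Ph (by omega) hp hr (h.trans PP_dvd_Ph) with h1 | ⟨j, m, h1, h2, h3, h4, h5⟩
  · exact prim_of_orderOf hp (by omega) hr h1
  · exfalso
    apply sq_not_dvd hk hp hr h1 h2 h3 h4 h5
    have h6 : r ∣ Nat.gcd (Ph k p) k := Nat.dvd_gcd (h.trans PP_dvd_Ph) (h1 ▸ (dvd_pow_self r (Nat.succ_ne_zero j)).mul_right m)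
    rw [sq, ← PP_mul (p := p) (k := k)]
    exact mul_dvd_mul h h6

theorem mod_of_prim' (hp : 2 ≤ p) (h : Prim p k r) : k ∣ r - 1 := by
  rw [← orderOf_of_prim hp h]
  exact orderOf_dvd_pred h.prime h.not_dvd

theorem PP_pos (hp : 2 ≤ p) (hk : 2 ≤ k) : 0 < PP p k := by
  have h1 := Ph_gt_one hk hp
  rw [← PP_mul] at h1
  exact Nat.pos_of_ne_zero fun h => by rw [h, zero_mul] at h1; omega

/-- a `p`-primitive prime divides `PP p k` -/
theorem dvd_PP (hp : 2 ≤ p) (hk : 3 ≤ k) (h : Prim p k r) : r ∣ PP p k := by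
  have hr := h.prime
  have hx : r ∣ Ph k p := by
    -- `p ^ k - 1` is the product of the cyclotomic values
    have h1 : (∏ d ∈ k.divisors, (Ph d p : ℤ)) = (p : ℤ) ^ k - 1 := by
      have h2 := congrArg (Polynomial.eval (p : ℤ)) (Polynomial.prod_cyclotomic_eq_X_pow_sub_one (show 0 < k by omega) ℤ)
      rw [Polynomial.eval_prod] at h2
      simp only [Polynomial.eval_sub, Polynomial.eval_pow, Polynomial.eval_X, Polynomial.eval_one] at h2
      rw [← h2]
      exact Finset.prod_congr rfl fun d _ => (Ph_cast (by omega)).symm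
    have h3 : ∏ d ∈ k.divisors, Ph d p = p ^ k - 1 := by
      have h4 : ((p ^ k - 1 : ℕ) : ℤ) = (p : ℤ) ^ k - 1 := by
        rw [Nat.cast_sub (Nat.one_le_pow _ _ (by omega))]; push_cast; rfl
      have h5 : ((∏ d ∈ k.divisors, Ph d p : ℕ) : ℤ) = ((p ^ k - 1 : ℕ) : ℤ) := by rw [h4, ← h1]; push_cast; rfl
      exact_mod_cast h5
    have h4 : r ∣ ∏ d ∈ k.divisors, Ph d p := by rw [h3]; exact h.dvd dvd_rfl
    obtain ⟨d, hd, h5⟩ := (Prime.dvd_finsetProd_iff hr.prime _).1 h4
    have h6 : 0 < d := Nat.pos_of_mem_divisors hd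
    have h7 : k ∣ d := (h.dvd_iff d).1 (h5.trans (Ph_dvd h6 (by omega)))
    rw [Nat.dvd_antisymm h7 (Nat.dvd_of_mem_divisors hd)]
    exact h5
  rw [← PP_mul (p := p) (k := k)] at hx
  refine (hr.dvd_mul.1 hx).resolve_right fun h1 => ?_
  have h2 : r ∣ k := h1.trans (Nat.gcd_dvd_right _ _)
  have h3 := Nat.le_of_dvd (by omega) h2
  have h4 := Nat.le_of_dvd (by have := hr.two_le; omega) (mod_of_prim' hp h)
  omega

theorem one_lt_PP (hp : 2 ≤ p) (hk : 3 ≤ k) (h6 : ¬ (p = 2 ∧ k = 6)) : 1 < PP p k := by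
  obtain ⟨r, hr⟩ := exists_prim hp hk h6
  exact lt_of_lt_of_le hr.prime.one_lt (Nat.le_of_dvd (PP_pos hp (by omega)) (dvd_PP hp hk hr))

/-- the lower bound -/
theorem PP_lower {e f P : ℕ} (hp : 2 ≤ p) (he : 1 ≤ e) (hf : 1 ≤ f) (hP : P < p) :
    P ^ e.totient ≤ PP p (e * f) * (e * f) := by
  refine le_trans ?_ (Ph_le_PP_mul (Nat.mul_pos he hf))
  refine le_trans ?_ (Ph_lower hp)
  calc P ^ e.totient ≤ (p - 1) ^ e.totient := Nat.pow_le_pow_left (by omega) _
    _ ≤ (p - 1) ^ (e * f).totient := Nat.pow_le_pow_right (by omega)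
      (Nat.le_of_dvd (Nat.totient_pos.2 (Nat.mul_pos he hf)) (Nat.totient_dvd_of_dvd (Dvd.intro _ rfl)))

/-! ### evaluation -/

/-- `Φ_k(q)` for the number `k` with the list `l` of prime powers `(P, j)`, `k = ∏ P ^ (j + 1)` -/
def cyc : List (ℕ × ℕ) → ℕ → ℕ
  | [], q => q - 1
  | (P, j) :: l, q => cyc l (q ^ P ^ (j + 1)) / cyc l (q ^ P ^ j)

/-- the number of a list -/
def nl (l : List (ℕ × ℕ)) : ℕ := (l.map fun x => x.1 ^ (x.2 + 1)).prod

theorem Ph_one {q : ℕ} (hq : 1 ≤ q) : Ph 1 q = q - 1 := by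
  have h : ((Ph 1 q : ℕ) : ℤ) = ((q - 1 : ℕ) : ℤ) := by
    rw [← Ph_cast hq, Polynomial.cyclotomic_one, Nat.cast_sub hq]; simp
  exact_mod_cast h

theorem cyc_eq : ∀ (l : List (ℕ × ℕ)), (∀ x ∈ l, x.1.Prime) → (l.map Prod.fst).Nodup → ∀ q, 2 ≤ q →
    Ph (nl l) q = cyc l q
  | [], _, _, q, hq => by
    show Ph 1 q = q - 1
    exact Ph_one (by omega)
  | (P, j) :: l, h, hn, q, hq => by
    have hP : P.Prime := h _ List.mem_cons_self
    have hn' : P ∉ l.map Prod.fst ∧ (l.map Prod.fst).Nodup := List.nodup_cons.1 hn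
    have hl : ∀ x ∈ l, x.1.Prime := fun x hx => h x (List.mem_cons_of_mem _ hx)
    have hPl : ¬ P ∣ nl l := by
      intro hd
      unfold nl at hd
      rw [Prime.dvd_prod_iff hP.prime] at hd
      obtain ⟨y, hy, hd⟩ := hd
      obtain ⟨x, hx, rfl⟩ := List.mem_map.1 hy
      exact hn'.1 (List.mem_map.2 ⟨x, hx, ((Nat.prime_dvd_prime_iff_eq hP (hl x hx)).1 (hP.dvd_of_dvd_pow hd)).symm⟩)
    have hb : 2 ≤ q ^ P ^ j := hq.trans (Nat.le_self_pow (pow_pos hP.pos j).ne' q)
    have hb2 : 2 ≤ q ^ P ^ (j + 1) := hq.trans (Nat.le_self_pow (pow_pos hP.pos _).ne' q)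
    have h1 := Ph_mul (q := q) (k := j) hq hP hPl
    rw [← pow_mul, ← pow_succ] at h1
    have h2 : nl ((P, j) :: l) = P ^ (j + 1) * nl l := by simp [nl]
    rw [h2]
    show _ = cyc l (q ^ P ^ (j + 1)) / cyc l (q ^ P ^ j)
    rw [← cyc_eq l hl hn'.2 _ hb2, ← cyc_eq l hl hn'.2 _ hb, h1]
    refine (Nat.mul_div_cancel _ (Nat.pos_of_ne_zero ?_)).symm
    intro h0
    have h3 : 0 < nl l := Nat.pos_of_ne_zero fun h => by rw [h] at hPl; exact hPl (dvd_zero _)
    have h4 := Ph_lower (b := q ^ P ^ j) (m := nl l) hb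
    rw [h0] at h4
    have h5 : 0 < (q ^ P ^ j - 1) ^ (nl l).totient := pow_pos (by omega) _
    omega

/-- the exponent of `l` in `k` -/
def vl (l : ℕ) : ℕ → ℕ → ℕ
  | 0, _ => 0
  | n + 1, k => if k % l == 0 then vl l n (k / l) + 1 else 0

/-- the small primes -/
def sps : List ℕ := [2, 3, 5, 7, 11, 13, 17, 19, 23, 29, 31, 37, 41, 43, 47, 53, 59, 61, 67, 71, 73, 79, 83, 89, 97, 101,
  103, 107, 109, 113, 127, 131, 137, 139, 149, 151, 157, 163, 167, 173, 179, 181, 191, 193, 197, 199, 211, 223, 227, 229, 233, 239, 241,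
  251, 257, 263, 269, 271, 277, 281, 283, 293, 307, 311]

/-- the factorisation of `k` -/
def fl (k : ℕ) : List (ℕ × ℕ) := (sps.filter fun l => k % l == 0).map fun l => (l, vl l 12 k - 1)

/-- the computable form of `PP` -/
def pc (p k : ℕ) : ℕ := cyc (fl k) p / Nat.gcd (cyc (fl k) p) k

theorem sps_prime : ∀ l ∈ sps, l.Prime := by
  have h : ∀ l ∈ sps, 2 ≤ l ∧ l < 324 ∧ ∀ m < 18, m < 2 ∨ l < m * m ∨ l % m ≠ 0 := by decide +kernel
  intro l hl
  obtain ⟨h1, h2, h3⟩ := h l hl
  refine Nat.prime_def_le_sqrt.2 ⟨h1, fun m h4 h5 hd => ?_⟩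
  have h6 : m * m ≤ l := Nat.le_sqrt.1 h5
  have h7 : m < 18 := Nat.mul_self_lt_mul_self_iff.1 (h6.trans_lt h2)
  rcases h3 m h7 with h8 | h8 | h8
  · exact absurd h4 (Nat.not_le_of_lt h8)
  · exact absurd h6 (Nat.not_le_of_lt h8)
  · exact h8 (Nat.mod_eq_zero_of_dvd hd)

theorem PP_eq (hk : nl (fl k) = k) (hp : 2 ≤ p) : PP p k = pc p k := by
  have h1 : Ph k p = cyc (fl k) p := by
    have h2 := cyc_eq (fl k) (fun x hx => by
      obtain ⟨l, hl, rfl⟩ := List.mem_map.1 hx
      exact sps_prime l (List.mem_of_mem_filter hl)) (by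
      have h3 : (fl k).map Prod.fst = sps.filter fun l => k % l == 0 := by
        unfold fl
        rw [List.map_map]
        exact List.map_id' _
      rw [h3]
      exact List.Nodup.filter _ (by decide +kernel)) p hp
    rw [hk] at h2
    exact h2
  unfold PP pc
  rw [h1]

/-- the numbers below 620 which are factorised by `fl` -/
def okk (k : ℕ) : Bool := nl (fl k) == k

end Cfsg.Agent.H73.Rg
end

-- part: H73/Rg/HDefs
section
/-!
# Half classes (helper73)

`HAt p f c B` : the primes `r` with `p` of order `f c` modulo `r` dividing `|B|` do not divide the index of `B`, and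
`|B|` contains at least the square root of the `p`-primitive part of `p ^ (f c) - 1`.
-/

set_option autoImplicit false

namespace Cfsg.Agent.H73.Rg

open Cfsg.Agent.H436

/-- `B` contains at least half of the class `c` -/
structure HAt (p f c : ℕ) {K : Type*} [Group K] (B : Subgroup K) : Prop where
  full : ∀ r, Prim p (f * c) r → r ∣ Nat.card B → ¬ r ∣ B.index
  half : PP p (f * c) ≤ (Nat.gcd (Nat.card B) (PP p (f * c))) ^ 2

/-- `B` contains at least half of the classes of the list -/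
def HOff (p f : ℕ) (cls : List ℕ) {K : Type*} [Group K] (B : Subgroup K) : Prop := ∀ c ∈ cls, HAt p f c B

end Cfsg.Agent.H73.Rg
end

private theorem dce_cef5db39a4a0 : _root_.True := by
  try have : _root_.True := by simp only [_root_.Cfsg.Agent.H73.Rg.nl.eq_1]
  exact _root_.True.intro
end

-- part: H920/Rg/StmtA
section
set_option linter.all false

/-!
# S3691, residual case D+1 beta: statements of the pieces (helper920)
-/

set_option autoImplicit false

open Cfsg Matrix Module

namespace Cfsg.Agent.H920.Rg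

universe u v

/-- **piece A** : finite subgroups of `GL₂(E)` of order divisible by the characteristic `p`, with `O_p = 1` -/
def StmtDick : Prop := ∀ (E : Type v) [Field E] [Fintype E] (p : ℕ) [Fact p.Prime] [CharP E p] (C : Type u) [Group C] [Finite C]
  (φ : C →* GL (Fin 2) E), Function.Injective φ → p ∣ Nat.card C → pCore p C = ⊥ →
  ∃ C0 : Subgroup C, (∀ c ∈ C0, (φ c : Matrix (Fin 2) (Fin 2) E).det = 1) ∧
    (p ≠ 2 → ∃ u ∈ C0, orderOf u = 4 ∧ ∃ t ∈ C0, t * u ≠ u * t) ∧
    (p = 2 → (Nat.card C).factorization 2 = 1 ∨ ∃ u ∈ C0, orderOf u = 3 ∧ ∃ t ∈ C0, t * u ≠ u * t) ∧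
    ((Nat.card C).factorization p ≤ 1 ∨ (p ^ (Nat.card C).factorization p) ^ 2 - 1 ∣ 2 * Nat.card C0)

/-- **piece B** : an element `y` of prime order `r` (`p` of order `f m` modulo `r`) without fixed vectors on `V`, `dim V = 2 m`,
`|F| = p ^ f`, which commutes with an element `g` of order `p` : the algebra `F[y]` is a field `E` with `p ^ (f m)` elements, and the
centraliser of `y` in `GL(V)` embeds in `GL₂(E)`; `|Γ : C_Γ(y)|` divides `m` for the subgroups `Γ` normalising `⟨y⟩` -/
def StmtExt : Prop := ∀ (F : Type u) (V : Type v) [Field F] [Finite F] [AddCommGroup V] [Module F V] [FiniteDimensional F V]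
  (p f m r : ℕ), p.Prime → Nat.card F = p ^ f → r.Prime → orderOf (p : ZMod r) = f * m → 0 < f → 0 < m → finrank F V = 2 * m →
  ∀ y g : V ≃ₗ[F] V, orderOf y = r → (∀ v, y v = v → v = 0) → g * y = y * g → orderOf g = p →
  (∃ (E : Type v) (_ : Field E) (_ : Fintype E) (φ : Subgroup.centralizer ({y} : Set (V ≃ₗ[F] V)) →* GL (Fin 2) E),
    CharP E p ∧ Function.Injective φ ∧ Nat.card E = p ^ (f * m) ∧
    ∀ z : Subgroup.centralizer ({y} : Set (V ≃ₗ[F] V)), (z : V ≃ₗ[F] V) = y →
      ∃ c : E, (φ z : Matrix (Fin 2) (Fin 2) E) = Matrix.scalar (Fin 2) c) ∧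
  (∀ Γ : Subgroup (V ≃ₗ[F] V), (∀ g ∈ Γ, g * y * g⁻¹ ∈ Subgroup.zpowers y) →
    Nat.card Γ ∣ Nat.card (Γ ⊓ Subgroup.centralizer ({y} : Set (V ≃ₗ[F] V)) : Subgroup (V ≃ₗ[F] V)) * m) ∧
  (∀ B : LinearMap.BilinForm F V, B.Nondegenerate → (∀ u w, B (y u) (y w) = B u w) → r ≠ 2 → Even m)

end Cfsg.Agent.H920.Rg
end

-- part: H376/Rg920/Ext_mg
section
prune_inst 0x4b440654459a202000000851400000060480001200003000008a00a000309ac010d020e003090000308820080400c0020000800004040000004000400000101000080540402000008260008000000000000000000000000000000000000010000000000000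
set_option linter.all false
open scoped Cfsg.Agent.FastGrp

-- part: H376/Rg920/ExtA
section
/-!
# S3691, piece B (`StmtExt`) for helper920 (helper376)
-/

set_option autoImplicit false

open Cfsg Matrix Module

namespace Cfsg.Agent.H376.Rg920

universe u v w

section basic

variable {F : Type u} {V : Type v} [Field F] [AddCommGroup V] [Module F V]

/-- the algebra `F[y]` -/
abbrev AY (y : V ≃ₗ[F] V) : Subalgebra F (Module.End F V) := Algebra.adjoin F {(y : V →ₗ[F] V)}

theorem y_mem (y : V ≃ₗ[F] V) : (y : V →ₗ[F] V) ∈ AY y := Algebra.subset_adjoin rfl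

theorem comm_of_mem {y : V ≃ₗ[F] V} {X : Module.End F V} (hX : X * (y : V →ₗ[F] V) = (y : V →ₗ[F] V) * X)
    {a : Module.End F V} (ha : a ∈ AY y) : X * a = a * X := by
  have h1 : a ∈ Subalgebra.centralizer F {X} := by
    have h2 : AY y ≤ Subalgebra.centralizer F {X} := by
      refine Algebra.adjoin_le ?_
      rintro _ rfl
      rw [SetLike.mem_coe, Subalgebra.mem_centralizer_iff]
      rintro _ rfl
      exact hX
    exact h2 ha
  rw [Subalgebra.mem_centralizer_iff] at h1
  exact h1 X rfl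

theorem comm_AY {y : V ≃ₗ[F] V} {a b : Module.End F V} (ha : a ∈ AY y) (hb : b ∈ AY y) : a * b = b * a :=
  comm_of_mem (comm_of_mem (X := (y : V →ₗ[F] V)) rfl ha).symm hb

/-- invariant subspaces have dimension divisible by `m` -/
theorem dvd_finrank [Finite F] [FiniteDimensional F V] {p f m r : ℕ} (hF : Nat.card F = p ^ f) (hr : r.Prime)
    (ho : orderOf (p : ZMod r) = f * m) (hf : 0 < f) {y : V ≃ₗ[F] V} (hy : orderOf y = r)
    (hfix : ∀ v, y v = v → v = 0) {U : Submodule F V} (hU : ∀ v ∈ U, y v ∈ U) : m ∣ finrank F U := by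
  classical
  have : Finite V := Module.finite_of_finite F
  have : Fintype U := Fintype.ofFinite U
  have := Fact.mk hr
  let g : Function.End U := fun v => ⟨y v, hU v v.2⟩
  have hg : ∀ (k : ℕ) (v : U), ((g ^ k) v : V) = (y ^ k) v := by
    intro k
    induction k with
    | zero => intro v; rfl
    | succ k ih =>
      intro v
      rw [pow_succ', pow_succ']
      change y ((g ^ k) v : V) = y ((y ^ k) (v : V))
      rw [ih]
  have hgr : g ^ r ^ 1 = 1 := by
    funext v
    apply Subtype.ext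
    rw [pow_one, hg, ← hy, pow_orderOf_eq_one]
    rfl
  have h1 := Equiv.Perm.card_fixedPoints_modEq hgr
  have h2 : Fintype.card (Function.fixedPoints g) = 1 := by
    rw [Fintype.card_eq_one_iff]
    refine ⟨⟨0, Subtype.ext (by change y ((0 : U) : V) = _; simp)⟩, ?_⟩
    rintro ⟨v, hv⟩
    apply Subtype.ext
    apply Subtype.ext
    exact hfix v (congrArg Subtype.val hv)
  rw [h2, ← Nat.card_eq_fintype_card, Module.natCard_eq_pow_finrank (K := F), hF, ← pow_mul] at h1
  have h3 : ((p : ZMod r)) ^ (f * finrank F U) = 1 := by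
    have h4 := (ZMod.natCast_eq_natCast_iff _ _ _).2 h1
    rwa [Nat.cast_pow, Nat.cast_one] at h4
  have h4 := orderOf_dvd_of_pow_eq_one h3
  rw [ho] at h4
  exact Nat.dvd_of_mul_dvd_mul_left hf h4

end basic

end Cfsg.Agent.H376.Rg920
end

-- part: H376/Rg920/ExtB
section
/-!
# S3691, piece B (`StmtExt`) for helper920, II : `F[y]` is a field of degree `m` (helper376)
-/

set_option autoImplicit false

open Cfsg Matrix Module

namespace Cfsg.Agent.H376.Rg920

universe u v w

section field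

variable {F : Type u} {V : Type v} [Field F] [AddCommGroup V] [Module F V]

/-- the configuration -/
structure Cfg (F : Type u) (V : Type v) [Field F] [AddCommGroup V] [Module F V] (p f m r : ℕ) (y g : V ≃ₗ[F] V) : Prop where
  fin : Finite F
  fd : FiniteDimensional F V
  hp : p.Prime
  hF : Nat.card F = p ^ f
  hr : r.Prime
  ho : orderOf (p : ZMod r) = f * m
  hf : 0 < f
  hm : 0 < m
  hV : finrank F V = 2 * m
  hy : orderOf y = r
  hfix : ∀ v, y v = v → v = 0
  hc : g * y = y * g
  hg : orderOf g = p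

variable {p f m r : ℕ} {y g : V ≃ₗ[F] V}

theorem Cfg.charP (H : Cfg F V p f m r y g) : CharP F p := by
  have := H.fin
  have := Fintype.ofFinite F
  have := Fact.mk H.hp
  have h1 := H.hF
  rw [Nat.card_eq_fintype_card] at h1
  exact charP_of_card_eq_prime_pow h1

/-- the nilpotent operator -/
def NN (g : V ≃ₗ[F] V) : Module.End F V := (g : V →ₗ[F] V) - 1

theorem Cfg.nontrivial (H : Cfg F V p f m r y g) : Nontrivial V := by
  have := H.fd
  refine Module.nontrivial_of_finrank_pos (R := F) ?_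
  rw [H.hV]
  have := H.hm
  omega

theorem coe_pow (h : V ≃ₗ[F] V) (k : ℕ) : ((h ^ k : V ≃ₗ[F] V) : V →ₗ[F] V) = (h : V →ₗ[F] V) ^ k := by
  induction k with
  | zero => rfl
  | succ k ih =>
    rw [pow_succ, pow_succ, ← ih]
    rfl

theorem Cfg.NN_pow (H : Cfg F V p f m r y g) : NN g ^ p = 0 := by
  have := H.charP
  have := Fact.mk H.hp
  have := H.nontrivial
  have h0 : CharP (Module.End F V) p := charP_of_injective_algebraMap (FaithfulSMul.algebraMap_injective F (Module.End F V)) p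
  have h1 := sub_pow_char_of_commute p (x := (g : V →ₗ[F] V)) (y := (1 : Module.End F V)) (Commute.one_right _)
  have h2 : (g : Module.End F V) ^ p = 1 := by
    have h3 := coe_pow g p
    rw [← H.hg, pow_orderOf_eq_one] at h3
    rw [← H.hg]
    exact h3.symm
  rw [h2, one_pow, sub_self] at h1
  exact h1

theorem Cfg.NN_ne (H : Cfg F V p f m r y g) : NN g ≠ 0 := by
  intro h
  have h1 : g = 1 := by
    ext v
    have h2 := congrArg (fun (X : Module.End F V) => X v) h
    change g v - v = 0 at h2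
    exact sub_eq_zero.1 h2
  have h2 := H.hg
  rw [h1, orderOf_one] at h2
  exact H.hp.one_lt.ne h2

theorem Cfg.y_comm (H : Cfg F V p f m r y g) : NN g * (y : V →ₗ[F] V) = (y : V →ₗ[F] V) * NN g := by
  ext v
  change g (y v) - y v = y (g v - v)
  have h1 : (g * y) v = (y * g) v := by rw [H.hc]
  change g (y v) = y (g v) at h1
  rw [h1, map_sub]

theorem Cfg.dvd (H : Cfg F V p f m r y g) {U : Submodule F V} (hU : ∀ v ∈ U, y v ∈ U) : m ∣ finrank F U := by
  have := H.fin
  have := H.fd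
  exact dvd_finrank H.hF H.hr H.ho H.hf H.hy H.hfix hU

/-- a nonzero `N`-invariant subspace meets the kernel of `N` -/
theorem exists_ker {N : Module.End F V} {k : ℕ} (hN : N ^ k = 0) {K : Submodule F V} (hK : ∀ v ∈ K, N v ∈ K) (hne : K ≠ ⊥) :
    ∃ v ∈ K, v ≠ 0 ∧ N v = 0 := by
  classical
  obtain ⟨v, hv, hv0⟩ := K.ne_bot_iff.1 hne
  have hex : ∃ j, (N ^ j) v = 0 := ⟨k, by rw [hN]; rfl⟩
  have h1 := Nat.find_spec hex
  have h2 : Nat.find hex ≠ 0 := by
    intro h
    rw [h] at h1
    exact hv0 h1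
  obtain ⟨j, hj⟩ := Nat.exists_eq_succ_of_ne_zero h2
  have h3 : (N ^ j) v ≠ 0 := Nat.find_min hex (by omega)
  have h4 : ∀ i, (N ^ i) v ∈ K := by
    intro i
    induction i with
    | zero => exact hv
    | succ i ih => rw [pow_succ']; exact hK _ ih
  refine ⟨(N ^ j) v, h4 j, h3, ?_⟩
  rw [hj, Nat.succ_eq_add_one, pow_succ'] at h1
  exact h1

/-- `y`- and `N`-invariant subspaces of dimension `m` are `ker N` -/
theorem Cfg.eq_ker (H : Cfg F V p f m r y g) {K : Submodule F V} (hKy : ∀ v ∈ K, y v ∈ K) (hKN : ∀ v ∈ K, NN g v ∈ K)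
    (hK : finrank F K = m) : K = LinearMap.ker (NN g) := by
  have := H.fd
  have hm := H.hm
  have hkery : ∀ v ∈ LinearMap.ker (NN g), y v ∈ LinearMap.ker (NN g) := by
    intro v hv
    rw [LinearMap.mem_ker] at hv ⊢
    have h1 : (NN g * (y : V →ₗ[F] V)) v = ((y : V →ₗ[F] V) * NN g) v := by rw [H.y_comm]
    change NN g (y v) = y (NN g v) at h1
    rw [h1, hv, map_zero]
  have hne : K ≠ ⊥ := by
    intro h
    rw [h, finrank_bot] at hK
    omega
  have h1 : K ≤ LinearMap.ker (NN g) := by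
    have h2 : K ⊓ LinearMap.ker (NN g) = K := by
      refine Submodule.eq_of_le_of_finrank_le inf_le_left ?_
      have h3 : m ∣ finrank F (K ⊓ LinearMap.ker (NN g) : Submodule F V) :=
        H.dvd (fun v hv => ⟨hKy v hv.1, hkery v hv.2⟩)
      have h4 : 0 < finrank F (K ⊓ LinearMap.ker (NN g) : Submodule F V) := by
        rw [Module.finrank_pos_iff, Submodule.nontrivial_iff_ne_bot, Submodule.ne_bot_iff]
        obtain ⟨v, hv, hv0, hNv⟩ := exists_ker H.NN_pow hKN hne
        exact ⟨v, ⟨hv, hNv⟩, hv0⟩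
      rw [hK]
      exact Nat.le_of_dvd h4 h3
    exact inf_eq_left.1 h2
  refine Submodule.eq_of_le_of_finrank_le h1 ?_
  rw [hK]
  have h5 : m ∣ finrank F (LinearMap.ker (NN g)) := H.dvd hkery
  have h6 : finrank F (LinearMap.ker (NN g)) < finrank F V := by
    refine Submodule.finrank_lt ?_
    rw [Ne, LinearMap.ker_eq_top]
    exact H.NN_ne
  rw [H.hV] at h6
  obtain ⟨k, hk⟩ := h5
  rw [hk] at h6 ⊢
  have h7 : k < 2 := by
    by_contra hcon
    have : m * 2 ≤ m * k := Nat.mul_le_mul_left m (by omega)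
    omega
  interval_cases k <;> omega

theorem Cfg.r_ne (H : Cfg F V p f m r y g) : (p : ZMod r) ^ (f * m) = 1 := by
  rw [← H.ho, pow_orderOf_eq_one]

theorem Cfg.y_pow (H : Cfg F V p f m r y g) : (y : Module.End F V) ^ p ^ (f * m) = (y : V →ₗ[F] V) := by
  rw [← coe_pow]
  congr 1
  have h1 : (p ^ (f * m) : ℕ) ≡ 1 [MOD r] := by
    rw [← ZMod.natCast_eq_natCast_iff, Nat.cast_pow, Nat.cast_one]
    exact H.r_ne
  have h2 : y ^ p ^ (f * m) = y ^ 1 := by
    rw [pow_eq_pow_iff_modEq, H.hy]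
    exact h1
  rw [h2, pow_one]

theorem Cfg.pow_eq (H : Cfg F V p f m r y g) {a : Module.End F V} (ha : a ∈ AY y) : a ^ p ^ (f * m) = a := by
  have := H.fin
  have := Fintype.ofFinite F
  have := H.charP
  have := Fact.mk H.hp
  have := H.nontrivial
  have h0 : CharP (Module.End F V) p := charP_of_injective_algebraMap (FaithfulSMul.algebraMap_injective F (Module.End F V)) p
  induction ha using Algebra.adjoin_induction with
  | mem x hx =>
    rw [Set.mem_singleton_iff] at hx
    subst hx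
    exact H.y_pow
  | algebraMap c =>
    rw [← map_pow]
    congr 1
    have h1 := FiniteField.pow_card_pow m c
    rw [← Nat.card_eq_fintype_card, H.hF, ← pow_mul] at h1
    exact h1
  | add x y hx' hy' hx hy =>
    rw [add_pow_char_pow_of_commute _ _ (comm_AY hx' hy'), hx, hy]
  | mul x y hx' hy' hx hy =>
    rw [Commute.mul_pow (comm_AY hx' hy'), hx, hy]

theorem Cfg.N_comm (H : Cfg F V p f m r y g) {a : Module.End F V} (ha : a ∈ AY y) (v : V) : NN g (a v) = a (NN g v) := by
  have h1 := comm_of_mem H.y_comm ha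
  exact congrArg (fun (X : Module.End F V) => X v) h1

theorem Cfg.inj (H : Cfg F V p f m r y g) {a : Module.End F V} (ha : a ∈ AY y) (ha0 : a ≠ 0) : LinearMap.ker a = ⊥ := by
  have := H.fd
  have hm := H.hm
  have hkery : ∀ v ∈ LinearMap.ker a, y v ∈ LinearMap.ker a := by
    intro v hv
    rw [LinearMap.mem_ker] at hv ⊢
    have h1 : (a * (y : V →ₗ[F] V)) v = ((y : V →ₗ[F] V) * a) v := by rw [comm_AY ha (y_mem y)]
    change a (y v) = y (a v) at h1
    rw [h1, hv, map_zero]
  have hkerN : ∀ v ∈ LinearMap.ker a, NN g v ∈ LinearMap.ker a := by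
    intro v hv
    rw [LinearMap.mem_ker] at hv ⊢
    rw [← H.N_comm ha, hv, map_zero]
  have hrany : ∀ v ∈ LinearMap.range a, y v ∈ LinearMap.range a := by
    rintro _ ⟨v, rfl⟩
    have h1 : (a * (y : V →ₗ[F] V)) v = ((y : V →ₗ[F] V) * a) v := by rw [comm_AY ha (y_mem y)]
    exact ⟨y v, h1⟩
  have hranN : ∀ v ∈ LinearMap.range a, NN g v ∈ LinearMap.range a := by
    rintro _ ⟨v, rfl⟩
    exact ⟨NN g v, (H.N_comm ha v).symm⟩
  have h1 := H.dvd hkery
  have h2 : finrank F (LinearMap.ker a) < finrank F V := by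
    refine Submodule.finrank_lt ?_
    rw [Ne, LinearMap.ker_eq_top]
    exact ha0
  rw [H.hV] at h2
  obtain ⟨k, hk⟩ := h1
  rw [hk] at h2
  have h7 : k < 2 := by
    by_contra hcon
    have : m * 2 ≤ m * k := Nat.mul_le_mul_left m (by omega)
    omega
  interval_cases k
  · rw [mul_zero] at hk
    exact Submodule.finrank_eq_zero.1 hk
  · exfalso
    rw [mul_one] at hk
    have h8 := H.eq_ker hkery hkerN hk
    have h9 : finrank F (LinearMap.range a) = m := by
      have := LinearMap.finrank_range_add_finrank_ker a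
      rw [H.hV, hk] at this
      omega
    have h10 := H.eq_ker hrany hranN h9
    have h11 : a * a = 0 := by
      ext v
      have : a v ∈ LinearMap.ker a := by
        rw [h8, ← h10]
        exact ⟨v, rfl⟩
      exact this
    have h12 := H.pow_eq ha
    have h13 : 2 ≤ p ^ (f * m) := by
      calc 2 ≤ p := H.hp.two_le
        _ = p ^ 1 := (pow_one p).symm
        _ ≤ p ^ (f * m) := Nat.pow_le_pow_right H.hp.pos (Nat.mul_pos H.hf hm)
    obtain ⟨j, hj⟩ := Nat.exists_eq_add_of_le h13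
    rw [hj, pow_add, pow_two, h11, zero_mul] at h12
    exact ha0 h12.symm

theorem Cfg.isField (H : Cfg F V p f m r y g) : IsField (AY y) := by
  have := H.nontrivial
  have hm := H.hm
  refine ⟨⟨0, 1, ?_⟩, ?_, ?_⟩
  · intro h
    have h1 := congrArg Subtype.val h
    exact zero_ne_one h1
  · intro a b
    exact Subtype.ext (comm_AY a.2 b.2)
  · intro a ha
    have ha' : (a : Module.End F V) ≠ 0 := fun h => ha (Subtype.ext h)
    have h13 : 2 ≤ p ^ (f * m) := by
      calc 2 ≤ p := H.hp.two_le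
        _ = p ^ 1 := (pow_one p).symm
        _ ≤ p ^ (f * m) := Nat.pow_le_pow_right H.hp.pos (Nat.mul_pos H.hf hm)
    obtain ⟨j, hj⟩ := Nat.exists_eq_add_of_le h13
    refine ⟨a ^ j, Subtype.ext ?_⟩
    have h12 := H.pow_eq a.2
    rw [hj, add_comm, pow_succ', pow_succ'] at h12
    have h14 : (a : Module.End F V) * ((a : Module.End F V) * (a : Module.End F V) ^ j - 1) = 0 := by
      rw [mul_sub, h12, mul_one, sub_self]
    ext v
    have h15 : ((a : Module.End F V) * (a : Module.End F V) ^ j - 1) v ∈ LinearMap.ker (a : Module.End F V) :=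
      congrArg (fun (X : Module.End F V) => X v) h14
    rw [H.inj a.2 ha', Submodule.mem_bot] at h15
    exact sub_eq_zero.1 h15

theorem Cfg.finrank_AY (H : Cfg F V p f m r y g) : finrank F (AY y) = m := by
  have := H.fd
  have := H.nontrivial
  have hm := H.hm
  have hne : (⊤ : Submodule F V) ≠ ⊥ := by
    intro h
    have h1 : finrank F (⊤ : Submodule F V) = finrank F V := finrank_top F V
    rw [h, finrank_bot, H.hV] at h1
    omega
  obtain ⟨v, -, hv0, hNv⟩ := exists_ker H.NN_pow (K := ⊤) (fun _ _ => trivial) hne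
  let ev : (AY y) →ₗ[F] V := (LinearMap.applyₗ v).comp (AY y).val.toLinearMap
  have hev : ∀ a : AY y, ev a = (a : Module.End F V) v := fun a => rfl
  have hinj : Function.Injective ev := by
    rw [injective_iff_map_eq_zero]
    intro a ha
    by_contra hcon
    have h1 := H.inj a.2 (fun h => hcon (Subtype.ext h))
    have h2 : v ∈ LinearMap.ker (a : Module.End F V) := ha
    rw [h1, Submodule.mem_bot] at h2
    exact hv0 h2
  have h1 : finrank F (LinearMap.range ev) = finrank F (AY y) := LinearMap.finrank_range_of_inj hinj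
  have h2 : m ∣ finrank F (LinearMap.range ev) := by
    refine H.dvd ?_
    rintro _ ⟨a, rfl⟩
    exact ⟨⟨y, y_mem y⟩ * a, rfl⟩
  have h3 : LinearMap.range ev ≤ LinearMap.ker (NN g) := by
    rintro _ ⟨a, rfl⟩
    rw [LinearMap.mem_ker, hev, H.N_comm a.2, hNv, map_zero]
  have h4 : 0 < finrank F (LinearMap.range ev) := by
    rw [h1]
    have : Nontrivial (AY y) := ⟨⟨0, 1, fun h => zero_ne_one (congrArg Subtype.val h)⟩⟩
    exact Module.finrank_pos
  have h5 := Submodule.finrank_mono h3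
  have h6 : finrank F (LinearMap.ker (NN g)) < finrank F V := by
    refine Submodule.finrank_lt ?_
    rw [Ne, LinearMap.ker_eq_top]
    exact H.NN_ne
  rw [H.hV] at h6
  rw [h1] at h2 h4 h5
  obtain ⟨k, hk⟩ := h2
  rw [hk] at h4 h5 ⊢
  have h7 : k < 2 := by
    by_contra hcon
    have : m * 2 ≤ m * k := Nat.mul_le_mul_left m (by omega)
    omega
  interval_cases k <;> omega

end field

end Cfsg.Agent.H376.Rg920
end

-- part: H376/Rg920/ExtC
section
/-!
# S3691, piece B (`StmtExt`) for helper920, III : the embedding in `GL₂(E)` (helper376)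
-/

set_option autoImplicit false

open Cfsg Matrix Module

namespace Cfsg.Agent.H376.Rg920

universe u v w

section abs

variable {F : Type u} {V : Type v} [Field F] [AddCommGroup V] [Module F V]

/-- the centraliser acts `E`-linearly -/
theorem centr_comm {y : V ≃ₗ[F] V} (z : Subgroup.centralizer ({y} : Set (V ≃ₗ[F] V))) {a : Module.End F V} (ha : a ∈ AY y)
    (v : V) : (z : V ≃ₗ[F] V) (a v) = a ((z : V ≃ₗ[F] V) v) := by
  have h1 : (((z : V ≃ₗ[F] V) : V →ₗ[F] V) : Module.End F V) * (y : V →ₗ[F] V) = (y : V →ₗ[F] V) * ((z : V ≃ₗ[F] V) : V →ₗ[F] V) := by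
    ext v
    have h2 := Subgroup.mem_centralizer_iff.1 z.2 y rfl
    exact (congrArg (fun (X : V ≃ₗ[F] V) => X v) h2).symm
  exact congrArg (fun (X : Module.End F V) => X v) (comm_of_mem h1 ha)

theorem embed [FiniteDimensional F V] {E : Type w} [Field E] [Algebra F E] {y : V ≃ₗ[F] V} (j : E →ₐ[F] Module.End F V)
    (hj : ∀ e, j e ∈ AY y) (hj' : ∃ e, j e = (y : V →ₗ[F] V)) {m : ℕ} (hm : 0 < m) (hE : finrank F E = m) (hV : finrank F V = 2 * m) :
    ∃ φ : Subgroup.centralizer ({y} : Set (V ≃ₗ[F] V)) →* GL (Fin 2) E, Function.Injective φ ∧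
      ∀ z : Subgroup.centralizer ({y} : Set (V ≃ₗ[F] V)), (z : V ≃ₗ[F] V) = y →
        ∃ c : E, (φ z : Matrix (Fin 2) (Fin 2) E) = Matrix.scalar (Fin 2) c := by
  let _ : Module E V := Module.compHom V (j : E →+* Module.End F V)
  have hsm : ∀ (e : E) (v : V), e • v = j e v := fun e v => rfl
  have : IsScalarTower F E V := ⟨fun a e v => by
    rw [hsm, hsm, map_smul]
    rfl⟩
  have : FiniteDimensional F E := FiniteDimensional.of_finrank_pos (by rw [hE]; exact hm)
  have : Module.Finite E V := Module.Finite.of_restrictScalars_finite F E V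
  have h2 : finrank E V = 2 := by
    have h3 := Module.finrank_mul_finrank F E V
    rw [hE, hV, mul_comm] at h3
    exact Nat.eq_of_mul_eq_mul_right hm h3
  let b : Basis (Fin 2) E V := Module.finBasisOfFinrankEq E V h2
  let ψ0 : Subgroup.centralizer ({y} : Set (V ≃ₗ[F] V)) →* Module.End E V :=
    { toFun := fun z =>
        { toFun := fun v => (z : V ≃ₗ[F] V) v
          map_add' := fun v w => map_add _ v w
          map_smul' := fun e v => centr_comm z (hj e) v }
      map_one' := rfl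
      map_mul' := fun z w => rfl }
  have hψ0 : ∀ z v, ψ0 z v = (z : V ≃ₗ[F] V) v := fun z v => rfl
  let T := LinearMap.toMatrixAlgEquiv b
  let φ := MonoidHom.toHomUnits ((T.toMulEquiv.toMonoidHom).comp ψ0)
  have hφ : ∀ z, ((φ z : (Matrix (Fin 2) (Fin 2) E)ˣ) : Matrix (Fin 2) (Fin 2) E) = T (ψ0 z) := fun z => rfl
  refine ⟨φ, ?_, ?_⟩
  · intro z w hzw
    have h3 : T (ψ0 z) = T (ψ0 w) := by rw [← hφ, ← hφ, hzw]
    have h4 := T.injective h3
    apply Subtype.ext
    ext v
    rw [← hψ0, ← hψ0, h4]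
  · intro z hz
    obtain ⟨e, he⟩ := hj'
    refine ⟨e, ?_⟩
    change T (ψ0 z) = _
    have h3 : ψ0 z = algebraMap E (Module.End E V) e := by
      ext v
      rw [hψ0, Module.algebraMap_end_apply, hsm, he, hz]
      rfl
    rw [h3, T.commutes]
    rfl

end abs

end Cfsg.Agent.H376.Rg920
end

-- part: H376/Rg920/ExtD
section
/-!
# S3691, piece B (`StmtExt`) for helper920, IV : the Galois part (helper376)
-/

set_option autoImplicit false

open Cfsg Matrix Module

namespace Cfsg.Agent.H376.Rg920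

universe u v w

section gal

variable {F : Type u} {V : Type v} [Field F] [AddCommGroup V] [Module F V]

/-- conjugation by `g` -/
def conj (g : V ≃ₗ[F] V) : Module.End F V →ₐ[F] Module.End F V := (g.conjAlgEquiv F).toAlgHom

theorem conj_apply (g : V ≃ₗ[F] V) (a : Module.End F V) (v : V) : conj g a v = g (a (g.symm v)) := rfl

theorem conj_coe (g y : V ≃ₗ[F] V) : conj g (y : V →ₗ[F] V) = ((g * y * g⁻¹ : V ≃ₗ[F] V) : V →ₗ[F] V) := rfl

theorem conj_mem {y g : V ≃ₗ[F] V} (hfin : IsOfFinOrder y) (hg : g * y * g⁻¹ ∈ Subgroup.zpowers y) {a : Module.End F V}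
    (ha : a ∈ AY y) : conj g a ∈ AY y := by
  have h2 : (AY y) ≤ (AY y).comap (conj g) := by
    refine Algebra.adjoin_le ?_
    rintro _ rfl
    rw [SetLike.mem_coe, Subalgebra.mem_comap, conj_coe]
    rw [← hfin.mem_powers_iff_mem_zpowers] at hg
    obtain ⟨k, hk⟩ := hg
    change y ^ k = _ at hk
    rw [← hk, coe_pow]
    exact (AY y).pow_mem (y_mem y) k
  exact h2 ha

/-- the action of `Γ` on `F[y]` -/
def theta {y : V ≃ₗ[F] V} (hfin : IsOfFinOrder y) (Γ : Subgroup (V ≃ₗ[F] V)) (hΓ : ∀ g ∈ Γ, g * y * g⁻¹ ∈ Subgroup.zpowers y) :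
    Γ →* ((AY y) →ₐ[F] (AY y)) where
  toFun := fun g => ((conj (g : V ≃ₗ[F] V)).comp (AY y).val).codRestrict (AY y) fun a => conj_mem hfin (hΓ g g.2) a.2
  map_one' := rfl
  map_mul' := fun _ _ => rfl

theorem index_dvd [Finite F] [FiniteDimensional F V] {E : Type w} [Field E] [Algebra F E] {y : V ≃ₗ[F] V} (e : E ≃ₐ[F] (AY y))
    {m : ℕ} (hE : finrank F E = m) (hfin : IsOfFinOrder y) (Γ : Subgroup (V ≃ₗ[F] V))
    (hΓ : ∀ g ∈ Γ, g * y * g⁻¹ ∈ Subgroup.zpowers y) :
    Nat.card Γ ∣ Nat.card (Γ ⊓ Subgroup.centralizer ({y} : Set (V ≃ₗ[F] V)) : Subgroup (V ≃ₗ[F] V)) * m := by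
  classical
  have : FiniteDimensional F E := by
    exact Module.Finite.equiv e.symm.toLinearEquiv
  have : Finite E := Module.finite_of_finite F
  let Θ : Γ →* ((AY y) ≃ₐ[F] (AY y)) := ((AlgEquiv.algHomUnitsEquiv F (AY y)).toMonoidHom).comp (MonoidHom.toHomUnits (theta hfin Γ hΓ))
  have hΘ : ∀ g a, ((Θ g a : AY y) : Module.End F V) = conj (g : V ≃ₗ[F] V) a := fun g a => rfl
  have hker : Θ.ker = (Subgroup.centralizer ({y} : Set (V ≃ₗ[F] V))).subgroupOf Γ := by
    ext g
    rw [MonoidHom.mem_ker, Subgroup.mem_subgroupOf, Subgroup.mem_centralizer_iff]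
    constructor
    · rintro h _ rfl
      have h1 := hΘ g ⟨_, y_mem _⟩
      rw [h] at h1
      change ((_ : V ≃ₗ[F] V) : V →ₗ[F] V) = _ at h1
      rw [conj_coe] at h1
      have h2 := LinearEquiv.toLinearMap_injective h1
      rw [eq_mul_inv_iff_mul_eq] at h2
      exact h2
    · intro h
      have h1 := h y rfl
      ext a : 1
      apply Subtype.ext
      rw [hΘ]
      ext v
      rw [conj_apply]
      have h2 : (((g : V ≃ₗ[F] V) : V →ₗ[F] V) : Module.End F V) * (y : V →ₗ[F] V) = (y : V →ₗ[F] V) * ((g : V ≃ₗ[F] V) : V →ₗ[F] V) := by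
        ext v
        exact (congrArg (fun (X : V ≃ₗ[F] V) => X v) h1).symm
      have h3 := congrArg (fun (X : Module.End F V) => X ((g : V ≃ₗ[F] V).symm v)) (comm_of_mem h2 a.2)
      change (g : V ≃ₗ[F] V) ((a : Module.End F V) ((g : V ≃ₗ[F] V).symm v)) =
        (a : Module.End F V) ((g : V ≃ₗ[F] V) ((g : V ≃ₗ[F] V).symm v)) at h3
      rw [h3, LinearEquiv.apply_symm_apply]
      rfl
  have h1 : Nat.card Θ.ker = Nat.card (Γ ⊓ Subgroup.centralizer ({y} : Set (V ≃ₗ[F] V)) : Subgroup (V ≃ₗ[F] V)) := by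
    rw [hker, ← Subgroup.inf_subgroupOf_left]
    exact Nat.card_congr (Subgroup.subgroupOfEquivOfLe inf_le_left).toEquiv
  have h2 : Nat.card ((AY y) ≃ₐ[F] (AY y)) = m := by
    rw [← Nat.card_congr (AlgEquiv.autCongr e).toEquiv, ← hE]
    exact IsGalois.card_aut_eq_finrank F E
  have h3 : Nat.card Θ.range ∣ m := by
    rw [← h2]
    exact Subgroup.card_subgroup_dvd_card _
  have h4 : Nat.card Γ = Nat.card Θ.ker * Nat.card Θ.range := by
    rw [← Subgroup.card_mul_index Θ.ker, Subgroup.index_ker]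
  rw [h4, h1]
  exact Nat.mul_dvd_mul_left _ h3

/-- form and polynomial -/
theorem form_aeval {y : V ≃ₗ[F] V} {B : LinearMap.BilinForm F V} (hB : ∀ u w, B (y u) (y w) = B u w) (P : Polynomial F) (u w : V) :
    B (Polynomial.aeval (y : Module.End F V) P u) w = B u (Polynomial.aeval ((y⁻¹ : V ≃ₗ[F] V) : Module.End F V) P w) := by
  have h0 : ∀ u w, B (y u) w = B u ((y⁻¹ : V ≃ₗ[F] V) w) := by
    intro u w
    rw [← hB u]
    have : y ((y⁻¹ : V ≃ₗ[F] V) w) = w := y.apply_symm_apply w
    rw [this]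
  induction P using Polynomial.induction_on generalizing u w with
  | C a =>
    rw [Polynomial.aeval_C, Polynomial.aeval_C, Module.algebraMap_end_apply, Module.algebraMap_end_apply, map_smul, map_smul]
    rfl
  | add P Q hP hQ =>
    rw [map_add, map_add, LinearMap.add_apply, LinearMap.add_apply, map_add, map_add, LinearMap.add_apply, hP, hQ]
  | monomial n a h =>
    rw [pow_succ, ← mul_assoc]
    generalize Polynomial.C a * Polynomial.X ^ n = Q at h ⊢
    rw [mul_comm Q, map_mul, map_mul, Polynomial.aeval_X, Polynomial.aeval_X]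
    change B (y (Polynomial.aeval (y : Module.End F V) Q u)) w = _
    rw [h0, h]
    have h1 : (Polynomial.aeval ((y⁻¹ : V ≃ₗ[F] V) : Module.End F V) Q) *
      ((y⁻¹ : V ≃ₗ[F] V) : Module.End F V) = ((y⁻¹ : V ≃ₗ[F] V) : Module.End F V) *
      (Polynomial.aeval ((y⁻¹ : V ≃ₗ[F] V) : Module.End F V) Q) := by
      have h2 : Polynomial.aeval ((y⁻¹ : V ≃ₗ[F] V) : Module.End F V) (Polynomial.X : Polynomial F) = ((y⁻¹ : V ≃ₗ[F] V) : Module.End F V) :=
        Polynomial.aeval_X _
      have h3 : Polynomial.aeval ((y⁻¹ : V ≃ₗ[F] V) : Module.End F V) (Q * Polynomial.X) =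
        Polynomial.aeval ((y⁻¹ : V ≃ₗ[F] V) : Module.End F V) (Polynomial.X * Q) := by rw [mul_comm]
      rw [map_mul, map_mul, h2] at h3
      exact h3
    exact congrArg (B u) (congrArg (fun (X : Module.End F V) => X w) h1)

theorem even_of_form [Finite F] [FiniteDimensional F V] {E : Type w} [Field E] [Algebra F E] {y : V ≃ₗ[F] V} (j : E →ₐ[F] Module.End F V)
    (hj : ∀ a, a ∈ AY y → ∃ e, j e = a) (hj2 : ∀ e, j e ∈ AY y)
    {m r : ℕ} (hE : finrank F E = m) (hm : 0 < m) (hr : r.Prime) (hr2 : r ≠ 2) (hy : orderOf y = r)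
    {B : LinearMap.BilinForm F V} (hBn : B.Nondegenerate) (hB : ∀ u w, B (y u) (y w) = B u w) : Even m := by
  classical
  have : FiniteDimensional F E := FiniteDimensional.of_finrank_pos (by rw [hE]; exact hm)
  have : Finite E := Module.finite_of_finite F
  have hfin : IsOfFinOrder y := orderOf_pos_iff.1 (by rw [hy]; exact hr.pos)
  have hV : Nontrivial V := by
    by_contra hcon
    rw [not_nontrivial_iff_subsingleton] at hcon
    have h1 : y = 1 := by
      ext v
      exact Subsingleton.elim _ _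
    rw [h1, orderOf_one] at hy
    exact hr.one_lt.ne hy
  have hinj : Function.Injective j := j.toRingHom.injective
  have hyi : ((y⁻¹ : V ≃ₗ[F] V) : Module.End F V) ∈ AY y := by
    have h1 : y⁻¹ ∈ Subgroup.zpowers y := Subgroup.inv_mem _ (Subgroup.mem_zpowers y)
    rw [← hfin.mem_powers_iff_mem_zpowers] at h1
    obtain ⟨k, hk⟩ := h1
    change y ^ k = _ at hk
    rw [← hk, coe_pow]
    exact (AY y).pow_mem (y_mem y) k
  obtain ⟨e, he⟩ := hj _ (y_mem y)
  obtain ⟨e', he'⟩ := hj _ hyi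
  have hee : e * e' = 1 := by
    apply hinj
    rw [map_mul, he, he', map_one]
    ext v
    exact y.apply_symm_apply v
  -- `y⁻¹` is a root of the minimal polynomial of `y`
  have h1 : Polynomial.aeval e' (minpoly F e) = 0 := by
    apply hinj
    rw [← Polynomial.aeval_algHom_apply, he', map_zero]
    have h2 : Polynomial.aeval (y : Module.End F V) (minpoly F e) = 0 := by
      rw [← he, Polynomial.aeval_algHom_apply, minpoly.aeval, map_zero]
    ext w
    rw [LinearMap.zero_apply]
    refine hBn.2 _ fun u => ?_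
    rw [← form_aeval hB, h2, LinearMap.zero_apply, map_zero, LinearMap.zero_apply]
  have h3 : IsConjRoot F e e' := (isConjRoot_iff_aeval_eq_zero (Algebra.IsIntegral.isIntegral e)).2 h1
  obtain ⟨τ, hτ⟩ := (isConjRoot_iff_exists_algEquiv.1 h3)
  have he0 : e ≠ 0 := left_ne_zero_of_mul_eq_one hee
  have hee' : e' = e⁻¹ := eq_inv_of_mul_eq_one_right hee
  have hτ2 : τ e = e' := by
    have h4 : τ e * τ e' = 1 := by rw [← map_mul, hee, map_one]
    rw [hτ] at h4
    rw [hee']
    exact eq_inv_of_mul_eq_one_left h4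
  have htop : ∀ x : E, x ∈ Algebra.adjoin F {e} := by
    intro x
    have h4 : j x ∈ (Algebra.adjoin F {e}).map j := by
      rw [AlgHom.map_adjoin, Set.image_singleton, he]
      exact hj2 x
    obtain ⟨x', hx', hxx⟩ := h4
    have h5 : x' = x := hinj hxx
    rw [← h5]
    exact hx'
  have hsq : τ ^ 2 = 1 := by
    have h4 : Algebra.adjoin F {e} ≤ AlgHom.equalizer ((τ * τ : E ≃ₐ[F] E) : E →ₐ[F] E) (AlgHom.id F E) := by
      refine Algebra.adjoin_le ?_
      rintro _ rfl
      rw [SetLike.mem_coe, AlgHom.mem_equalizer]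
      change τ (τ _) = _
      rw [hτ2, hτ]
      rfl
    ext x
    rw [pow_two]
    exact h4 (htop x)
  have hne : τ ≠ 1 := by
    intro h
    rw [h] at hτ2
    change e = e' at hτ2
    have h4 : y ^ 2 = 1 := by
      have h5 : (y : Module.End F V) = ((y⁻¹ : V ≃ₗ[F] V) : Module.End F V) := by rw [← he, ← he', ← hτ2]
      have h6 : y = y⁻¹ := LinearEquiv.toLinearMap_injective h5
      rw [pow_two]
      nth_rewrite 2 [h6]
      exact mul_inv_cancel y
    have h5 := orderOf_dvd_of_pow_eq_one h4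
    rw [hy] at h5
    exact hr2 ((Nat.prime_dvd_prime_iff_eq hr Nat.prime_two).1 h5)
  have h6 : orderOf τ = 2 := orderOf_eq_prime hsq hne
  have h7 : orderOf τ ∣ Nat.card (E ≃ₐ[F] E) := orderOf_dvd_natCard τ
  have h8 : Nat.card (E ≃ₐ[F] E) = finrank F E := IsGalois.card_aut_eq_finrank F E
  rw [h6, h8, hE] at h7
  exact even_iff_two_dvd.2 h7

end gal

end Cfsg.Agent.H376.Rg920
end

-- part: H376/Rg920/Ext
section
/-!
# S3691, piece B (`StmtExt`) for helper920, V : assembly (helper376)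
-/

set_option autoImplicit false

open Cfsg Matrix Module

namespace Cfsg.Agent.H376.Rg920

universe u v w

theorem ext : H920.Rg.StmtExt.{u, v} := by
  intro F V _ _ _ _ _ p f m r hp hF hr ho hf hm hV y g hy hfix hc hg
  have H : Cfg F V p f m r y g := ⟨inferInstance, inferInstance, hp, hF, hr, ho, hf, hm, hV, hy, hfix, hc, hg⟩
  let _ : Field (AY y) := H.isField.toField
  have hfin : IsOfFinOrder y := orderOf_pos_iff.1 (by rw [hy]; exact hr.pos)
  have hE := H.finrank_AY
  have : FiniteDimensional F (AY y) := FiniteDimensional.of_finrank_pos (by rw [hE]; exact hm)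
  have : Finite (AY y) := Module.finite_of_finite F
  let _ : Fintype (AY y) := Fintype.ofFinite _
  refine ⟨?_, ?_, ?_⟩
  · obtain ⟨φ, h1, h2⟩ := embed (E := AY y) (AY y).val (fun e => e.2) ⟨⟨_, y_mem y⟩, rfl⟩ hm hE hV
    refine ⟨AY y, inferInstance, inferInstance, φ, ?_, h1, ?_, h2⟩
    · have := H.charP
      exact charP_of_injective_algebraMap (FaithfulSMul.algebraMap_injective F (AY y)) p
    · rw [Module.natCard_eq_pow_finrank (K := F), hF, hE, ← pow_mul]
  · intro Γ hΓ
    exact index_dvd (E := AY y) AlgEquiv.refl hE hfin Γ hΓ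
  · intro B hBn hB hr2
    exact even_of_form (E := AY y) (AY y).val (fun a ha => ⟨⟨a, ha⟩, rfl⟩) (fun e => e.2) hE hm hr hr2 hy hBn hB

end Cfsg.Agent.H376.Rg920
end

-- part: H898/Rg920/Dick
section
/-!
# S3691, residual case D+1 beta, piece A (helper898)

Finite subgroups of `GL₂(E)` of order divisible by `p = char E` with `O_p = 1`, from Dickson's list (S0799).
-/

set_option autoImplicit false

open Cfsg Matrix Subgroup

namespace Cfsg.Agent.H898.Rg920

universe u v

theorem p_dvd_12 {p : ℕ} (hp : p.Prime) (h : p ∣ 12) : p = 2 ∨ p = 3 := by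
  have h1 := Nat.le_of_dvd (by norm_num) h
  have h2 := hp.two_le
  interval_cases p <;> revert hp h <;> decide

theorem p_dvd_24 {p : ℕ} (hp : p.Prime) (h : p ∣ 24) : p = 2 ∨ p = 3 := by
  have h1 := Nat.le_of_dvd (by norm_num) h
  have h2 := hp.two_le
  interval_cases p <;> revert hp h <;> decide

theorem p_dvd_60 {p : ℕ} (hp : p.Prime) (h : p ∣ 60) : p = 2 ∨ p = 3 ∨ p = 5 := by
  have h1 : p ∣ 12 ∨ p ∣ 5 := hp.dvd_mul.1 (show p ∣ 12 * 5 from h)
  rcases h1 with h1 | h1
  · rcases p_dvd_12 hp h1 with h2 | h2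
    · exact Or.inl h2
    · exact Or.inr (Or.inl h2)
  · exact Or.inr (Or.inr ((Nat.prime_dvd_prime_iff_eq hp (by norm_num)).1 h1))

theorem fac_le_one {p n : ℕ} (hp : p.Prime) (hn : n ≠ 0) (h : ¬ p ^ 2 ∣ n) : n.factorization p ≤ 1 := by
  by_contra hcon
  push Not at hcon
  exact h ((hp.pow_dvd_iff_le_factorization hn).2 hcon)

theorem fac_60 : (60 : ℕ).factorization 2 = 2 := by
  apply le_antisymm
  · by_contra hcon
    push Not at hcon
    have := (Nat.prime_two.pow_dvd_iff_le_factorization (n := 60) (by norm_num)).2 (show 3 ≤ _ from hcon)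
    omega
  · exact (Nat.prime_two.pow_dvd_iff_le_factorization (n := 60) (by norm_num)).1 (by norm_num)

theorem pCore_of_equiv {X Y : Type*} [Group X] [Group Y] (e : X ≃* Y) {p : ℕ} (h : pCore p X = ⊥) : pCore p Y = ⊥ := by
  rw [← Lib.Cores.map_equiv_pCore e p, h, Subgroup.map_bot]

/-- the numbers of a subgroup of `PSL₂` with `O_p = 1` -/
theorem numH {E : Type v} [Field E] [Fintype E] {p : ℕ} [hp : Fact p.Prime] [CharP E p]
    (H : Subgroup (ProjectiveSpecialLinearGroup (Fin 2) E)) (hH : p ∣ Nat.card H) (hO : pCore p H = ⊥) :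
    (p ≠ 2 → 2 ∣ Nat.card H) ∧ (p = 2 → (Nat.card H).factorization 2 = 1 ∨ 3 ∣ Nat.card H) ∧
      ((Nat.card H).factorization p ≤ 1 ∨ (p ^ (Nat.card H).factorization p) ^ 2 - 1 ∣ 2 * Nat.card H) := by
  classical
  obtain ⟨n, _, hq⟩ := FiniteField.card E p
  have hpq : p ∣ Fintype.card E := by rw [hq]; exact dvd_pow_self p n.ne_zero
  have hq1 : 1 < Fintype.card E := Fintype.one_lt_card
  rcases Cfsg.Agent.S0799.result (F := E) rfl p H with h | h | h | h | h | h
  · obtain ⟨k, hk, h⟩ := h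
    -- `p` does not divide `k`
    have hpk : ¬ p ∣ k := by
      intro hpk
      have hg : Nat.gcd 2 (Fintype.card E - 1) ∣ Fintype.card E - 1 := Nat.gcd_dvd_right _ _
      have hg' : Nat.gcd 2 (Fintype.card E - 1) ∣ Fintype.card E + 1 := by
        have h1 : Fintype.card E + 1 = (Fintype.card E - 1) + 2 := by omega
        rw [h1]
        exact dvd_add hg (Nat.gcd_dvd_left _ _)
      rcases hk with hk | hk
      · have h1 : p ∣ Fintype.card E + 1 := (hpk.trans hk).trans (Nat.div_dvd_of_dvd hg')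
        exact hp.out.one_lt.ne' (Nat.dvd_one.1 ((Nat.dvd_add_right hpq).1 h1))
      · have h1 : p ∣ Fintype.card E - 1 := (hpk.trans hk).trans (Nat.div_dvd_of_dvd hg)
        exact hp.out.one_lt.ne' (Nat.dvd_one.1 ((Nat.dvd_sub_iff_right (by omega) hpq).1 h1))
    rcases h with ⟨_, h⟩ | ⟨⟨e⟩⟩
    · exact absurd (h ▸ hH) hpk
    · have hc : Nat.card H = 2 * k := by rw [Nat.card_congr e.toEquiv, DihedralGroup.nat_card]
      rw [hc] at hH ⊢
      have hp2 : p = 2 := by
        rcases hp.out.dvd_mul.1 hH with h1 | h1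
        · exact (Nat.prime_dvd_prime_iff_eq hp.out Nat.prime_two).1 h1
        · exact absurd h1 hpk
      have hk0 : k ≠ 0 := by
        rintro rfl
        exact hpk (dvd_zero p)
      have hf : (2 * k).factorization p = 1 := by
        rw [Nat.factorization_mul (by norm_num) hk0, Finsupp.add_apply, Nat.factorization_eq_zero_of_not_dvd hpk, add_zero,
          hp2, Nat.prime_two.factorization_self]
      exact ⟨fun h => absurd hp2 h, fun _ => Or.inl (by rw [← hf, hp2]), Or.inl (by rw [hf])⟩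
  · obtain ⟨P, K, hK, ⟨e⟩⟩ := h
    have h1 := pCore_of_equiv e hO
    have h2 : p ∣ Nat.card K := by rw [← Nat.card_congr e.toEquiv]; exact hH
    exact absurd h1 (pCore_ne_bot_of_normalizer P hK h2)
  · obtain ⟨e⟩ := h
    have h1 := pCore_of_equiv e hO
    have hc : Nat.card H = 12 := by
      rw [Nat.card_congr e.toEquiv, nat_card_alternatingGroup]
      simp [Nat.factorial]
    rw [hc] at hH ⊢
    rcases p_dvd_12 hp.out hH with h2 | h2
    · rw [h2] at h1
      exact absurd h1 pCore_A4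
    · refine ⟨fun _ => by norm_num, fun h => by omega, Or.inl (fac_le_one hp.out (by norm_num) ?_)⟩
      rw [h2]
      norm_num
  · obtain ⟨e⟩ := h
    have h1 := pCore_of_equiv e hO
    have hc : Nat.card H = 24 := by
      rw [Nat.card_congr e.toEquiv, Nat.card_perm]
      simp [Nat.factorial]
    rw [hc] at hH ⊢
    rcases p_dvd_24 hp.out hH with h2 | h2
    · rw [h2] at h1
      exact absurd h1 pCore_S4
    · refine ⟨fun _ => by norm_num, fun h => by omega, Or.inl (fac_le_one hp.out (by norm_num) ?_)⟩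
      rw [h2]
      norm_num
  · obtain ⟨e⟩ := h
    have hc : Nat.card H = 60 := by
      rw [Nat.card_congr e.toEquiv, nat_card_alternatingGroup]
      simp [Nat.factorial]
    rw [hc] at hH ⊢
    rcases p_dvd_60 hp.out hH with h2 | h2 | h2
    · refine ⟨fun _ => by norm_num, fun _ => Or.inr (by norm_num), Or.inr ?_⟩
      rw [h2, fac_60]
      norm_num
    · refine ⟨fun _ => by norm_num, fun _ => Or.inr (by norm_num), Or.inl (fac_le_one hp.out (by norm_num) ?_)⟩
      rw [h2]
      norm_num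
    · refine ⟨fun _ => by norm_num, fun _ => Or.inr (by norm_num), Or.inl (fac_le_one hp.out (by norm_num) ?_)⟩
      rw [h2]
      norm_num
  · obtain ⟨K, _, _, m, hm, h⟩ := h
    have hK1 : 1 < Fintype.card K := Fintype.one_lt_card
    have hm0 : m ≠ 0 := by
      rintro rfl
      rw [pow_zero] at hm
      omega
    obtain ⟨k, _, hk⟩ := (Nat.dvd_prime_pow hp.out).1 (show Fintype.card K ∣ p ^ (n : ℕ) by
      rw [← hq, ← hm]; exact dvd_pow_self _ hm0)
    have hk0 : 0 < k := by
      rcases Nat.eq_zero_or_pos k with h0 | h0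
      · rw [h0, pow_zero] at hk
        omega
      · exact h0
    have key : ∃ g, g ∣ 2 ∧ (p = 2 → g = 1) ∧ Nat.card H * g = p ^ k * ((p ^ k) ^ 2 - 1) := by
      rcases h with ⟨⟨e⟩⟩ | ⟨⟨e⟩⟩
      · refine ⟨Nat.gcd 2 (Fintype.card K - 1), Nat.gcd_dvd_left _ _, ?_, ?_⟩
        · intro h2
          rw [hk, h2]
          have h3 : Odd (2 ^ k - 1) := by
            have : Even (2 ^ k) := (even_two.pow_of_ne_zero hk0.ne')
            exact Nat.Even.sub_odd (Nat.one_le_two_pow) this odd_one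
          exact Nat.coprime_iff_gcd_eq_one.1 (Nat.coprime_two_left.2 h3)
        · rw [Nat.card_congr e.toEquiv, ClassicalGeometry.PSL2Basic.card_PSL2_gcd, hk]
      · exact ⟨1, one_dvd _, fun _ => rfl, by
          rw [Nat.card_congr e.toEquiv, ClassicalGeometry.PSL2Basic.card_PGL2, hk, mul_one]⟩
    obtain ⟨g, hg1, hg2, hg3⟩ := key
    obtain ⟨a1, a2, a3, a4⟩ := num_lie hp.out hk0 hg3 hg1 hg2
    exact ⟨a1, fun h => Or.inr (a2 h), Or.inr (by rw [a3]; exact a4)⟩

theorem dick : Cfsg.Agent.H920.Rg.StmtDick.{u, v} := by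
  classical
  intro E _ _ p hp _ C _ _ φ hφ hpC hO
  set C0 : Subgroup C := (GeneralLinearGroup.det.comp φ).ker with hC0
  have hdet : ∀ c ∈ C0, ((φ c : GL (Fin 2) E) : Matrix (Fin 2) (Fin 2) E).det = 1 := by
    intro c hc
    have h1 : GeneralLinearGroup.det (φ c) = 1 := hc
    have h2 := congrArg (fun x : Eˣ => (x : E)) h1
    exact h2
  let ψ : C0 →* SpecialLinearGroup (Fin 2) E :=
    { toFun := fun c => ⟨(φ c : Matrix (Fin 2) (Fin 2) E), hdet c c.2⟩
      map_one' := Subtype.ext (by simp)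
      map_mul' := fun a b => Subtype.ext (by
        change ((φ ((a : C) * (b : C)) : GL (Fin 2) E) : Matrix (Fin 2) (Fin 2) E) = (φ a : Matrix (Fin 2) (Fin 2) E) * φ b
        rw [map_mul]
        rfl) }
  have hψ : Function.Injective ψ := by
    intro a b hab
    have h1 : (φ a : Matrix (Fin 2) (Fin 2) E) = φ b := congrArg (fun x : SpecialLinearGroup (Fin 2) E => x.1) hab
    exact Subtype.ext (hφ (Units.ext h1))
  -- the index
  obtain ⟨n, _, hq⟩ := FiniteField.card E p
  have hidx : ¬ p ∣ C0.index := by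
    intro h
    have h1 : C0.index ∣ Nat.card Eˣ := by
      rw [hC0, Subgroup.index_ker]
      exact Subgroup.card_subgroup_dvd_card _
    rw [Nat.card_units, Nat.card_eq_fintype_card] at h1
    have h2 : p ∣ Fintype.card E - 1 := h.trans h1
    have hpq : p ∣ Fintype.card E := by rw [hq]; exact dvd_pow_self p n.ne_zero
    have hq1 : 1 < Fintype.card E := Fintype.one_lt_card
    exact hp.out.one_lt.ne' (Nat.dvd_one.1 ((Nat.dvd_sub_iff_right (by omega) hpq).1 h2))
  have hcC : Nat.card C = Nat.card C0 * C0.index := (Subgroup.card_mul_index C0).symm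
  have hfC : (Nat.card C).factorization p = (Nat.card C0).factorization p := by
    rw [hcC, Nat.factorization_mul Nat.card_pos.ne' (Subgroup.index_ne_zero_of_finite), Finsupp.add_apply,
      Nat.factorization_eq_zero_of_not_dvd hidx, add_zero]
  have hpC0 : p ∣ Nat.card C0 := by
    rw [hcC] at hpC
    exact (hp.out.dvd_mul.1 hpC).resolve_right hidx
  have hO0 : pCore p C0 = ⊥ := by
    have h1 := Lib.Cores.map_subtype_pCore p (N := C0) (by rw [hC0]; infer_instance)
    rw [hO, inf_bot_eq] at h1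
    rwa [(pCore p C0).map_eq_bot_iff_of_injective C0.subtype_injective] at h1
  -- the image in `PSL₂`
  let Ψ : C0 →* ProjectiveSpecialLinearGroup (Fin 2) E := (QuotientGroup.mk' _).comp ψ
  have hkerm : ∀ c, c ∈ Ψ.ker ↔ ψ c ∈ center (SpecialLinearGroup (Fin 2) E) := by
    intro c
    rw [MonoidHom.mem_ker]
    exact QuotientGroup.eq_one_iff _
  have hkc : Ψ.ker ≤ center C0 := by
    intro c hc
    rw [hkerm, mem_center_iff] at hc
    rw [mem_center_iff]
    intro x
    apply hψ
    rw [map_mul, map_mul]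
    exact hc _
  have hker2 : Nat.card Ψ.ker ∣ 2 ∧ (p = 2 → Nat.card Ψ.ker = 1) := by
    have h1 : Nat.card Ψ.ker ∣ Nat.card (center (SpecialLinearGroup (Fin 2) E)) := by
      refine Subgroup.card_dvd_of_injective
        ((ψ.comp Ψ.ker.subtype).codRestrict (center _) fun c => (hkerm c).1 c.2) ?_
      intro a b hab
      have h2 : ψ a = ψ b := congrArg Subtype.val hab
      exact Subtype.ext (hψ h2)
    by_cases h2 : (2 : E) = 0
    · rw [ClassicalGeometry.PSL2Basic.card_center_SL2_even h2] at h1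
      exact ⟨h1.trans (one_dvd _), fun _ => Nat.dvd_one.1 h1⟩
    · rw [ClassicalGeometry.PSL2Basic.card_center_SL2_odd h2] at h1
      refine ⟨h1, fun hp2 => absurd ?_ h2⟩
      have h3 := CharP.cast_eq_zero E p
      rw [hp2] at h3
      exact_mod_cast h3
  have hpk : ¬ p ∣ Nat.card Ψ.ker := by
    intro h
    by_cases h2 : p = 2
    · rw [hker2.2 h2] at h
      exact hp.out.one_lt.ne' (Nat.dvd_one.1 h)
    · exact h2 ((Nat.prime_dvd_prime_iff_eq hp.out Nat.prime_two).1 (h.trans hker2.1))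
  have hcard : Nat.card C0 = Nat.card Ψ.range * Nat.card Ψ.ker := by
    rw [← Subgroup.index_ker, mul_comm, Subgroup.card_mul_index]
  have hfH : (Nat.card C0).factorization p = (Nat.card Ψ.range).factorization p := by
    rw [hcard, Nat.factorization_mul Nat.card_pos.ne' Nat.card_pos.ne', Finsupp.add_apply,
      Nat.factorization_eq_zero_of_not_dvd hpk, add_zero]
  have hpH : p ∣ Nat.card Ψ.range := by
    rw [hcard] at hpC0
    exact (hp.out.dvd_mul.1 hpC0).resolve_right hpk
  have hOH : pCore p Ψ.range = ⊥ := by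
    refine pCore_eq_bot_of_surj Ψ.rangeRestrict Ψ.rangeRestrict_surjective ?_ hO0
    rw [MonoidHom.ker_rangeRestrict]
    exact hkc
  obtain ⟨n1, n2, n3⟩ := numH Ψ.range hpH hOH
  obtain ⟨t, ht⟩ := exists_prime_orderOf_dvd_card' p hpC0
  have htp : ψ t ^ p = 1 := by rw [← map_pow, ← ht, pow_orderOf_eq_one, map_one]
  have ht1 : ψ t ≠ 1 := by
    intro h
    rw [← map_one ψ] at h
    rw [hψ h, orderOf_one] at ht
    exact hp.out.ne_one ht.symm
  refine ⟨C0, hdet, ?_, ?_, ?_⟩
  · intro hp2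
    have h2 : (2 : E) ≠ 0 := by
      intro h
      have h3 := (CharP.cast_eq_zero_iff E p 2).1 (by exact_mod_cast h)
      exact hp2 ((Nat.prime_dvd_prime_iff_eq hp.out Nat.prime_two).1 h3)
    have : Fact (Nat.Prime 2) := ⟨Nat.prime_two⟩
    obtain ⟨⟨_, s, rfl⟩, hx⟩ := exists_prime_orderOf_dvd_card' 2 (n1 hp2)
    have hs1 : Ψ s ≠ 1 := by
      intro h
      have h3 : (⟨Ψ s, s, rfl⟩ : Ψ.range) = 1 := Subtype.ext h
      rw [h3, orderOf_one] at hx
      omega
    have hs2 : Ψ (s ^ 2) = 1 := by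
      rw [map_pow]
      have h3 := pow_orderOf_eq_one (⟨Ψ s, s, rfl⟩ : Ψ.range)
      rw [hx] at h3
      exact congrArg Subtype.val h3
    have hs3 : ψ s ^ 2 = 1 ∨ ψ s ^ 2 = -1 := by
      rw [← map_pow, ← ClassicalGeometry.PSL2Basic.mem_center_SL2_iff, ← hkerm]
      exact hs2
    have hs4 : ψ s ∉ center (SpecialLinearGroup (Fin 2) E) := by
      rw [← hkerm]
      exact hs1
    have hs5 : ψ s ^ 2 = -1 := by
      refine hs3.resolve_left fun h => hs4 ?_
      rw [ClassicalGeometry.PSL2Basic.mem_center_SL2_iff]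
      exact sq_one h2 h
    refine ⟨s, s.2, ?_, t, t.2, ?_⟩
    · have h4 : orderOf (ψ s) = 4 := by
        have h5 : ψ s ^ (2 ^ 2) = 1 := by
          rw [show (2 : ℕ) ^ 2 = 2 * 2 by norm_num, pow_mul, hs5]
          simp
        have h6 : ¬ ψ s ^ (2 ^ 1) = 1 := by
          rw [pow_one, hs5]
          exact ClassicalGeometry.PSL2Basic.neg_one_ne_one_SL2 h2
        exact orderOf_eq_prime_pow h6 h5
      rw [Subgroup.orderOf_coe, ← orderOf_injective ψ hψ, h4]
    · intro h
      have h3 : t * s = s * t := Subtype.ext h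
      have h4 := congrArg ψ h3
      rw [map_mul, map_mul] at h4
      exact not_comm_odd h2 hs5 htp ht1 h4
  · intro hp2
    subst hp2
    rcases n2 rfl with h | h
    · left
      rw [hfC, hfH, h]
    · right
      have : Fact (Nat.Prime 3) := ⟨Nat.prime_three⟩
      have h3 : 3 ∣ Nat.card C0 := by rw [hcard]; exact h.mul_right _
      obtain ⟨s, hs⟩ := exists_prime_orderOf_dvd_card' 3 h3
      refine ⟨s, s.2, by rw [Subgroup.orderOf_coe, hs], t, t.2, ?_⟩
      intro h
      have h3 : t * s = s * t := Subtype.ext h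
      have h4 := congrArg ψ h3
      rw [map_mul, map_mul] at h4
      refine not_comm_two (s := ψ s) (t := ψ t) ?_ ?_ htp ht1 h4
      · rw [← map_pow, ← hs, pow_orderOf_eq_one, map_one]
      · intro h5
        rw [← map_one ψ] at h5
        rw [hψ h5, orderOf_one] at hs
        omega
  · rw [hfC, hfH]
    rcases n3 with h | h
    · exact Or.inl h
    · right
      refine h.trans ?_
      rw [hcard, ← mul_assoc]
      exact Dvd.intro _ rfl

end Cfsg.Agent.H898.Rg920
end
end

-- part: H886/O8R/StabV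
section
prune_inst 0x4b57065446dc002000000859613200024340004b000030400cde20b400b09ce620d822e40373002071ac2a081400d40600008001040400000040004004005012080834604b36ca10c26001f808884000000000000000000000000000000010000000000000
set_option linter.all false
open scoped Cfsg.Agent.FastGrp

/-!
# S3691-O8R, box ORD-V: the stabiliser of a nonsingular vector in `Ω₈⁺(q)` by orders (helper886)

* `exists_omega` : the elements of `E Q` as elements of `Omega F Q`;
* `card_stab` : `|Ω| = |Ω_w| (q⁷ - q³)`;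
* `mem_of_card` : a subgroup `R` of `PΩ₈⁺(q)` which fixes the point `⟨w⟩`, of order at least `|PSp₆(q)|`, contains the
  image of `Ω_w`.
-/

set_option autoImplicit false
set_option linter.unusedSectionVars false

namespace Cfsg.Agent.H886.O8R

open Cfsg QuadraticMap Cfsg.Agent.OrdDiv Cfsg.Agent.H436
open Cfsg.Agent.LieClassical.OrthCore Cfsg.Agent.LieClassical.OrthTrans Cfsg.Agent.LieClassical.OrthFinite

variable {F : Type} [Field F] [Fintype F]

/-- the index type -/
abbrev J8 : Type := Fin 4 ⊕ Fin 4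

/-- the form as a `QuadraticForm` -/
abbrev QF (F : Type) [Field F] : QuadraticForm F (J8 → F) := LieClassical.QuadForms.plusForm 4 F

theorem coe_QF : ⇑(QF F) = quadFormPlus 4 F := LieClassical.QuadForms.coe_plusForm 4

/-- the linear action of `Ω` -/
noncomputable def om (F : Type) [Field F] : Omega F (quadFormPlus 4 F) →* ((J8 → F) ≃ₗ[F] (J8 → F)) :=
  ((glEquiv J8 F).toMonoidHom.comp (isometryGroup F (quadFormPlus 4 F)).subtype).comp (Omega F (quadFormPlus 4 F)).subtype

theorem om_apply (x : Omega F (quadFormPlus 4 F)) (v : J8 → F) :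
    om F x v = (((x : isometryGroup F (quadFormPlus 4 F)) : Matrix.GeneralLinearGroup J8 F) : Matrix J8 J8 F).mulVec v := rfl

theorem Q_om (x : Omega F (quadFormPlus 4 F)) (v : J8 → F) : quadFormPlus 4 F (om F x v) = quadFormPlus 4 F v :=
  mem_isometryGroup_iff.1 (x : isometryGroup F (quadFormPlus 4 F)).2 v

theorem nd_QF : Nondeg (QF F) := by
  have h : QF F = LieClassical.OrthForms.plusForm 4 F := DFunLike.coe_injective
    (coe_QF.trans (LieClassical.OrthForms.coe_plusForm 4 F).symm)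
  rw [h]
  exact LieClassical.OrthForms.nondeg_plusForm 4 F

theorem good_QF : _root_.Cfsg.Agent.LieClassical.OrthTrans.Good (QF F) := good_of_finite nd_QF (by
  rw [Module.finrank_fintype_fun_eq_card, Fintype.card_sum, Fintype.card_fin]
  norm_num)

/-- the elements of `E Q` are elements of `Omega F Q` -/
theorem exists_omega {g : (J8 → F) ≃ₗ[F] (J8 → F)} (hg : g ∈ E (QF F)) :
    ∃ x : Omega F (quadFormPlus 4 F), om F x = g := by
  have h1 : g ∈ ⁅O (QF F), O (QF F)⁆ := by rw [good_QF.commutator_eq_E]; exact hg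
  rw [← map_Omega] at h1
  obtain ⟨y, hy, h2⟩ := h1
  have key : ∀ Q' : (J8 → F) → F, Q' = ⇑(QF F) → ∃ x : Omega F Q',
      glEquiv J8 F ((x : isometryGroup F Q') : Matrix.GeneralLinearGroup J8 F) = g := by
    rintro _ rfl
    exact ⟨⟨y, hy⟩, h2⟩
  exact key _ coe_QF.symm

/-- transitivity -/
theorem exists_map {v w : J8 → F} (hw : quadFormPlus 4 F w ≠ 0) (h : quadFormPlus 4 F v = quadFormPlus 4 F w) :
    ∃ x : Omega F (quadFormPlus 4 F), om F x w = v := by
  have h0 : ∀ u : J8 → F, quadFormPlus 4 F u ≠ 0 → u ≠ 0 := by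
    rintro u hu rfl
    apply hu
    rw [← coe_QF]
    exact map_zero _
  obtain ⟨g, hg, h1⟩ := good_QF.trans_norm (Q := QF F) (h0 w hw) (h0 v (by rw [h]; exact hw))
    (by rw [coe_QF]; exact h.symm)
  obtain ⟨x, hx⟩ := exists_omega hg
  exact ⟨x, by rw [hx, h1]⟩

/-- the number of vectors of given nonzero norm -/
theorem card_level {c : F} (hc : c ≠ 0) :
    Nat.card {v : J8 → F // quadFormPlus 4 F v = c} = Fintype.card F ^ 7 - Fintype.card F ^ 3 := by
  classical
  have h := LieClassical.QuadCount.card_plus (F := F) 4 c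
  rw [if_neg hc, add_zero] at h
  have hq : 0 < Fintype.card F := Fintype.card_pos
  have h1 : Fintype.card F ^ (2 * 4) = Fintype.card F * Fintype.card F ^ 7 := by ring
  have h2 : Fintype.card F ^ 4 = Fintype.card F * Fintype.card F ^ 3 := by ring
  rw [h1, h2, ← mul_add] at h
  have h3 := Nat.eq_of_mul_eq_mul_left hq h
  exact Nat.eq_sub_of_add_eq h3

/-- the stabiliser of a vector -/
noncomputable def Xw (w : J8 → F) : Subgroup (Omega F (quadFormPlus 4 F)) where
  carrier := {x | om F x w = w}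
  one_mem' := by rw [Set.mem_ofPred_eq, map_one]; rfl
  mul_mem' := by
    intro x y hx hy
    rw [Set.mem_ofPred_eq] at hx hy ⊢
    rw [map_mul, LinearEquiv.mul_apply, hy, hx]
  inv_mem' := by
    intro x hx
    rw [Set.mem_ofPred_eq] at hx ⊢
    have h : om F x⁻¹ (om F x w) = w := by
      rw [← LinearEquiv.mul_apply, ← map_mul, inv_mul_cancel, map_one]; rfl
    rwa [hx] at h

theorem mem_Xw {w : J8 → F} {x : Omega F (quadFormPlus 4 F)} : x ∈ Xw w ↔ om F x w = w := Iff.rfl

/-- **orbit and stabiliser** for a subgroup `H` of `Ω` -/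
theorem card_orbit (H : Subgroup (Omega F (quadFormPlus 4 F))) (w : J8 → F) :
    Nat.card {v : J8 → F // ∃ x ∈ H, om F x w = v} * Nat.card (H ⊓ Xw w : Subgroup _) = Nat.card H := by
  classical
  let A : MulAction H (J8 → F) := MulAction.compHom (J8 → F) ((om F).comp H.subtype)
  let A' : SMul H (J8 → F) := A.toSMul
  have h1 : Nat.card (MulAction.orbit H w) * Nat.card (MulAction.stabilizer H w) = Nat.card H := by
    rw [← Nat.card_prod]
    exact Nat.card_congr (MulAction.orbitProdStabilizerEquivGroup H w)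
  rw [← h1]
  congr 1
  · refine Nat.card_congr (Equiv.subtypeEquivRight fun v => ?_)
    constructor
    · rintro ⟨x, hx, rfl⟩
      exact ⟨⟨x, hx⟩, rfl⟩
    · rintro ⟨x, rfl⟩
      exact ⟨x, x.2, rfl⟩
  · have h2 : (MulAction.stabilizer H w).map H.subtype = H ⊓ Xw w := by
      ext x
      constructor
      · rintro ⟨y, hy, rfl⟩
        exact ⟨y.2, hy⟩
      · rintro ⟨hx, hx'⟩
        exact ⟨⟨x, hx⟩, hx', rfl⟩
    simp only [← h2]
    exact (Nat.card_congr ((MulAction.stabilizer H w).equivMapOfInjective H.subtype H.subtype_injective).toEquiv).symm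

/-- **`|Ω| = (q⁷ - q³) |Ω_w|`** -/
theorem card_stab {w : J8 → F} (hw : quadFormPlus 4 F w ≠ 0) :
    (Fintype.card F ^ 7 - Fintype.card F ^ 3) * Nat.card (Xw w) = Nat.card (Omega F (quadFormPlus 4 F)) := by
  have h := card_orbit (⊤ : Subgroup (Omega F (quadFormPlus 4 F))) w
  simp only [top_inf_eq, Subgroup.card_top] at h
  simp only [← h, ← card_level hw]
  congr 1
  refine Nat.card_congr (Equiv.subtypeEquivRight fun v => ?_)
  constructor
  · intro hv
    obtain ⟨x, hx⟩ := exists_map hw hv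
    exact ⟨x, Subgroup.mem_top x, hx⟩
  · rintro ⟨x, -, rfl⟩
    exact Q_om x w

/-! ### subgroups of `PΩ₈⁺(q)` -/

/-- the projection -/
noncomputable abbrev mkT (F : Type) [Field F] [Fintype F] :
    Omega F (quadFormPlus 4 F) →* POmega F (quadFormPlus 4 F) :=
  QuotientGroup.mk' (Subgroup.center (Omega F (quadFormPlus 4 F)))

/-- **a subgroup of large order which fixes the point `⟨w⟩`** contains the image of `Ω_w` -/
theorem mem_of_card {R : Subgroup (POmega F (quadFormPlus 4 F))} {w : J8 → F} (hw : quadFormPlus 4 F w ≠ 0)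
    (hR : ∀ x : Omega F (quadFormPlus 4 F), mkT F x ∈ R → om F x w = w ∨ om F x w = -w)
    (hcard : Nat.gcd 2 (Fintype.card F - 1) * Nat.card (POmega F (quadFormPlus 4 F)) ≤
      (Fintype.card F ^ 7 - Fintype.card F ^ 3) * Nat.card R) {x : Omega F (quadFormPlus 4 F)} (hx : om F x w = w) :
    mkT F x ∈ R := by
  classical
  have hfin : Finite (Omega F (quadFormPlus 4 F)) := inferInstance
  have hq := Fintype.one_lt_card (α := F)
  have hpos : 0 < Fintype.card F ^ 7 - Fintype.card F ^ 3 :=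
    Nat.sub_pos_of_lt (Nat.pow_lt_pow_right hq (by norm_num))
  set H : Subgroup (Omega F (quadFormPlus 4 F)) := R.comap (mkT F) with hH
  set Z := Subgroup.center (Omega F (quadFormPlus 4 F)) with hZ
  -- the orders
  have h1 : Nat.card H = Nat.card R * Nat.card Z := by
    have h2 : H.index = R.index := Subgroup.index_comap_of_surjective _ (QuotientGroup.mk'_surjective _)
    have h3 := H.card_mul_index
    have h4 := R.card_mul_index
    have h5 : Nat.card (Omega F (quadFormPlus 4 F)) = Nat.card (POmega F (quadFormPlus 4 F)) * Nat.card Z :=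
      Subgroup.card_eq_card_quotient_mul_card_subgroup Z
    have h6 : 0 < H.index := Nat.pos_of_ne_zero Subgroup.index_ne_zero_of_finite
    apply Nat.eq_of_mul_eq_mul_right h6
    simp_rw [h3, h5, ← h4, h2]
    ring
  have h5 : Nat.card (Omega F (quadFormPlus 4 F)) = Nat.card (POmega F (quadFormPlus 4 F)) * Nat.card Z :=
    Subgroup.card_eq_card_quotient_mul_card_subgroup Z
  -- the orbit of `w`
  have h2 : Nat.card {v : J8 → F // ∃ x ∈ H, om F x w = v} ≤ Nat.gcd 2 (Fintype.card F - 1) := by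
    have h3 : Nat.card {v : J8 → F // ∃ x ∈ H, om F x w = v} ≤ Nat.card ({w, -w} : Finset (J8 → F)) := by
      refine Nat.card_le_card_of_injective (fun v => ⟨v.1, ?_⟩) fun a b hab => Subtype.ext (congrArg (fun z => z.1) hab)
      obtain ⟨v, y, hy, rfl⟩ := v
      (rewrite [Finset.mem_insert]; (conv => enter [@2]; rw [Finset.mem_singleton]))
      exact hR y hy
    refine h3.trans ?_
    rw [Nat.card_eq_fintype_card, Fintype.card_coe]
    by_cases h2F : (2 : F) = 0
    · have h4 : -w = w := by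
        have h5 : w + w = 0 := by
          rw [← two_smul F w, h2F, zero_smul]
        exact neg_eq_of_add_eq_zero_left h5
      rw [h4, Finset.pair_eq_singleton, Finset.card_singleton]
      exact Nat.gcd_pos_of_pos_left _ (by norm_num)
    · have h4 : Nat.gcd 2 (Fintype.card F - 1) = 2 := by
        have h5 : Fintype.card F % 2 = 1 := by
          rw [FiniteField.odd_card_of_char_ne_two]
          intro h6
          apply h2F
          have h7 := ringChar.spec F 2
          rw [h6] at h7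
          exact_mod_cast h7.2 dvd_rfl
        exact Nat.gcd_eq_left (by omega)
      rw [h4]
      exact Finset.card_le_two
  have h3 := card_orbit H w
  have h4 := card_stab hw
  have h6 : Nat.card (Xw w) ≤ Nat.card (H ⊓ Xw w : Subgroup _) := by
    have h7 : 0 < Nat.gcd 2 (Fintype.card F - 1) := Nat.gcd_pos_of_pos_left _ (by norm_num)
    refine Nat.le_of_mul_le_mul_left (c := (Fintype.card F ^ 7 - Fintype.card F ^ 3) * Nat.gcd 2 (Fintype.card F - 1)) ?_
      (Nat.mul_pos hpos h7)
    calc (Fintype.card F ^ 7 - Fintype.card F ^ 3) * Nat.gcd 2 (Fintype.card F - 1) * Nat.card (Xw w) =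
        Nat.gcd 2 (Fintype.card F - 1) * ((Fintype.card F ^ 7 - Fintype.card F ^ 3) * Nat.card (Xw w)) := by ring
      _ = Nat.gcd 2 (Fintype.card F - 1) * Nat.card (POmega F (quadFormPlus 4 F)) * Nat.card Z := by rw [h4, h5]; ring
      _ ≤ (Fintype.card F ^ 7 - Fintype.card F ^ 3) * Nat.card R * Nat.card Z := Nat.mul_le_mul_right _ hcard
      _ = (Fintype.card F ^ 7 - Fintype.card F ^ 3) * Nat.card H := by rw [h1]; ring
      _ = (Fintype.card F ^ 7 - Fintype.card F ^ 3) * (Nat.card {v : J8 → F // ∃ x ∈ H, om F x w = v} *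
          Nat.card (H ⊓ Xw w : Subgroup _)) := by rw [h3]
      _ ≤ (Fintype.card F ^ 7 - Fintype.card F ^ 3) * (Nat.gcd 2 (Fintype.card F - 1) *
          Nat.card (H ⊓ Xw w : Subgroup _)) := Nat.mul_le_mul_left _ (Nat.mul_le_mul_right _ h2)
      _ = _ := by ring
  have h7 : H ⊓ Xw w = Xw w := Subgroup.eq_of_le_of_card_ge inf_le_right h6
  have h8 : x ∈ H ⊓ Xw w := by rw [h7]; exact hx
  exact h8.1

/-- the orders: `gcd(2, q - 1) |PΩ₈⁺(q)| = (q⁷ - q³) |PSp₆(q)|` -/
theorem card_rel {K : Type} [Field K] [Fintype K] (hK : Fintype.card K = Fintype.card F) :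
    Nat.gcd 2 (Fintype.card F - 1) * Nat.card (POmega F (quadFormPlus 4 F)) =
      (Fintype.card F ^ 7 - Fintype.card F ^ 3) * Nat.card (PSp 3 K) := by
  have hq := Fintype.one_lt_card (α := F)
  have h1 := psp_eq (F := K) (m := 3) (by norm_num)
  have h2 := oplus_eq (F := F) (m := 4) le_rfl
  change Nat.gcd 2 (Fintype.card K - 1) * Nat.card (PSp 3 K) = Fintype.card K ^ (3 ^ 2) * prB (Fintype.card K) 3 at h1
  change Nat.gcd 4 (Fintype.card F ^ 4 - 1) * Nat.card (POmega F (quadFormPlus 4 F)) =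
    Fintype.card F ^ (4 * (4 - 1)) * ((Fintype.card F ^ 4 - 1) * prB (Fintype.card F) (4 - 1)) at h2
  rw [hK] at h1
  have h3 : Fintype.card F ^ 7 - Fintype.card F ^ 3 = Fintype.card F ^ 3 * (Fintype.card F ^ 4 - 1) := by
    rw [Nat.mul_sub, mul_one, ← pow_add]
  have h4 : Nat.gcd 4 (Fintype.card F ^ 4 - 1) * Nat.card (POmega F (quadFormPlus 4 F)) =
      (Fintype.card F ^ 7 - Fintype.card F ^ 3) * (Nat.gcd 2 (Fintype.card F - 1) * Nat.card (PSp 3 K)) := by
    rw [h1, h2, h3]
    ring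
  have h5 : Nat.gcd 4 (Fintype.card F ^ 4 - 1) = Nat.gcd 2 (Fintype.card F - 1) * Nat.gcd 2 (Fintype.card F - 1) := by
    rcases Nat.even_or_odd (Fintype.card F) with he | ho
    · obtain ⟨k, hk⟩ := he
      have h6 : Nat.gcd 2 (Fintype.card F - 1) = 1 := by
        exact Nat.coprime_two_left.2 ⟨k - 1, by omega⟩
      have h7 : Nat.gcd 4 (Fintype.card F ^ 4 - 1) = 1 := by
        have h8 : Nat.Coprime (2 ^ 2) (Fintype.card F ^ 4 - 1) := by
          apply Nat.Coprime.pow_left
          rw [Nat.coprime_two_left]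
          have h9 : Even (Fintype.card F ^ 4) := (Nat.even_pow.2 ⟨⟨k, hk⟩, by norm_num⟩)
          have h10 : 1 ≤ Fintype.card F ^ 4 := Nat.one_le_pow _ _ (by omega)
          obtain ⟨l, hl⟩ := h9
          exact ⟨l - 1, by omega⟩
        exact h8
      rw [h6, h7]
    · obtain ⟨k, hk⟩ := ho
      have h6 : Nat.gcd 2 (Fintype.card F - 1) = 2 := Nat.gcd_eq_left (by omega)
      have h7 : Nat.gcd 4 (Fintype.card F ^ 4 - 1) = 4 := by
        apply Nat.gcd_eq_left
        have h8 : Fintype.card F ^ 4 - 1 = (Fintype.card F ^ 2 + 1) * ((Fintype.card F + 1) * (Fintype.card F - 1)) := by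
          have e1 := Nat.sq_sub_sq (Fintype.card F ^ 2) 1
          have e2 := Nat.sq_sub_sq (Fintype.card F) 1
          rw [one_pow, ← pow_mul] at e1
          rw [one_pow] at e2
          rw [← e2]
          exact e1
        rw [h8]
        apply Dvd.dvd.mul_left
        rw [show 4 = 2 * 2 by norm_num]
        exact Nat.mul_dvd_mul (by omega) (by omega)
      rw [h6, h7]
  have h6 : 0 < Nat.gcd 2 (Fintype.card F - 1) := Nat.gcd_pos_of_pos_left _ (by norm_num)
  apply Nat.eq_of_mul_eq_mul_left h6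
  rw [← mul_assoc, ← h5, h4]
  ring

end Cfsg.Agent.H886.O8R
end

-- part: H72/Rg/SemiBound
section
set_option linter.all false
open scoped Cfsg.Agent.FastGrp

/-!
# S3691, ALPHA-S: the `p`-part of a group of semilinear maps of a field of order `p ^ n`
-/

set_option autoImplicit false

namespace Cfsg.Agent.H72.Rg

open Module Cfsg.Agent.H50.Her

universe u

/-- A field of order `p ^ n` has at most `n` automorphisms. -/
theorem card_ringEquiv_le {p n : ℕ} [Fact p.Prime] {F : Type*} [Field F] [Fintype F] (hF : Nat.card F = p ^ n) :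
    Nat.card (F ≃+* F) ≤ n := by
  classical
  have hpp : p.Prime := Fact.out
  obtain ⟨l, hl⟩ := CharP.exists F
  have hlp : l.Prime := CharP.char_is_prime F l
  have : Fact l.Prime := ⟨hlp⟩
  obtain ⟨k, -, hk⟩ := FiniteField.card F l
  have hlp' : l = p := by
    have h1 : l ∣ p ^ n := by
      rw [← hF, Nat.card_eq_fintype_card, hk]
      exact dvd_pow_self l k.2.ne'
    exact (Nat.prime_dvd_prime_iff_eq hlp hpp).1 (hlp.dvd_of_dvd_pow h1)
  subst hlp'
  letI : Algebra (ZMod l) F := ZMod.algebra F l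
  have hfr : finrank (ZMod l) F = n := by
    have h1 : Nat.card F = Nat.card (ZMod l) ^ finrank (ZMod l) F := Module.natCard_eq_pow_finrank
    rw [Nat.card_zmod, hF] at h1
    exact (Nat.pow_right_injective hlp.two_le h1).symm
  have hfin : Finite (F ≃ₐ[ZMod l] F) := inferInstance
  let f : (F ≃+* F) → (F ≃ₐ[ZMod l] F) := fun σ => AlgEquiv.ofRingEquiv (f := σ) (fun r => by
    have h : (σ : F →+* F).comp (algebraMap (ZMod l) F) = algebraMap (ZMod l) F := Subsingleton.elim _ _
    exact RingHom.congr_fun h r)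
  have hf : Function.Injective f := by
    intro σ τ h
    apply RingEquiv.ext
    intro x
    exact AlgEquiv.congr_fun h x
  calc Nat.card (F ≃+* F) ≤ Nat.card (F ≃ₐ[ZMod l] F) := Nat.card_le_card_of_injective f hf
    _ ≤ finrank (ZMod l) F := by
      rw [Nat.card_eq_fintype_card]
      exact AlgEquiv.card_le
    _ = n := hfr

/-- ALPHA-S -/
theorem semi_bound {p n : ℕ} [Fact p.Prime] {U : Type u} [AddCommGroup U] [Module (ZMod p) U] [Finite U] [Nontrivial U]
    (hU : Nat.card U = p ^ n) (Γ : Subgroup (U ≃ₗ[ZMod p] U)) (h : SemiOut p U Γ) :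
    p ^ (Nat.card Γ).factorization p ≤ n := by
  classical
  have hpp : p.Prime := Fact.out
  obtain ⟨F, iF, iFt, e, he⟩ := h
  have hFc : Nat.card F = p ^ n := by rw [← hU]; exact (Nat.card_congr e.toEquiv).symm
  choose! c σ hcs using he
  have hc0 : ∀ g ∈ Γ, c g ≠ 0 := by
    intro g hg h0
    obtain ⟨v, hv⟩ := exists_ne (0 : U)
    have h1 := hcs g hg v
    rw [h0, zero_mul] at h1
    have h2 : g v = 0 := e.injective (by rw [h1, map_zero])
    exact hv (g.injective (by rw [h2, map_zero]))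
  have hc1 : ∀ g ∈ Γ, e (g (e.symm 1)) = c g := by
    intro g hg
    rw [hcs g hg, AddEquiv.apply_symm_apply, map_one, mul_one]
  have hcmul : ∀ g ∈ Γ, ∀ h ∈ Γ, c (g * h) = c g * σ g (c h) := by
    intro g hg h hh
    rw [← hc1 (g * h) (Γ.mul_mem hg hh), ← hc1 h hh]
    exact hcs g hg (h (e.symm 1))
  have hσmul : ∀ g ∈ Γ, ∀ h ∈ Γ, σ (g * h) = σ g * σ h := by
    intro g hg h hh
    apply RingEquiv.ext
    intro x
    have h1 := hcs (g * h) (Γ.mul_mem hg hh) (e.symm x)
    have h2 : e ((g * h) (e.symm x)) = c g * σ g (c h * σ h x) := by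
      have h3 := hcs g hg (h (e.symm x))
      rw [hcs h hh, AddEquiv.apply_symm_apply] at h3
      exact h3
    rw [h2, AddEquiv.apply_symm_apply, hcmul g hg h hh, map_mul, ← mul_assoc] at h1
    have h4 : c g * σ g (c h) ≠ 0 := mul_ne_zero (hc0 g hg) (fun h5 => hc0 h hh ((map_eq_zero (σ g)).1 h5))
    exact (mul_left_cancel₀ h4 h1).symm
  let φ : Γ →* (F ≃+* F) := MonoidHom.mk' (fun g => σ g.1) (fun a b => hσmul a.1 a.2 b.1 b.2)
  have hφ : ∀ g : Γ, φ g = σ g.1 := fun _ => rfl
  -- the kernel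
  let ψ : φ.ker →* Fˣ := MonoidHom.mk' (fun g => Units.mk0 (c g.1.1) (hc0 _ g.1.2)) (fun a b => by
    apply Units.ext
    show c (a.1.1 * b.1.1) = c a.1.1 * c b.1.1
    rw [hcmul _ a.1.2 _ b.1.2]
    have h1 : σ a.1.1 = 1 := a.2
    rw [h1]
    rfl)
  have hψ : Function.Injective ψ := by
    rw [injective_iff_map_eq_one]
    intro a ha
    have h1 : σ a.1.1 = 1 := a.2
    have h2 : c a.1.1 = 1 := congrArg Units.val ha
    apply Subtype.ext
    apply Subtype.ext
    apply LinearEquiv.ext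
    intro v
    apply e.injective
    rw [hcs _ a.1.2, h1, h2, one_mul]
    rfl
  have hfF : Finite F := inferInstance
  have hker : (Nat.card φ.ker).Coprime p := by
    have h1 : Nat.card φ.ker ∣ Nat.card Fˣ := Subgroup.card_dvd_of_injective ψ hψ
    rw [Nat.card_units, hFc] at h1
    have hn : n ≠ 0 := by
      rintro rfl
      have := Nat.card_eq_fintype_card (α := F)
      have h2 : 1 < Fintype.card F := Fintype.one_lt_card
      rw [← this, hFc] at h2
      simp at h2
    have h2 : (p ^ n - 1).Coprime p := by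
      rw [Nat.coprime_comm, Nat.Prime.coprime_iff_not_dvd hpp]
      intro h3
      have h4 : p ∣ p ^ n := dvd_pow_self p hn
      have h5 : 1 ≤ p ^ n := Nat.one_le_pow _ _ hpp.pos
      have h6 : p ∣ 1 := by
        have := Nat.dvd_sub h4 h3
        rwa [Nat.sub_sub_self h5] at this
      exact hpp.one_lt.ne' (Nat.dvd_one.1 h6)
    exact Nat.Coprime.coprime_dvd_left h1 h2
  have hcard : Nat.card Γ = Nat.card φ.ker * Nat.card φ.range := by
    rw [← Nat.card_congr (QuotientGroup.quotientKerEquivRange φ).toEquiv, mul_comm]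
    exact Subgroup.card_eq_card_quotient_mul_card_subgroup φ.ker
  have hdvd : p ^ (Nat.card Γ).factorization p ∣ Nat.card φ.range := by
    have h1 : p ^ (Nat.card Γ).factorization p ∣ Nat.card φ.ker * Nat.card φ.range := by
      rw [← hcard]
      exact Nat.ordProj_dvd _ _
    exact Nat.Coprime.dvd_of_dvd_mul_left (Nat.Coprime.pow_left _ hker.symm) h1
  have hfR : Finite (F ≃+* F) := Finite.of_injective (fun σ : F ≃+* F => (σ : F → F)) (fun a b h => RingEquiv.ext (congrFun h))
  have hpos : 0 < Nat.card φ.range := Nat.card_pos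
  calc p ^ (Nat.card Γ).factorization p ≤ Nat.card φ.range := Nat.le_of_dvd hpos hdvd
    _ ≤ Nat.card (F ≃+* F) := Nat.card_le_card_of_injective _ (Subtype.val_injective)
    _ ≤ n := card_ringEquiv_le hFc

end Cfsg.Agent.H72.Rg
end

-- part: H466/O8R/Gs_mg
section
prune_inst 0x4955061445d8000000000800420200040700000220000040004a20a020248ec420dc20800293000171a020401000500400018001000400000040000000005010000000406a0480008000010000000000000000000000000000000000000010000000000000
set_option linter.all false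
open scoped Cfsg.Agent.FastGrp

-- part: H466/O8R/Om
section
/-!
# S3691, `PΩ⁺₈(q)`, DATA-OM: definitions (helper466)

`PW Q X` : the isometries fixing the subspace `X` pointwise; `Om Q X = ⁅PW Q X, PW Q X⁆`.
-/

set_option autoImplicit false

namespace Cfsg.Agent.H466.O8R

open QuadraticMap
open Cfsg.Agent.LieClassical.OrthCore

variable {F V : Type*} [Field F] [AddCommGroup V] [Module F V]

/-- the isometries fixing `X` pointwise -/
def PW (Q : QuadraticForm F V) (X : Submodule F V) : Subgroup (V ≃ₗ[F] V) where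
  carrier := {g | g ∈ O Q ∧ ∀ x ∈ X, g x = x}
  mul_mem' {a b} ha hb := ⟨(O Q).mul_mem ha.1 hb.1, fun x hx => by
    show a (b x) = x
    rw [hb.2 x hx, ha.2 x hx]⟩
  one_mem' := ⟨(O Q).one_mem, fun x _ => rfl⟩
  inv_mem' {a} ha := ⟨(O Q).inv_mem ha.1, fun x hx => by
    have h := ha.2 x hx
    conv_lhs => rw [← h]
    exact LinearEquiv.symm_apply_apply a x⟩

/-- the commutator subgroup of `PW Q X` -/
def Om (Q : QuadraticForm F V) (X : Submodule F V) : Subgroup (V ≃ₗ[F] V) := ⁅PW Q X, PW Q X⁆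

variable {Q : QuadraticForm F V} {X Y : Submodule F V} {g : V ≃ₗ[F] V}

theorem mem_PW : g ∈ PW Q X ↔ g ∈ O Q ∧ ∀ x ∈ X, g x = x := Iff.rfl

theorem PW_le_O : PW Q X ≤ O Q := fun _ h => h.1

theorem PW_anti (h : X ≤ Y) : PW Q Y ≤ PW Q X := fun _ hg => ⟨hg.1, fun x hx => hg.2 x (h hx)⟩

theorem Om_le_PW : Om Q X ≤ PW Q X := by
  rw [Om, Subgroup.commutator_le]
  intro a ha b hb
  exact (PW Q X).mul_mem ((PW Q X).mul_mem ((PW Q X).mul_mem ha hb) ((PW Q X).inv_mem ha)) ((PW Q X).inv_mem hb)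

theorem Om_anti (h : X ≤ Y) : Om Q Y ≤ Om Q X := Subgroup.commutator_mono (PW_anti h) (PW_anti h)

theorem Om_le : Om Q X ≤ ⁅O Q, O Q⁆ := Subgroup.commutator_mono PW_le_O PW_le_O

theorem map_PW (hg : g ∈ O Q) :
    (PW Q X).map (MulAut.conj g).toMonoidHom = PW Q (X.map (g : V →ₗ[F] V)) := by
  ext y
  constructor
  · rintro ⟨x, hx, rfl⟩
    refine ⟨(O Q).mul_mem ((O Q).mul_mem hg hx.1) ((O Q).inv_mem hg), ?_⟩
    rintro _ ⟨v, hv, rfl⟩
    show g (x (g.symm (g v))) = g v
    rw [LinearEquiv.symm_apply_apply, hx.2 v hv]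
  · rintro ⟨hy, hyX⟩
    refine ⟨g⁻¹ * y * g, ⟨(O Q).mul_mem ((O Q).mul_mem ((O Q).inv_mem hg) hy) hg, fun v hv => ?_⟩, ?_⟩
    · show g.symm (y (g v)) = v
      rw [hyX (g v) ⟨v, hv, rfl⟩, LinearEquiv.symm_apply_apply]
    · show g * (g⁻¹ * y * g) * g⁻¹ = y
      group

theorem map_Om (hg : g ∈ O Q) :
    (Om Q X).map (MulAut.conj g).toMonoidHom = Om Q (X.map (g : V →ₗ[F] V)) := by
  rw [Om, Subgroup.map_commutator, map_PW hg, Om]

/-- `F6` -/
theorem PW_comm (hXY : X ⊔ Y = ⊤) {a b : V ≃ₗ[F] V} (ha : a ∈ PW Q X) (hb : b ∈ PW Q Y)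
    (haY : ∀ y ∈ Y, a y ∈ Y) (hbX : ∀ x ∈ X, b x ∈ X) : a * b = b * a := by
  ext v
  obtain ⟨x, hx, y, hy, rfl⟩ := Submodule.mem_sup.1 (show v ∈ X ⊔ Y by rw [hXY]; exact Submodule.mem_top)
  show a (b (x + y)) = b (a (x + y))
  rw [map_add, map_add, map_add, map_add, hb.2 y hy, ha.2 x hx, ha.2 _ (hbX x hx), hb.2 _ (haY y hy)]

/-- the commutator of two elements of `PW` -/
theorem comm_mem {a b : V ≃ₗ[F] V} (ha : a ∈ PW Q X) (hb : b ∈ PW Q X) : a * b * a⁻¹ * b⁻¹ ∈ Om Q X :=
  Subgroup.commutator_mem_commutator ha hb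

end Cfsg.Agent.H466.O8R
end

-- part: H466/O8R/Plane
section
/-!
# S3691, `PΩ⁺₈(q)`, DATA-OM: rotations in a nondegenerate plane (helper466)
-/

set_option autoImplicit false

namespace Cfsg.Agent.H466.O8R

open QuadraticMap
open Cfsg.Agent.LieClassical.OrthCore

variable {F V : Type*} [Field F] [AddCommGroup V] [Module F V] {Q : QuadraticForm F V}

theorem refl_mem_PW {X : Submodule F V} {v : V} (hv : Q v ≠ 0) (h : ∀ x ∈ X, polar Q v x = 0) : refl Q v hv ∈ PW Q X :=
  ⟨refl_mem_O hv, fun x hx => by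
    rw [refl_apply, h x hx]
    simp⟩

theorem exists_param [Finite F] (hF : 6 ≤ Nat.card F) {α β : F} (hα : α ≠ 0) :
    ∃ t : F, t ≠ 0 ∧ α + β * t ^ 2 ≠ 0 ∧ α - β * t ^ 2 ≠ 0 := by
  have hft : Fintype F := Fintype.ofFinite F
  have key : ∀ t : F, t ≠ 0 → (α + β * t ^ 2 = 0 ∨ α - β * t ^ 2 = 0) → α ^ 2 = β ^ 2 * t ^ 4 := by
    intro t _ h
    rcases h with h | h
    · have : α = -(β * t ^ 2) := eq_neg_of_add_eq_zero_left h
      rw [this]
      ring
    · have : α = β * t ^ 2 := sub_eq_zero.1 h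
      rw [this]
      ring
  by_contra hcon
  push Not at hcon
  have key2 : ∀ t : F, t ≠ 0 → α ^ 2 = β ^ 2 * t ^ 4 := by
    intro t ht
    refine key t ht ?_
    by_cases h : α + β * t ^ 2 = 0
    · exact Or.inl h
    · exact Or.inr (hcon t ht h)
  have h1 := key2 1 one_ne_zero
  rw [one_pow, mul_one] at h1
  have hβ : β ^ 2 ≠ 0 := by rw [← h1]; exact pow_ne_zero _ hα
  obtain ⟨g, hg⟩ := IsCyclic.exists_generator (α := Fˣ)
  have h2 := key2 (g : F) g.ne_zero
  rw [h1] at h2
  have h3 : (g : F) ^ 4 = 1 := (mul_eq_left₀ hβ).1 h2.symm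
  have h4 : g ^ 4 = 1 := Units.ext (by rw [Units.val_pow_eq_pow_val, h3, Units.val_one])
  have h5 := Nat.le_of_dvd (by norm_num) (orderOf_dvd_of_pow_eq_one h4)
  have h6 : orderOf g = Nat.card Fˣ := orderOf_eq_card_of_forall_mem_zpowers hg
  rw [h6, Nat.card_units] at h5
  omega

/-- in every nondegenerate plane `⟨a, b⟩` there is a commutator of reflections whose square is not trivial -/
theorem exists_link [Finite F] (h2 : (2 : F) ≠ 0) (hF : 6 ≤ Nat.card F) {a b : V} (ha : Q a ≠ 0) (hb : Q b ≠ 0)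
    (hab : polar Q a b = 0) :
    ∃ x : V ≃ₗ[F] V, x ^ 2 ≠ 1 ∧ ∀ X : Submodule F V, (∀ v ∈ X, polar Q a v = 0 ∧ polar Q b v = 0) → x ∈ Om Q X := by
  obtain ⟨t, ht, hN, hN'⟩ := exists_param hF (β := Q b) ha
  have hba : polar Q b a = 0 := by rw [polar_comm]; exact hab
  have hQ : Q (a + t • b) = Q a + Q b * t ^ 2 := by
    rw [Q_add, QuadraticMap.map_smul, polar_smul_right, hab, smul_eq_mul, smul_eq_mul]
    ring
  have hc : Q (a + t • b) ≠ 0 := by rw [hQ]; exact hN
  obtain ⟨r, hr⟩ : ∃ r, r = refl Q (a + t • b) hc := ⟨_, rfl⟩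
  obtain ⟨r', hr'⟩ : ∃ r', r' = refl Q a ha := ⟨_, rfl⟩
  have hpa : polar Q (a + t • b) a = 2 * Q a := by
    rw [polar_add_left, polar_smul_left, polar_self', hba]
    simp
  have hpb : polar Q (a + t • b) b = 2 * Q b * t := by
    rw [polar_add_left, polar_smul_left, polar_self', hab]
    simp only [smul_eq_mul]
    ring
  -- the rotation
  obtain ⟨c, hc'⟩ : ∃ c, c = (Q a - Q b * t ^ 2) / (Q a + Q b * t ^ 2) := ⟨_, rfl⟩
  obtain ⟨s, hs⟩ : ∃ s, s = 2 * Q a * t / (Q a + Q b * t ^ 2) := ⟨_, rfl⟩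
  obtain ⟨s', hs'⟩ : ∃ s', s' = 2 * Q b * t / (Q a + Q b * t ^ 2) := ⟨_, rfl⟩
  have hcs : c ^ 2 + s * s' = 1 := by
    rw [hc', hs, hs']
    field_simp
    ring
  have hra : (r * r') a = c • a + s • b := by
    show r (r' a) = _
    have e1 : r' a = -a := by
      rw [hr', refl_apply, polar_self']
      have : (Q a)⁻¹ * (2 * Q a) = 2 := by field_simp
      rw [this, two_smul]
      abel
    rw [e1, map_neg, hr, refl_apply, hpa, hQ, hc', hs]
    have : -(a - ((Q a + Q b * t ^ 2)⁻¹ * (2 * Q a)) • (a + t • b)) =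
        ((Q a + Q b * t ^ 2)⁻¹ * (2 * Q a) - 1) • a + ((Q a + Q b * t ^ 2)⁻¹ * (2 * Q a) * t) • b := by module
    rw [this]
    congr 2
    · field_simp
      ring
    · field_simp
  have hrb : (r * r') b = (-s') • a + c • b := by
    show r (r' b) = _
    have e1 : r' b = b := by
      rw [hr', refl_apply, hab]
      simp
    rw [e1, hr, refl_apply, hpb, hQ, hc', hs']
    have : b - ((Q a + Q b * t ^ 2)⁻¹ * (2 * Q b * t)) • (a + t • b) =
        (-((Q a + Q b * t ^ 2)⁻¹ * (2 * Q b * t))) • a + (1 - (Q a + Q b * t ^ 2)⁻¹ * (2 * Q b * t) * t) • b := by module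
    rw [this]
    congr 2
    · field_simp
    · field_simp
      ring
  have hc0 : c ≠ 0 := by
    rw [hc']
    exact div_ne_zero hN' hN
  have hs0 : s * s' ≠ 0 := by
    rw [hs, hs']
    exact mul_ne_zero (div_ne_zero (mul_ne_zero (mul_ne_zero h2 ha) ht) hN)
      (div_ne_zero (mul_ne_zero (mul_ne_zero h2 hb) ht) hN)
  -- two applications
  have h2a : (r * r') ((r * r') a) = (2 * c ^ 2 - 1) • a + (2 * c * s) • b := by
    rw [hra, map_add, map_smul, map_smul, hra, hrb]
    have : c • (c • a + s • b) + s • (-s' • a + c • b) = (c ^ 2 - s * s') • a + (2 * c * s) • b := by module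
    rw [this]
    congr 2
    linear_combination -hcs
  have h2b : (r * r') ((r * r') b) = (-(2 * c * s')) • a + (2 * c ^ 2 - 1) • b := by
    rw [hrb, map_add, map_smul, map_smul, hra, hrb]
    have : -s' • (c • a + s • b) + c • (-s' • a + c • b) = (-(2 * c * s')) • a + (c ^ 2 - s * s') • b := by module
    rw [this]
    congr 2
    linear_combination -hcs
  have h4a : (r * r') ((r * r') ((r * r') ((r * r') a))) =
      (2 * (2 * c ^ 2 - 1) ^ 2 - 1) • a + (4 * c * s * (2 * c ^ 2 - 1)) • b := by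
    rw [h2a, map_add, map_smul, map_smul, map_add, map_smul, map_smul, h2a, h2b]
    have : (2 * c ^ 2 - 1) • ((2 * c ^ 2 - 1) • a + (2 * c * s) • b) +
        (2 * c * s) • (-(2 * c * s') • a + (2 * c ^ 2 - 1) • b) =
        ((2 * c ^ 2 - 1) ^ 2 - 4 * c ^ 2 * (s * s')) • a + (4 * c * s * (2 * c ^ 2 - 1)) • b := by module
    rw [this]
    congr 2
    linear_combination (-4 * c ^ 2) * hcs
  refine ⟨(r * r') * (r * r'), fun h => ?_, fun X hX => ?_⟩
  · have h5 := congrArg (fun g : V ≃ₗ[F] V => polar Q a (g a)) h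
    rw [pow_two] at h5
    have h6 : polar Q a ((r * r') ((r * r') ((r * r') ((r * r') a)))) = polar Q a a := h5
    rw [h4a, polar_add_right, polar_smul_right, polar_smul_right, hab, polar_self'] at h6
    simp only [smul_eq_mul, mul_zero, add_zero] at h6
    have h7 : (2 * (2 * c ^ 2 - 1) ^ 2 - 1) = 1 := by
      have h8 : (2 * Q a) * (2 * (2 * c ^ 2 - 1) ^ 2 - 1) = (2 * Q a) * 1 := by
        rw [mul_one, mul_comm]
        exact h6
      exact mul_left_cancel₀ (mul_ne_zero h2 ha) h8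
    have h8 : (2 * 2 * 2) * (c ^ 2 * (s * s')) = 0 := by
      have h9 : s * s' = 1 - c ^ 2 := by linear_combination hcs
      rw [h9]
      linear_combination -h7
    exact mul_ne_zero (mul_ne_zero (mul_ne_zero h2 h2) h2) (mul_ne_zero (pow_ne_zero _ hc0) hs0) h8
  · have m1 : r ∈ PW Q X := by
      rw [hr]
      refine refl_mem_PW hc fun x hx => ?_
      rw [polar_add_left, polar_smul_left, (hX x hx).1, (hX x hx).2]
      simp
    have m2 : r' ∈ PW Q X := by
      rw [hr']
      exact refl_mem_PW ha fun x hx => (hX x hx).1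
    have e1 : r⁻¹ = r := by rw [hr]; exact refl_inv hc
    have e2 : r'⁻¹ = r' := by rw [hr']; exact refl_inv ha
    have h3 := comm_mem m1 m2
    rw [e1, e2] at h3
    rwa [← mul_assoc]

end Cfsg.Agent.H466.O8R
end

-- part: H466/O8R/Top
section
/-!
# S3691, `PΩ⁺₈(q)`: generation of `Ω` by short root groups (helper466)

`e j`, `e (σ j)` hyperbolic pairs, `w` nonsingular, orthogonal to them. In characteristic `≠ 2` the Siegel transformations
`siegel (e j) (c w)` generate `E Q`.
-/

set_option autoImplicit false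

namespace Cfsg.Agent.H466.O8R

open QuadraticMap
open Cfsg.Agent.LieClassical.OrthCore

variable {F V : Type*} [Field F] [AddCommGroup V] [Module F V] {Q : QuadraticForm F V}

/-- hyperbolic pairs `e j`, `e (σ j)` and a vector `w` -/
structure ShortFrame {J : Type} (Q : QuadraticForm F V) (e : J → V) (σ : J → J) (w : V) : Prop where
  inv : ∀ j, σ (σ j) = j
  ne : ∀ j, σ j ≠ j
  sing : ∀ j, Q (e j) = 0
  pair : ∀ j, polar Q (e j) (e (σ j)) = 1
  perp : ∀ j k, k ≠ σ j → polar Q (e j) (e k) = 0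
  pw : ∀ j, polar Q (e j) w = 0
  w0 : Q w ≠ 0
  span : ∀ x, (∀ j, polar Q (e j) x = 0) → ∃ d : F, x = d • w

theorem siegel_congr {u u' w w' : V} (h1 : u = u') (h2 : w = w') (hu : Q u = 0) (hw : polar Q u w = 0) (hu' : Q u' = 0)
    (hw' : polar Q u' w' = 0) : siegel Q u w hu hw = siegel Q u' w' hu' hw' := by
  subst h1
  subst h2
  rfl

theorem siegel_smul_left {u w : V} {c : F} (hu : Q (c • u) = 0) (hw : polar Q (c • u) w = 0) (hu' : Q u = 0)
    (hw' : polar Q u (c • w) = 0) : siegel Q (c • u) w hu hw = siegel Q u (c • w) hu' hw' := by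
  ext v
  rw [siegel_apply, siegel_apply, polar_smul_left, polar_smul_left, QuadraticMap.map_smul, smul_eq_mul, smul_eq_mul,
    smul_eq_mul]
  module

theorem siegel_self {u : V} {c : F} (hu : Q u = 0) (hw : polar Q u (c • u) = 0) : siegel Q u (c • u) hu hw = 1 := by
  ext v
  rw [siegel_apply, polar_smul_left, QuadraticMap.map_smul, hu, smul_eq_mul, smul_eq_mul]
  show _ = v
  module

theorem siegel_zero_left {w : V} (hu : Q (0 : V) = 0) (hw : polar Q (0 : V) w = 0) : siegel Q 0 w hu hw = 1 := by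
  ext v
  rw [siegel_apply]
  show _ = v
  simp

theorem siegel_zero_right {u : V} (hu : Q u = 0) (hw : polar Q u (0 : V) = 0) : siegel Q u 0 hu hw = 1 := by
  ext v
  rw [siegel_apply]
  show _ = v
  simp

variable {J : Type} {e : J → V} {σ : J → J} {w : V} {H : Subgroup (V ≃ₗ[F] V)}

/-- step one : the long root groups are commutators -/
theorem ShortFrame.long (h : ShortFrame Q e σ w) (h2 : (2 : F) ≠ 0)
    (hH : ∀ (j : J) (c : F) (hw : polar Q (e j) (c • w) = 0), siegel Q (e j) (c • w) (h.sing j) hw ∈ H)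
    {j k : J} (hk' : k ≠ σ j) (c : F) (hc : polar Q (e j) (c • e k) = 0) :
    siegel Q (e j) (c • e k) (h.sing j) hc ∈ H := by
  have hjw : ∀ (j : J) (c : F), polar Q (e j) (c • w) = 0 := fun j c => by
    rw [polar_smul_right, h.pw, smul_zero]
  obtain ⟨b, hb⟩ : ∃ b : F, -(2 * b * Q w) = c := ⟨-(c / (2 * Q w)), by
    have := h.w0
    field_simp⟩
  have hjk : polar Q (e j) (e k) = 0 := h.perp _ _ hk'
  have hkj : polar Q (e k) (e j) = 0 := by rw [polar_comm]; exact hjk
  have hwk : polar Q w (e j) = 0 := by rw [polar_comm]; exact h.pw j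
  have hwk' : polar Q w (e k) = 0 := by rw [polar_comm]; exact h.pw k
  -- `S = siegel (e k) w`, `T = siegel (e j) (b w)`
  have hS := hH k 1 (hjw k 1)
  have hT := hH j b (hjw j b)
  have e1 : siegel Q (e k) ((1 : F) • w) (h.sing k) (hjw k 1) (e j) = e j := by
    rw [siegel_apply, hkj, polar_smul_left, hwk]
    simp
  have e2 : siegel Q (e k) ((1 : F) • w) (h.sing k) (hjw k 1) (b • w) = b • w + c • e k := by
    rw [siegel_apply, polar_smul_right, h.pw, polar_smul_left, polar_smul_right, polar_self', ← hb]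
    simp only [smul_eq_mul, mul_zero, zero_smul, one_mul, sub_zero, add_zero]
    module
  have hu' : Q (siegel Q (e k) ((1 : F) • w) (h.sing k) (hjw k 1) (e j)) = 0 := by rw [e1]; exact h.sing j
  have hw' : polar Q (siegel Q (e k) ((1 : F) • w) (h.sing k) (hjw k 1) (e j))
      (siegel Q (e k) ((1 : F) • w) (h.sing k) (hjw k 1) (b • w)) = 0 := by
    rw [e1, e2, polar_add_right, hjw, zero_add]
    exact hc
  have h3 := siegel_conj (siegel_mem_O (h.sing k) (hjw k 1)) (h.sing j) (hjw j b) hu' hw'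
  have h4 : polar Q (e j) (b • w + c • e k) = 0 := by
    rw [polar_add_right, hjw, zero_add]
    exact hc
  rw [siegel_congr e1 e2 hu' hw' (h.sing j) h4, ← siegel_mul (h.sing j) (hjw j b) hc h4] at h3
  have h5 : siegel Q (e j) (c • e k) (h.sing j) hc = (siegel Q (e j) (b • w) (h.sing j) (hjw j b))⁻¹ *
      (siegel Q (e k) ((1 : F) • w) (h.sing k) (hjw k 1) * siegel Q (e j) (b • w) (h.sing j) (hjw j b) *
        (siegel Q (e k) ((1 : F) • w) (h.sing k) (hjw k 1))⁻¹) := by
    rw [h3, inv_mul_cancel_left]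
  rw [h5]
  exact H.mul_mem (H.inv_mem hT) (H.mul_mem (H.mul_mem hS hT) (H.inv_mem hS))

/-- coordinates -/
theorem ShortFrame.coords [Fintype J] [DecidableEq J] (h : ShortFrame Q e σ w) (x : V) :
    ∃ d : F, x = ∑ k, polar Q (e (σ k)) x • e k + d • w := by
  obtain ⟨d, hd⟩ := h.span (x - ∑ k, polar Q (e (σ k)) x • e k) (fun j => by
    rw [polar_sub_right]
    have h1 : polar Q (e j) (∑ k, polar Q (e (σ k)) x • e k) = polar Q (e j) x := by
      have h2 : ∀ y, polar Q (e j) y = polarBilin Q (e j) y := fun y => rfl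
      rw [h2, map_sum, Finset.sum_eq_single (σ j)]
      · rw [map_smul, ← h2, h.pair, h.inv, smul_eq_mul, mul_one]
      · intro k _ hk
        rw [map_smul, ← h2, h.perp _ _ hk, smul_zero]
      · intro hk
        exact absurd (Finset.mem_univ _) hk
    rw [h1, sub_self])
  exact ⟨d, by rw [← hd]; abel⟩

/-- step two : all Siegel transformations for `e j` -/
theorem ShortFrame.all [Fintype J] [DecidableEq J] (h : ShortFrame Q e σ w) (h2 : (2 : F) ≠ 0)
    (hH : ∀ (j : J) (c : F) (hw : polar Q (e j) (c • w) = 0), siegel Q (e j) (c • w) (h.sing j) hw ∈ H)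
    (j : J) {z : V} (hz : polar Q (e j) z = 0) : siegel Q (e j) z (h.sing j) hz ∈ H := by
  -- the good vectors
  let P : V → Prop := fun z => ∃ hz : polar Q (e j) z = 0, siegel Q (e j) z (h.sing j) hz ∈ H
  have hadd : ∀ x y, P x → P y → P (x + y) := by
    rintro x y ⟨hx, hx'⟩ ⟨hy, hy'⟩
    have hxy : polar Q (e j) (x + y) = 0 := by rw [polar_add_right, hx, hy, add_zero]
    exact ⟨hxy, by rw [← siegel_mul (h.sing j) hx hy hxy]; exact H.mul_mem hx' hy'⟩
  have hzero : P 0 := ⟨polar_zero_right _ _, by rw [siegel_zero_right]; exact H.one_mem⟩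
  obtain ⟨d, hd⟩ := h.coords z
  have hP : P z := by
    rw [hd]
    refine hadd _ _ ?_ ?_
    · refine Finset.sum_induction _ P hadd hzero fun k _ => ?_
      by_cases hk : k = σ j
      · have h3 : polar Q (e (σ k)) z = 0 := by rw [hk, h.inv]; exact hz
        rw [h3, zero_smul]
        exact hzero
      · have h3 : polar Q (e j) (polar Q (e (σ k)) z • e k) = 0 := by
          rw [polar_smul_right, h.perp _ _ hk, smul_zero]
        refine ⟨h3, ?_⟩
        by_cases hkj : k = j
        · subst hkj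
          rw [siegel_self]
          exact H.one_mem
        · exact h.long h2 hH hk _ h3
    · have h3 : polar Q (e j) (d • w) = 0 := by rw [polar_smul_right, h.pw, smul_zero]
      exact ⟨h3, hH j d h3⟩
  obtain ⟨_, h4⟩ := hP
  exact h4

/-- **the theorem** -/
theorem ShortFrame.top [Fintype J] [DecidableEq J] (h : ShortFrame Q e σ w) (h2 : (2 : F) ≠ 0)
    (hH : ∀ (j : J) (c : F) (hw : polar Q (e j) (c • w) = 0), siegel Q (e j) (c • w) (h.sing j) hw ∈ H) : E Q ≤ H := by
  rw [E, Subgroup.closure_le]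
  rintro _ ⟨x, z, hx, hz, rfl⟩
  by_cases hx0 : x = 0
  · subst hx0
    rw [siegel_zero_left]
    exact H.one_mem
  -- a basis vector not orthogonal to `x`
  obtain ⟨j, hj⟩ : ∃ j, polar Q (e j) x ≠ 0 := by
    by_contra hcon
    push Not at hcon
    obtain ⟨d, rfl⟩ := h.span x hcon
    rw [QuadraticMap.map_smul, smul_eq_mul] at hx
    rcases mul_eq_zero.1 hx with h3 | h3
    · exact hx0 (by rw [mul_self_eq_zero.1 h3, zero_smul])
    · exact h.w0 h3
  obtain ⟨c, hc⟩ : ∃ c, polar Q (e j) x = c := ⟨_, rfl⟩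
  rw [hc] at hj
  -- `x = c y`
  obtain ⟨y, rfl⟩ : ∃ y, x = c • y := ⟨c⁻¹ • x, by rw [smul_smul, mul_inv_cancel₀ hj, one_smul]⟩
  have hy1 : polar Q (e j) y = 1 := by
    rw [polar_smul_right, smul_eq_mul] at hc
    exact mul_left_cancel₀ hj (by rw [hc, mul_one])
  have hy : Q y = 0 := by
    rw [QuadraticMap.map_smul, smul_eq_mul] at hx
    rcases mul_eq_zero.1 hx with h3 | h3
    · exact absurd (mul_self_eq_zero.1 h3) hj
    · exact h3
  obtain ⟨p, hp⟩ : ∃ p, polar Q (e (σ j)) y = p := ⟨_, rfl⟩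
  have hjj : polar Q (e j) (e j) = 0 := polar_self_of_sing (h.sing j)
  have hss : polar Q (e (σ j)) (e (σ j)) = 0 := polar_self_of_sing (h.sing _)
  have hsj : polar Q (e (σ j)) (e j) = 1 := by rw [polar_comm]; exact h.pair j
  obtain ⟨v, hv⟩ : ∃ v, v = y - e (σ j) - p • e j := ⟨_, rfl⟩
  have hvy : y = e (σ j) + v + p • e j := by rw [hv]; abel
  have hv1 : polar Q (e j) v = 0 := by
    rw [hv, polar_sub_right, polar_sub_right, polar_smul_right, hy1, h.pair, hjj]
    simp
  have hv2 : polar Q (e (σ j)) v = 0 := by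
    rw [hv, polar_sub_right, polar_sub_right, polar_smul_right, hp, hss, hsj]
    simp
  have hpv : p = -Q v := by
    have h3 := hy
    rw [hvy, Q_add, Q_add, QuadraticMap.map_smul, h.sing, h.sing, polar_add_left, polar_smul_right, polar_smul_right,
      hv2, hsj, polar_comm _ v (e j), hv1] at h3
    simp only [smul_eq_mul, mul_zero, mul_one, add_zero, zero_add] at h3
    exact eq_neg_of_add_eq_zero_right h3
  obtain ⟨g, hg⟩ : ∃ g, g = siegel Q (e j) v (h.sing j) hv1 := ⟨_, rfl⟩
  have hgH : g ∈ H := by rw [hg]; exact h.all h2 hH j hv1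
  have hgO : g ∈ O Q := by rw [hg]; exact siegel_mem_O _ _
  have hgy : g (e (σ j)) = y := by
    have hv3 : polar Q v (e (σ j)) = 0 := by rw [polar_comm]; exact hv2
    rw [hg, siegel_apply, h.pair, hv3, hvy, hpv]
    simp only [one_smul, zero_smul, sub_zero, mul_one, neg_smul]
    abel
  obtain ⟨z', rfl⟩ := g.surjective z
  have hsz : polar Q (e (σ j)) (c • z') = 0 := by
    rw [polar_smul_left, ← hgy, polar_map hgO] at hz
    rw [polar_smul_right]
    exact hz
  have h3 : polar Q (g (e (σ j))) (g (c • z')) = 0 := by rw [polar_map hgO]; exact hsz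
  have h4 : Q (g (e (σ j))) = 0 := by rw [mem_O.1 hgO]; exact h.sing _
  have h5 : siegel Q (c • y) (g z') hx hz = g * siegel Q (e (σ j)) (c • z') (h.sing _) hsz * g⁻¹ := by
    rw [siegel_conj hgO (h.sing _) hsz h4 h3]
    have h6 : Q y = 0 := hy
    have h7 : polar Q y (c • g z') = 0 := by
      rw [polar_smul_right]
      rw [polar_smul_left] at hz
      exact hz
    rw [siegel_smul_left hx hz h6 h7]
    exact siegel_congr hgy.symm (map_smul g c z').symm _ _ _ _
  rw [h5]
  exact H.mul_mem (H.mul_mem hgH (h.all h2 hH _ hsz)) (H.inv_mem hgH)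

end Cfsg.Agent.H466.O8R
end

-- part: H466/O8R/PP
section
/-!
# S3691, `PΩ⁺₈(q)`, DATA-OM: `PW Q (pp Q c)`, short root elements (helper466)

`pp Q c` : the subspace orthogonal to the family `c`.
-/

set_option autoImplicit false

namespace Cfsg.Agent.H466.O8R

open QuadraticMap
open Cfsg.Agent.LieClassical.OrthCore

variable {F V : Type*} [Field F] [AddCommGroup V] [Module F V] {Q : QuadraticForm F V}

/-- the subspace orthogonal to `c` -/
def pp {κ : Type*} (Q : QuadraticForm F V) (c : κ → V) : Submodule F V := ⨅ k, LinearMap.ker (polarBilin Q (c k))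

theorem mem_pp {κ : Type*} {c : κ → V} {v : V} : v ∈ pp Q c ↔ ∀ k, polar Q (c k) v = 0 := by
  rw [pp, Submodule.mem_iInf]
  rfl

theorem map_pp {κ : Type*} {c : κ → V} {g : V ≃ₗ[F] V} (hg : g ∈ O Q) :
    (pp Q c).map (g : V →ₗ[F] V) = pp Q (fun k => g (c k)) := by
  ext v
  constructor
  · rintro ⟨x, hx, rfl⟩
    rw [mem_pp]
    intro k
    show polar Q (g (c k)) (g x) = 0
    rw [polar_map hg]
    exact mem_pp.1 hx k
  · intro hv
    obtain ⟨x, rfl⟩ := g.surjective v
    refine ⟨x, mem_pp.2 fun k => ?_, rfl⟩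
    rw [← polar_map hg]
    exact mem_pp.1 hv k

/-- `g M g⁻¹` for `M = Om Q (pp Q c)` -/
theorem map_Om_pp {κ : Type*} {c : κ → V} {g : V ≃ₗ[F] V} (hg : g ∈ O Q) :
    (Om Q (pp Q c)).map (MulAut.conj g).toMonoidHom = Om Q (pp Q fun k => g (c k)) := by
  rw [map_Om hg, map_pp hg]

/-- `PW (pp c)` stabilises `pp c'` if `c ⊥ c'` -/
theorem pp_stable {κ κ' : Type*} {c : κ → V} {c' : κ' → V} (hcc : ∀ k l, polar Q (c k) (c' l) = 0) {a : V ≃ₗ[F] V}
    (ha : a ∈ PW Q (pp Q c)) {v : V} (hv : v ∈ pp Q c') : a v ∈ pp Q c' := by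
  rw [mem_pp]
  intro l
  have h1 : a (c' l) = c' l := ha.2 _ (mem_pp.2 fun k => hcc k l)
  have h3 := polar_map ha.1 (c' l) v
  rw [h1] at h3
  rw [h3]
  exact mem_pp.1 hv l

/-- `PW (pp c)` and `PW (pp c')` commute if `c ⊥ c'` -/
theorem pp_comm {κ κ' : Type*} [Fintype κ] [DecidableEq κ] {c : κ → V} {c' : κ' → V} (h2 : (2 : F) ≠ 0)
    (hc : ∀ k, Q (c k) ≠ 0) (ho : ∀ k l, k ≠ l → polar Q (c k) (c l) = 0) (hcc : ∀ k l, polar Q (c k) (c' l) = 0)
    {a b : V ≃ₗ[F] V} (ha : a ∈ PW Q (pp Q c)) (hb : b ∈ PW Q (pp Q c')) : a * b = b * a := by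
  refine PW_comm ?_ ha hb (fun v hv => pp_stable hcc ha hv)
    (fun v hv => pp_stable (fun k l => by rw [polar_comm]; exact hcc l k) hb hv)
  rw [eq_top_iff]
  intro v _
  obtain ⟨z, hz⟩ : ∃ z, z = ∑ k, ((2 * Q (c k))⁻¹ * polar Q (c k) v) • c k := ⟨_, rfl⟩
  have h1 : z ∈ pp Q c' := by
    rw [hz]
    refine Submodule.sum_mem _ fun k _ => Submodule.smul_mem _ _ (mem_pp.2 fun l => ?_)
    rw [polar_comm]
    exact hcc k l
  have h3 : v - z ∈ pp Q c := by
    rw [mem_pp]
    intro k
    have h4 : polar Q (c k) z = polar Q (c k) v := by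
      have h5 : ∀ y, polar Q (c k) y = polarBilin Q (c k) y := fun y => rfl
      rw [h5, hz, map_sum, Finset.sum_eq_single k]
      · rw [map_smul, ← h5, polar_self', smul_eq_mul]
        have hk := hc k
        field_simp
      · intro l _ hl
        rw [map_smul, ← h5, ho k l (Ne.symm hl), smul_zero]
      · intro h6
        exact absurd (Finset.mem_univ _) h6
    rw [polar_sub_right, h4, sub_self]
  have h6 : v = (v - z) + z := by abel
  rw [h6]
  exact Submodule.add_mem_sup h3 h1

/-- a Siegel transformation is a product of two reflections -/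
theorem siegel_eq_refl {u w : V} (hu : Q u = 0) (hw : polar Q u w = 0) (h0 : Q w ≠ 0) (h1 : Q (w - Q w • u) ≠ 0) :
    siegel Q u w hu hw = refl Q (w - Q w • u) h1 * refl Q w h0 := by
  have hwu : polar Q w u = 0 := by rw [polar_comm]; exact hw
  have e : Q (w - Q w • u) = Q w := by
    rw [sub_eq_add_neg, Q_add, QuadraticMap.map_neg, QuadraticMap.map_smul, hu, polar_neg_right, polar_smul_right, hwu]
    simp
  ext x
  show _ = refl Q (w - Q w • u) h1 (refl Q w h0 x)
  rw [siegel_apply, refl_apply, refl_apply, e]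
  simp only [polar_sub_right, polar_sub_left, polar_smul_left, polar_smul_right, polar_self', smul_eq_mul, hw]
  match_scalars <;> field_simp <;> ring

/-- short root elements are commutators -/
theorem siegel_mem_Om {X : Submodule F V} {u w : V} (h2 : (2 : F) ≠ 0) (hu : Q u = 0) (hw : polar Q u w = 0) (h0 : Q w ≠ 0)
    (hX : ∀ x ∈ X, polar Q u x = 0 ∧ polar Q w x = 0) (c : F) (hc : polar Q u (c • w) = 0) :
    siegel Q u (c • w) hu hc ∈ Om Q X := by
  by_cases hc0 : c = 0
  · subst hc0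
    have h1 : siegel Q u ((0 : F) • w) hu hc = 1 := by
      have h3 : polar Q u (0 : V) = 0 := polar_zero_right _ _
      rw [siegel_congr rfl (zero_smul F w) hu hc hu h3, siegel_zero_right]
    rw [h1]
    exact (Om Q X).one_mem
  obtain ⟨w', hw'⟩ : ∃ w', w' = (c / 2) • w := ⟨_, rfl⟩
  have h3 : polar Q u w' = 0 := by rw [hw', polar_smul_right, hw, smul_zero]
  have hwu : polar Q w' u = 0 := by rw [polar_comm]; exact h3
  have h4 : Q w' ≠ 0 := by
    rw [hw', QuadraticMap.map_smul, smul_eq_mul]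
    exact mul_ne_zero (mul_ne_zero (div_ne_zero hc0 h2) (div_ne_zero hc0 h2)) h0
  have e : Q (w' - Q w' • u) = Q w' := by
    rw [sub_eq_add_neg, Q_add, QuadraticMap.map_neg, QuadraticMap.map_smul, hu, polar_neg_right, polar_smul_right, hwu]
    simp
  have h5 : Q (w' - Q w' • u) ≠ 0 := by rw [e]; exact h4
  have h6 : w' + w' = c • w := by
    rw [hw', ← add_smul]
    congr 1
    field_simp
    ring
  have h7 : polar Q u (w' + w') = 0 := by rw [h6]; exact hc
  have h8 : siegel Q u (c • w) hu hc = siegel Q u w' hu h3 * siegel Q u w' hu h3 := by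
    rw [siegel_mul hu h3 h3 h7]
    exact siegel_congr rfl h6.symm _ _ _ _
  have m1 : refl Q (w' - Q w' • u) h5 ∈ PW Q X := refl_mem_PW h5 fun x hx => by
    rw [hw', polar_sub_left, polar_smul_left, polar_smul_left, (hX x hx).1, (hX x hx).2]
    simp only [_root_.smul_eq_mul, _root_.MulZeroClass.mul_zero, _root_.sub_self]
  have m2 : refl Q w' h4 ∈ PW Q X := refl_mem_PW h4 fun x hx => by
    rw [hw', polar_smul_left, (hX x hx).2, smul_zero]
  have h9 := comm_mem m1 m2
  rw [refl_inv, refl_inv] at h9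
  rw [h8, siegel_eq_refl hu h3 h4 h5, ← mul_assoc]
  exact h9

end Cfsg.Agent.H466.O8R
end

-- part: H36/Om7/Defs
section
/-!
# S3691, row `PΩ⁺₈(q)`, SPIN: the data of `Ω₇(q)`: definitions (helper36)

* `Fr` : hyperbolic frame `u i`, `v i` (`i : Fin 3`), `w` of a space of dimension seven;
* `OY Q Y` : the isometries which are trivial on `Y^⊥`; `DY Q Y` : its commutator subgroup (`Ω(Y)`).
-/

set_option autoImplicit false

namespace Cfsg.Agent.H36.Om7

open QuadraticMap Cfsg.Agent.LieClassical.OrthCore Cfsg.Agent.LieClassical.OrthTrans Cfsg.Agent.H883.Sub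

variable {F V : Type*} [Field F] [AddCommGroup V] [Module F V]

/-- hyperbolic frame -/
structure Fr (Q : QuadraticForm F V) (u v : Fin 3 → V) (w : V) : Prop where
  u0 : ∀ i, Q (u i) = 0
  v0 : ∀ i, Q (v i) = 0
  w1 : Q w = 1
  uu : ∀ i j, polar Q (u i) (u j) = 0
  vv : ∀ i j, polar Q (v i) (v j) = 0
  uv : ∀ i j, polar Q (u i) (v j) = if i = j then 1 else 0
  uw : ∀ i, polar Q (u i) w = 0
  vw : ∀ i, polar Q (v i) w = 0
  span : Submodule.span F (Set.range u ∪ Set.range v ∪ {w}) = ⊤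

end Cfsg.Agent.H36.Om7
end

-- part: H466/O8R/GenTop
section
/-!
# S3691, `PΩ⁺₈(q)`, DATA-OM: `gen_top` (helper466)
-/

set_option autoImplicit false

namespace Cfsg.Agent.H466.O8R

open Module QuadraticMap Cfsg.Agent.LieClassical.OrthCore Cfsg.Agent.LieClassical.OrthTrans Cfsg.Agent.H883.Sub
open Cfsg.Agent.H36.Om7

variable {F V : Type*} [Field F] [AddCommGroup V] [Module F V] {Q : QuadraticForm F V}

/-- the frame of the short roots -/
theorem shortFrame_of_fr {u v : Fin 3 → V} {w : V} (fr : Fr Q u v w) : ShortFrame Q (Sum.elim u v) Sum.swap w where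
  inv j := Sum.swap_swap j
  ne j := by rcases j with j | j <;> simp [Sum.swap]
  sing j := by
    rcases j with j | j
    · exact fr.u0 j
    · exact fr.v0 j
  pair j := by
    rcases j with j | j
    · show polar Q (u j) (v j) = 1
      rw [fr.uv, if_pos rfl]
    · show polar Q (v j) (u j) = 1
      rw [polar_comm, fr.uv, if_pos rfl]
  perp j k h := by
    rcases j with j | j <;> rcases k with k | k
    · exact fr.uu j k
    · show polar Q (u j) (v k) = 0
      rw [fr.uv, if_neg]
      rintro rfl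
      exact h rfl
    · show polar Q (v j) (u k) = 0
      rw [polar_comm, fr.uv, if_neg]
      rintro rfl
      exact h rfl
    · exact fr.vv j k
  pw j := by
    rcases j with j | j
    · exact fr.uw j
    · exact fr.vw j
  w0 := by rw [fr.w1]; exact one_ne_zero
  span x hx := by
    have h1 : x ∈ Submodule.span F (Set.range u ∪ Set.range v ∪ {w}) := by rw [fr.span]; exact Submodule.mem_top
    rw [Submodule.span_union, Submodule.span_union, Submodule.mem_sup] at h1
    obtain ⟨y, hy, z, hz, rfl⟩ := h1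
    obtain ⟨y1, hy1, y2, hy2, rfl⟩ := Submodule.mem_sup.1 hy
    obtain ⟨c, rfl⟩ := (Submodule.mem_span_range_iff_exists_fun F).1 hy1
    obtain ⟨d, rfl⟩ := (Submodule.mem_span_range_iff_exists_fun F).1 hy2
    obtain ⟨t, rfl⟩ := Submodule.mem_span_singleton.1 hz
    have hb : ∀ a b, polar Q a b = polarBilin Q a b := fun a b => rfl
    have hc : ∀ i, c i = 0 := by
      intro i
      have h2 := hx (Sum.inr i)
      have h3 : polar Q (v i) (∑ i, c i • u i + ∑ i, d i • v i + t • w) = c i := by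
        rw [hb, map_add, map_add, map_sum, map_sum, map_smul]
        simp only [map_smul, smul_eq_mul]
        simp only [← hb, fr.vv, fr.vw, mul_zero, Finset.sum_const_zero, add_zero]
        rw [Finset.sum_eq_single i]
        · rw [polar_comm, fr.uv, if_pos rfl, mul_one]
        · intro j _ hj
          rw [polar_comm, fr.uv, if_neg hj, mul_zero]
        · intro h
          exact absurd (Finset.mem_univ _) h
      rw [← h3]
      exact h2
    have hd : ∀ i, d i = 0 := by
      intro i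
      have h2 := hx (Sum.inl i)
      have h3 : polar Q (u i) (∑ i, c i • u i + ∑ i, d i • v i + t • w) = d i := by
        rw [hb, map_add, map_add, map_sum, map_sum, map_smul]
        simp only [map_smul, smul_eq_mul]
        simp only [← hb, fr.uu, fr.uw, mul_zero, Finset.sum_const_zero, add_zero, zero_add]
        rw [Finset.sum_eq_single i]
        · rw [fr.uv, if_pos rfl, mul_one]
        · intro j _ hj
          rw [fr.uv, if_neg (Ne.symm hj), mul_zero]
        · intro h
          exact absurd (Finset.mem_univ _) h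
      rw [← h3]
      exact h2
    refine ⟨t, ?_⟩
    simp [hc, hd]

end Cfsg.Agent.H466.O8R
end

-- part: H292/O8R/OB
section
/-!
# Orthogonal bases (helper292)
-/

set_option autoImplicit false
set_option linter.unusedSectionVars false

namespace Cfsg.Agent.H292.O8R

open Module QuadraticMap Cfsg.Agent.LieClassical.OrthCore

variable {K V : Type*} [Field K] [AddCommGroup V] [Module K V] {Q : QuadraticForm K V}

section Basis

variable {ι : Type*} [Fintype ι]

theorem Q_sum_smul [DecidableEq ι] (x : ι → V) (hx : ∀ i j, i ≠ j → polar Q (x i) (x j) = 0) (f : ι → K) (s : Finset ι) :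
    Q (∑ i ∈ s, f i • x i) = ∑ i ∈ s, f i ^ 2 * Q (x i) := by
  induction s using Finset.induction_on with
  | empty => simp
  | insert a s ha ih =>
    rw [Finset.sum_insert ha, Finset.sum_insert ha, Q_add, ih, QuadraticMap.map_smul]
    have h : polar Q (f a • x a) (∑ i ∈ s, f i • x i) = 0 := by
      have h1 : ∀ t : Finset ι, a ∉ t → polar Q (f a • x a) (∑ i ∈ t, f i • x i) = 0 := by
        intro t
        induction t using Finset.induction_on with
        | empty => intro _; simp [polar_zero_right]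
        | insert c t hc ih2 =>
          intro hat
          rw [Finset.sum_insert hc, polar_add_right, ih2 (fun h => hat (Finset.mem_insert_of_mem h)), polar_smul_left,
            polar_smul_right, hx a c (fun h => hat (h ▸ Finset.mem_insert_self _ _))]
          simp
      exact h1 s ha
    rw [h]
    simp only [smul_eq_mul]
    ring

/-- `b` is an orthogonal basis with norms `a` -/
structure OB (Q : QuadraticForm K V) (b : Basis ι K V) (a : ι → K) : Prop where
  nrm : ∀ i, Q (b i) = a i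
  orth : ∀ i j, i ≠ j → polar Q (b i) (b j) = 0

variable {b : Basis ι K V} {a : ι → K}

theorem OB.Q_eq (h : OB Q b a) (v : V) : Q v = ∑ i, (b.repr v i) ^ 2 * a i := by
  classical
  conv_lhs => rw [← b.sum_repr v]
  rw [Q_sum_smul b h.orth]
  simp only [h.nrm]

/-- an isometry permuting the basis -/
theorem OB.perm_mem (h : OB Q b a) (σ : Equiv.Perm ι) (hσ : ∀ i, a (σ i) = a i) : b.equiv b σ ∈ O Q := by
  intro v
  have h1 : ∀ i, b.repr (b.equiv b σ v) (σ i) = b.repr v i := by
    intro i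
    have h2 : (b.reindex σ.symm).repr (b.equiv b σ v) = b.repr v := LinearEquiv.apply_symm_apply _ _
    have h3 := DFunLike.congr_fun h2 i
    rwa [Basis.repr_reindex_apply, Equiv.symm_symm] at h3
  rw [h.Q_eq, h.Q_eq v, ← Equiv.sum_comp σ]
  refine Finset.sum_congr rfl fun i _ => ?_
  rw [h1, hσ]

theorem OB.polar_eq_zero (h : OB Q b a) {i : ι} {x : V} (hx : b.repr x i = 0) : polar Q x (b i) = 0 := by
  classical
  have h1 : ∀ s : Finset ι, polar Q (∑ k ∈ s, b.repr x k • b k) (b i) = 0 := by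
    intro s
    induction s using Finset.induction_on with
    | empty => simp [polar_zero_left]
    | insert c t hc ih =>
      rw [Finset.sum_insert hc, polar_add_left, ih, polar_smul_left, add_zero]
      by_cases hci : c = i
      · subst hci
        rw [hx, zero_smul]
      · rw [h.orth c i hci, smul_zero]
  conv_lhs => rw [← b.sum_repr x]
  exact h1 Finset.univ

theorem OB.polar_eq (h : OB Q b a) (i : ι) (x : V) : polar Q x (b i) = 2 * a i * b.repr x i := by
  have h1 : b.repr (x - b.repr x i • b i) i = 0 := by simp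
  have h2 := h.polar_eq_zero h1
  rw [polar_sub_left, polar_smul_left, polar_self', h.nrm, sub_eq_zero] at h2
  rw [h2, smul_eq_mul]
  ring

theorem OB.repr_eq_zero (h : OB Q b a) (h2 : (2 : K) ≠ 0) {i : ι} (hi : a i ≠ 0) {x : V} (hx : polar Q x (b i) = 0) :
    b.repr x i = 0 := by
  rw [h.polar_eq] at hx
  exact (mul_eq_zero.1 hx).resolve_left (mul_ne_zero h2 hi)

/-- orthogonal vectors of nonzero norm form a basis -/
theorem exists_OB (h2 : (2 : K) ≠ 0) [FiniteDimensional K V] {v : ι → V} {a : ι → K} (h0 : ∀ i, a i ≠ 0) (hv : ∀ i, Q (v i) = a i)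
    (ho : ∀ i j, i ≠ j → polar Q (v i) (v j) = 0) (hc : Fintype.card ι = finrank K V) :
    ∃ b : Basis ι K V, (∀ i, b i = v i) ∧ OB Q b a := by
  classical
  have hl : LinearIndependent K v := by
    rw [Fintype.linearIndependent_iff]
    intro c hc0 k
    have h1 : ∀ s : Finset ι, polar Q (∑ i ∈ s, c i • v i) (v k) = if k ∈ s then 2 * a k * c k else 0 := by
      intro s
      induction s using Finset.induction_on with
      | empty => simp [polar_zero_left]
      | insert i s hi ih =>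
        rw [Finset.sum_insert hi, polar_add_left, ih, polar_smul_left, smul_eq_mul]
        by_cases hik : i = k
        · subst hik
          rw [polar_self', hv, if_neg hi, if_pos (Finset.mem_insert_self _ _)]
          ring
        · rw [ho i k hik, mul_zero, zero_add]
          have : k ∈ insert i s ↔ k ∈ s := by simp [Ne.symm hik]
          simp only [this]
    have h3 := h1 Finset.univ
    rw [hc0, polar_zero_left, if_pos (Finset.mem_univ _)] at h3
    exact (mul_eq_zero.1 h3.symm).resolve_left (mul_ne_zero h2 (h0 k))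
  have hn : Nonempty ι ∨ IsEmpty ι := (isEmpty_or_nonempty ι).symm
  rcases hn with hn | hn
  · refine ⟨basisOfLinearIndependentOfCardEqFinrank hl hc, fun i => ?_, ?_, ?_⟩
    · simp
    · intro i; simp [hv]
    · intro i j hij; simp [ho i j hij]
  · have h3 : finrank K V = 0 := by rw [← hc]; exact Fintype.card_eq_zero
    have : Subsingleton V := finrank_zero_iff.1 h3
    exact ⟨Basis.empty V, fun i => isEmptyElim i, fun i => isEmptyElim i, fun i => isEmptyElim i⟩

end Basis

theorem equiv_apply' {ι : Type*} (b : Basis ι K V) (σ : Equiv.Perm ι) (i : ι) : b.equiv b σ (b i) = b (σ i) := b.equiv_apply i b σ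

theorem equiv_mul {ι : Type*} (b : Basis ι K V) (σ τ : Equiv.Perm ι) : b.equiv b (σ * τ) = b.equiv b σ * b.equiv b τ := by
  refine LinearEquiv.toLinearMap_injective (b.ext fun i => ?_)
  show b.equiv b (σ * τ) (b i) = b.equiv b σ (b.equiv b τ (b i))
  rw [equiv_apply', equiv_apply', equiv_apply']
  rfl

theorem equiv_one {ι : Type*} (b : Basis ι K V) : b.equiv b (1 : Equiv.Perm ι) = 1 := by
  refine LinearEquiv.toLinearMap_injective (b.ext fun i => ?_)
  show b.equiv b 1 (b i) = b i
  rw [equiv_apply']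
  rfl

theorem equiv_pow {ι : Type*} (b : Basis ι K V) (σ : Equiv.Perm ι) (n : ℕ) : (b.equiv b σ) ^ n = b.equiv b (σ ^ n) := by
  induction n with
  | zero => rw [pow_zero, pow_zero, equiv_one]
  | succ n ih => rw [pow_succ, pow_succ, ih, equiv_mul]

end Cfsg.Agent.H292.O8R
end

-- part: H466/O8R/Gs
section
/-!
# S3691, `PΩ⁺₈(q)`, DATA-OM: `M`, `s`, `g`, links, generation (helper466)

`a i = u i + v i`, `b i = u i - v i`; `M = Om Q (pp Q ![w, a 0, b 0])`.
-/

set_option autoImplicit false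

namespace Cfsg.Agent.H466.O8R

open Module QuadraticMap Cfsg.Agent.LieClassical.OrthCore
open Cfsg.Agent.H36.Om7 Cfsg.Agent.H292.O8R

variable {F V : Type*} [Field F] [AddCommGroup V] [Module F V] {Q : QuadraticForm F V}

section defs

variable (u v : Fin 3 → V) (w : V)

/-- the vectors of norm one -/
def av (i : Fin 3) : V := u i + v i

/-- the vectors of norm minus one -/
def bv (i : Fin 3) : V := u i - v i

/-- `w, a i, b j` -/
def tr3 (i j : Fin 3) : Fin 3 → V := ![w, av u v i, bv u v j]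

/-- the orthogonal basis `w, a i, b i` -/
def ov : Unit ⊕ (Fin 3 ⊕ Fin 3) → V := Sum.elim (fun _ => w) (Sum.elim (av u v) (bv u v))

/-- the norms -/
def on (F : Type*) [Field F] : Unit ⊕ (Fin 3 ⊕ Fin 3) → F := Sum.elim (fun _ => 1) (Sum.elim (fun _ => 1) (fun _ => -1))

/-- the permutation `a k ↦ a (k + i)`, `b k ↦ b (k + j)` -/
def sg (i j : Fin 3) : Equiv.Perm (Unit ⊕ (Fin 3 ⊕ Fin 3)) :=
  Equiv.sumCongr (Equiv.refl _) (Equiv.sumCongr (Equiv.addRight i) (Equiv.addRight j))

end defs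

variable {u v : Fin 3 → V} {w : V}

theorem ov_norm (fr : Fr Q u v w) (i : Unit ⊕ (Fin 3 ⊕ Fin 3)) : Q (ov u v w i) = on F i := by
  rcases i with i | i | i
  · exact fr.w1
  · show Q (u i + v i) = 1
    rw [Q_add, fr.u0, fr.v0, fr.uv, if_pos rfl]
    simp
  · show Q (u i - v i) = -1
    rw [sub_eq_add_neg, Q_add, QuadraticMap.map_neg, fr.u0, fr.v0, polar_neg_right, fr.uv, if_pos rfl]
    simp

theorem ov_orth (fr : Fr Q u v w) (i j : Unit ⊕ (Fin 3 ⊕ Fin 3)) (h : i ≠ j) : polar Q (ov u v w i) (ov u v w j) = 0 := by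
  have vu : ∀ i j, polar Q (v i) (u j) = if i = j then 1 else 0 := fun i j => by
    rw [polar_comm, fr.uv]
    simp only [eq_comm]
  have wu : ∀ i, polar Q w (u i) = 0 := fun i => by rw [polar_comm]; exact fr.uw i
  have wv : ∀ i, polar Q w (v i) = 0 := fun i => by rw [polar_comm]; exact fr.vw i
  rcases i with i | i | i <;> rcases j with j | j | j
  · exact absurd rfl h
  · show polar Q w (u j + v j) = 0
    rw [polar_add_right, wu, wv, add_zero]
  · show polar Q w (u j - v j) = 0
    rw [polar_sub_right, wu, wv, sub_zero]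
  · show polar Q (u i + v i) w = 0
    rw [polar_add_left, fr.uw, fr.vw, add_zero]
  · have hij : i ≠ j := fun h1 => h (by rw [h1])
    show polar Q (u i + v i) (u j + v j) = 0
    rw [polar_add_left, polar_add_right, polar_add_right, fr.uu, fr.vv, fr.uv, vu, if_neg hij]
    simp
  · show polar Q (u i + v i) (u j - v j) = 0
    rw [polar_add_left, polar_sub_right, polar_sub_right, fr.uu, fr.vv, fr.uv, vu]
    ring
  · show polar Q (u i - v i) w = 0
    rw [polar_sub_left, fr.uw, fr.vw, sub_zero]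
  · show polar Q (u i - v i) (u j + v j) = 0
    rw [polar_sub_left, polar_add_right, polar_add_right, fr.uu, fr.vv, fr.uv, vu]
    ring
  · have hij : i ≠ j := fun h1 => h (by rw [h1])
    show polar Q (u i - v i) (u j - v j) = 0
    rw [polar_sub_left, polar_sub_right, polar_sub_right, fr.uu, fr.vv, fr.uv, vu, if_neg hij]
    simp

theorem on_ne (i : Unit ⊕ (Fin 3 ⊕ Fin 3)) : on F i ≠ 0 := by
  rcases i with i | i | i
  · exact one_ne_zero
  · exact one_ne_zero
  · exact neg_ne_zero.2 one_ne_zero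

theorem exists_basis (h2 : (2 : F) ≠ 0) (hd : finrank F V = 7) (fr : Fr Q u v w) :
    ∃ B : Basis (Unit ⊕ (Fin 3 ⊕ Fin 3)) F V, (∀ i, B i = ov u v w i) ∧ OB Q B (on F) := by
  have : FiniteDimensional F V := Module.finite_of_finrank_pos (by omega)
  exact exists_OB h2 on_ne (ov_norm fr) (ov_orth fr) (by simp [hd])

theorem sg_pow (i j : Fin 3) : sg i j ^ 3 = 1 := by
  revert i j
  decide +kernel

/-- the permutation isometries -/
theorem exists_g (h2 : (2 : F) ≠ 0) (hd : finrank F V = 7) (fr : Fr Q u v w) :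
    ∃ G : Fin 3 → Fin 3 → (V ≃ₗ[F] V), G 0 0 = 1 ∧ (∀ i j, G i j ∈ O Q) ∧ (∀ i j, G i j ^ 3 = 1) ∧
      ∀ i j k, G i j w = w ∧ G i j (av u v k) = av u v (k + i) ∧ G i j (bv u v k) = bv u v (k + j) := by
  obtain ⟨B, hB, ob⟩ := exists_basis h2 hd fr
  refine ⟨fun i j => B.equiv B (sg i j), ?_, ?_, ?_, ?_⟩
  · have h1 : sg 0 0 = 1 := by decide
    show B.equiv B (sg 0 0) = 1
    rw [h1, equiv_one]
  · intro i j
    refine ob.perm_mem _ fun k => ?_
    rcases k with k | k | k <;> rfl
  · intro i j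
    show (B.equiv B (sg i j)) ^ 3 = 1
    rw [equiv_pow, sg_pow, equiv_one]
  · intro i j k
    refine ⟨?_, ?_, ?_⟩
    · have h1 := equiv_apply' B (sg i j) (Sum.inl ())
      have h3 : sg i j (Sum.inl ()) = Sum.inl () := rfl
      rw [h3, hB] at h1
      exact h1
    · have h1 := equiv_apply' B (sg i j) (Sum.inr (Sum.inl k))
      have h3 : sg i j (Sum.inr (Sum.inl k)) = Sum.inr (Sum.inl (k + i)) := rfl
      rw [h3, hB, hB] at h1
      exact h1
    · have h1 := equiv_apply' B (sg i j) (Sum.inr (Sum.inr k))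
      have h3 : sg i j (Sum.inr (Sum.inr k)) = Sum.inr (Sum.inr (k + j)) := rfl
      rw [h3, hB, hB] at h1
      exact h1

/-- `M` and its conjugates -/
def MM (Q : QuadraticForm F V) (u v : Fin 3 → V) (w : V) (i j : Fin 3) : Subgroup (V ≃ₗ[F] V) := Om Q (pp Q (tr3 u v w i j))

theorem MM_conj {i j : Fin 3} {g : V ≃ₗ[F] V} (hg : g ∈ O Q) (hw : g w = w) (ha : g (av u v 0) = av u v i)
    (hb : g (bv u v 0) = bv u v j) : (MM Q u v w 0 0).map (MulAut.conj g).toMonoidHom = MM Q u v w i j := by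
  unfold MM
  rw [map_Om_pp hg]
  congr 2
  funext k
  fin_cases k
  · exact hw
  · exact ha
  · exact hb

theorem mem_tr3 {i j : Fin 3} {x : V} (hx : x ∈ pp Q (tr3 u v w i j)) :
    polar Q w x = 0 ∧ polar Q (av u v i) x = 0 ∧ polar Q (bv u v j) x = 0 :=
  ⟨mem_pp.1 hx 0, mem_pp.1 hx 1, mem_pp.1 hx 2⟩

/-- the link elements -/
theorem link_a [Finite F] (h2 : (2 : F) ≠ 0) (hF : 6 ≤ Nat.card F) (fr : Fr Q u v w) (i : Fin 3) :
    ∃ x : V ≃ₗ[F] V, x ^ 2 ≠ 1 ∧ ∀ j, x ∈ MM Q u v w i j := by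
  have h1 : Q w ≠ 0 := by rw [fr.w1]; exact one_ne_zero
  have h3 : Q (av u v i) ≠ 0 := by
    have := ov_norm fr (Sum.inr (Sum.inl i))
    rw [show av u v i = ov u v w (Sum.inr (Sum.inl i)) from rfl, this]
    exact on_ne _
  have h4 : polar Q w (av u v i) = 0 := ov_orth fr (Sum.inl ()) (Sum.inr (Sum.inl i)) (by simp)
  obtain ⟨x, hx, h5⟩ := exists_link h2 hF h1 h3 h4
  exact ⟨x, hx, fun j => h5 _ fun y hy => ⟨(mem_tr3 hy).1, (mem_tr3 hy).2.1⟩⟩

theorem link_b [Finite F] (h2 : (2 : F) ≠ 0) (hF : 6 ≤ Nat.card F) (fr : Fr Q u v w) (j : Fin 3) :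
    ∃ x : V ≃ₗ[F] V, x ^ 2 ≠ 1 ∧ ∀ i, x ∈ MM Q u v w i j := by
  have h1 : Q w ≠ 0 := by rw [fr.w1]; exact one_ne_zero
  have h3 : Q (bv u v j) ≠ 0 := by
    have := ov_norm fr (Sum.inr (Sum.inr j))
    rw [show bv u v j = ov u v w (Sum.inr (Sum.inr j)) from rfl, this]
    exact on_ne _
  have h4 : polar Q w (bv u v j) = 0 := ov_orth fr (Sum.inl ()) (Sum.inr (Sum.inr j)) (by simp)
  obtain ⟨x, hx, h5⟩ := exists_link h2 hF h1 h3 h4
  exact ⟨x, hx, fun i => h5 _ fun y hy => ⟨(mem_tr3 hy).1, (mem_tr3 hy).2.2⟩⟩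

/-- generation -/
theorem top_MM (h2 : (2 : F) ≠ 0) (fr : Fr Q u v w) {H : Subgroup (V ≃ₗ[F] V)} (hH : ∀ i, MM Q u v w i i ≤ H) :
    E Q ≤ H := by
  have hw : Q w ≠ 0 := by rw [fr.w1]; exact one_ne_zero
  have key : ∀ j, ∀ x ∈ pp Q (tr3 u v w j j), polar Q w x = 0 ∧ polar Q (u j) x = 0 ∧ polar Q (v j) x = 0 := by
    intro j x hx
    obtain ⟨h3, h4, h5⟩ := mem_tr3 hx
    have h4' : polar Q (u j) x + polar Q (v j) x = 0 := by rw [← polar_add_left]; exact h4
    have h5' : polar Q (u j) x - polar Q (v j) x = 0 := by rw [← polar_sub_left]; exact h5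
    refine ⟨h3, ?_, ?_⟩
    · have h6 : 2 * polar Q (u j) x = 0 := by linear_combination h4' + h5'
      exact (mul_eq_zero.1 h6).resolve_left h2
    · have h6 : 2 * polar Q (v j) x = 0 := by linear_combination h4' - h5'
      exact (mul_eq_zero.1 h6).resolve_left h2
  refine (shortFrame_of_fr fr).top h2 fun j c hc => ?_
  rcases j with j | j
  · exact hH j (siegel_mem_Om h2 (fr.u0 j) (fr.uw j) hw (fun x hx => ⟨(key j x hx).2.1, (key j x hx).1⟩) c hc)
  · exact hH j (siegel_mem_Om h2 (fr.v0 j) (fr.vw j) hw (fun x hx => ⟨(key j x hx).2.2, (key j x hx).1⟩) c hc)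

/-! ### `s` -/

theorem exists_sq_add_sq [Finite F] (h2 : (2 : F) ≠ 0) : ∃ x y : F, x ^ 2 + y ^ 2 = -1 := by
  have hft : Fintype F := Fintype.ofFinite F
  have hodd : Fintype.card F % 2 = 1 := by
    refine FiniteField.odd_card_of_char_ne_two ?_
    intro h
    have h3 : ((2 : ℕ) : F) = 0 := by
      rw [← h]
      exact ringChar.Nat.cast_ringChar
    exact h2 (by exact_mod_cast h3)
  obtain ⟨x, y, h⟩ := FiniteField.exists_root_sum_quadratic (R := F) (f := Polynomial.X ^ 2) (g := Polynomial.X ^ 2 + Polynomial.C 1)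
    (by rw [Polynomial.degree_X_pow]; rfl) (by rw [Polynomial.degree_X_pow_add_C (by norm_num)]; rfl) hodd
  refine ⟨x, y, ?_⟩
  simp only [Polynomial.eval_pow, Polynomial.eval_X, Polynomial.eval_add, Polynomial.eval_C] at h
  linear_combination h

/-- the second orthogonal basis : norms `-1` -/
def fv (u v : Fin 3 → V) (w : V) (x y : F) : Fin 7 → V :=
  ![x • w + y • av u v 0, (-y) • w + x • av u v 0, bv u v 0, x • av u v 1 + y • av u v 2, (-y) • av u v 1 + x • av u v 2,
    bv u v 1, bv u v 2]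

/-- `s` : `w ↦ a 1`, `a 0 ↦ a 2`, `b 0 ↦ b 1` -/
theorem exists_s [Finite F] (h2 : (2 : F) ≠ 0) (hd : finrank F V = 7) (fr : Fr Q u v w) :
    ∃ s : V ≃ₗ[F] V, s ∈ O Q ∧ s ^ 7 = 1 ∧ s w = av u v 1 ∧ s (av u v 0) = av u v 2 ∧ s (bv u v 0) = bv u v 1 := by
  obtain ⟨x, y, hxy⟩ := exists_sq_add_sq (F := F) h2
  have : FiniteDimensional F V := Module.finite_of_finrank_pos (by omega)
  have hw : Q w = 1 := fr.w1
  have ha : ∀ i, Q (av u v i) = 1 := fun i => ov_norm fr (Sum.inr (Sum.inl i))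
  have hb : ∀ i, Q (bv u v i) = -1 := fun i => ov_norm fr (Sum.inr (Sum.inr i))
  have wa : ∀ i, polar Q w (av u v i) = 0 := fun i => ov_orth fr (Sum.inl ()) (Sum.inr (Sum.inl i)) (by simp)
  have aw : ∀ i, polar Q (av u v i) w = 0 := fun i => ov_orth fr (Sum.inr (Sum.inl i)) (Sum.inl ()) (by simp)
  have wb : ∀ i, polar Q w (bv u v i) = 0 := fun i => ov_orth fr (Sum.inl ()) (Sum.inr (Sum.inr i)) (by simp)
  have bw : ∀ i, polar Q (bv u v i) w = 0 := fun i => ov_orth fr (Sum.inr (Sum.inr i)) (Sum.inl ()) (by simp)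
  have ab : ∀ i j, polar Q (av u v i) (bv u v j) = 0 := fun i j =>
    ov_orth fr (Sum.inr (Sum.inl i)) (Sum.inr (Sum.inr j)) (by simp)
  have ba : ∀ i j, polar Q (bv u v i) (av u v j) = 0 := fun i j =>
    ov_orth fr (Sum.inr (Sum.inr i)) (Sum.inr (Sum.inl j)) (by simp)
  have aa : ∀ i j, polar Q (av u v i) (av u v j) = if i = j then 2 else 0 := by
    intro i j
    split_ifs with h
    · rw [h, polar_self', ha, mul_one]
    · exact ov_orth fr (Sum.inr (Sum.inl i)) (Sum.inr (Sum.inl j)) (by simpa using h)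
  have bb : ∀ i j, i ≠ j → polar Q (bv u v i) (bv u v j) = 0 := fun i j h =>
    ov_orth fr (Sum.inr (Sum.inr i)) (Sum.inr (Sum.inr j)) (by simpa using h)
  have ww : polar Q w w = 2 := by rw [polar_self', hw, mul_one]
  have hn : ∀ i, Q (fv u v w x y i) = (fun _ : Fin 7 => (-1 : F)) i := by
    intro i
    fin_cases i
    · show Q (x • w + y • av u v 0) = -1
      rw [Q_add, QuadraticMap.map_smul, QuadraticMap.map_smul, polar_smul_left, polar_smul_right, hw, ha, wa]
      simp only [smul_eq_mul]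
      linear_combination hxy
    · show Q ((-y) • w + x • av u v 0) = -1
      rw [Q_add, QuadraticMap.map_smul, QuadraticMap.map_smul, polar_smul_left, polar_smul_right, hw, ha, wa]
      simp only [smul_eq_mul]
      linear_combination hxy
    · exact hb 0
    · show Q (x • av u v 1 + y • av u v 2) = -1
      rw [Q_add, QuadraticMap.map_smul, QuadraticMap.map_smul, polar_smul_left, polar_smul_right, ha, ha, aa,
        if_neg (by decide)]
      simp only [smul_eq_mul]
      linear_combination hxy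
    · show Q ((-y) • av u v 1 + x • av u v 2) = -1
      rw [Q_add, QuadraticMap.map_smul, QuadraticMap.map_smul, polar_smul_left, polar_smul_right, ha, ha, aa,
        if_neg (by decide)]
      simp only [smul_eq_mul]
      linear_combination hxy
    · exact hb 1
    · exact hb 2
  have b01 := bb 0 1 (by decide)
  have b02 := bb 0 2 (by decide)
  have b12 := bb 1 2 (by decide)
  have b10 := bb 1 0 (by decide)
  have b20 := bb 2 0 (by decide)
  have b21 := bb 2 1 (by decide)
  have ho : ∀ i j, i ≠ j → polar Q (fv u v w x y i) (fv u v w x y j) = 0 := by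
    intro i j hij
    fin_cases i <;> fin_cases j <;>
    first
    | exact absurd rfl hij
    | (simp only [fv, Matrix.cons_val, Matrix.cons_val_zero, Matrix.cons_val_one, Fin.mk_one, Fin.zero_eta, Fin.isValue,
        Fin.reduceFinMk, polar_add_left, polar_add_right,
        polar_smul_left, polar_smul_right, wa, aw, wb, bw, ab, ba, aa, ww, b01, b02, b12, b10, b20, b21, smul_eq_mul]
       try simp
       try ring)
  obtain ⟨B, hB, ob⟩ := exists_OB h2 (fun _ => neg_ne_zero.2 one_ne_zero) hn ho (by simp [hd])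
  let σ : Equiv.Perm (Fin 7) := Equiv.addRight 3
  have hσ : σ ^ 7 = 1 := by decide
  have h0 := equiv_apply' B σ 0
  have h1 := equiv_apply' B σ 1
  have h3 := equiv_apply' B σ 2
  rw [show σ 0 = 3 from rfl, hB, hB] at h0
  rw [show σ 1 = 4 from rfl, hB, hB] at h1
  rw [show σ 2 = 5 from rfl, hB, hB] at h3
  refine ⟨B.equiv B σ, ob.perm_mem σ fun i => rfl, ?_, ?_, ?_, ?_⟩
  · rw [equiv_pow, hσ, equiv_one]
  · have e1 : w = (-x) • fv u v w x y 0 + y • fv u v w x y 1 := by
      show w = (-x) • (x • w + y • av u v 0) + y • ((-y) • w + x • av u v 0)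
      have : (-x) • (x • w + y • av u v 0) + y • ((-y) • w + x • av u v 0) = (-(x ^ 2 + y ^ 2)) • w := by module
      rw [this, hxy, neg_neg, one_smul]
    conv_lhs => rw [e1]
    rw [map_add, map_smul, map_smul, h0, h1]
    show (-x) • (x • av u v 1 + y • av u v 2) + y • ((-y) • av u v 1 + x • av u v 2) = av u v 1
    have : (-x) • (x • av u v 1 + y • av u v 2) + y • ((-y) • av u v 1 + x • av u v 2) = (-(x ^ 2 + y ^ 2)) • av u v 1 := by
      module
    rw [this, hxy, neg_neg, one_smul]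
  · have e1 : av u v 0 = (-y) • fv u v w x y 0 + (-x) • fv u v w x y 1 := by
      show av u v 0 = (-y) • (x • w + y • av u v 0) + (-x) • ((-y) • w + x • av u v 0)
      have : (-y) • (x • w + y • av u v 0) + (-x) • ((-y) • w + x • av u v 0) = (-(x ^ 2 + y ^ 2)) • av u v 0 := by module
      rw [this, hxy, neg_neg, one_smul]
    conv_lhs => rw [e1]
    rw [map_add, map_smul, map_smul, h0, h1]
    show (-y) • (x • av u v 1 + y • av u v 2) + (-x) • ((-y) • av u v 1 + x • av u v 2) = av u v 2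
    have : (-y) • (x • av u v 1 + y • av u v 2) + (-x) • ((-y) • av u v 1 + x • av u v 2) = (-(x ^ 2 + y ^ 2)) • av u v 2 := by
      module
    rw [this, hxy, neg_neg, one_smul]
  · exact h3

/-- `M` and `s M s⁻¹` commute -/
theorem s_comm (h2 : (2 : F) ≠ 0) (fr : Fr Q u v w) {s : V ≃ₗ[F] V} (hs : s ∈ O Q)
    (hw : s w = av u v 1) (ha : s (av u v 0) = av u v 2) (hb : s (bv u v 0) = bv u v 1) {x y : V ≃ₗ[F] V}
    (hx : x ∈ MM Q u v w 0 0) (hy : y ∈ MM Q u v w 0 0) : x * (s * y * s⁻¹) = (s * y * s⁻¹) * x := by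
  have hc : ∀ k, Q (tr3 u v w 0 0 k) ≠ 0 := by
    intro k
    fin_cases k
    · exact (ov_norm fr (Sum.inl ())).trans_ne (on_ne _)
    · exact (ov_norm fr (Sum.inr (Sum.inl 0))).trans_ne (on_ne _)
    · exact (ov_norm fr (Sum.inr (Sum.inr 0))).trans_ne (on_ne _)
  have ho : ∀ k l, k ≠ l → polar Q (tr3 u v w 0 0 k) (tr3 u v w 0 0 l) = 0 := by
    intro k l hkl
    fin_cases k <;> fin_cases l
    · exact absurd rfl hkl
    · exact ov_orth fr (Sum.inl ()) (Sum.inr (Sum.inl 0)) (by simp)
    · exact ov_orth fr (Sum.inl ()) (Sum.inr (Sum.inr 0)) (by simp)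
    · exact ov_orth fr (Sum.inr (Sum.inl 0)) (Sum.inl ()) (by simp)
    · exact absurd rfl hkl
    · exact ov_orth fr (Sum.inr (Sum.inl 0)) (Sum.inr (Sum.inr 0)) (by simp)
    · exact ov_orth fr (Sum.inr (Sum.inr 0)) (Sum.inl ()) (by simp)
    · exact ov_orth fr (Sum.inr (Sum.inr 0)) (Sum.inr (Sum.inl 0)) (by simp)
    · exact absurd rfl hkl
  have hcc : ∀ k l, polar Q (tr3 u v w 0 0 k) (s (tr3 u v w 0 0 l)) = 0 := by
    intro k l
    fin_cases l
    · show polar Q _ (s w) = 0
      rw [hw]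
      fin_cases k
      · exact ov_orth fr (Sum.inl ()) (Sum.inr (Sum.inl 1)) (by simp)
      · exact ov_orth fr (Sum.inr (Sum.inl 0)) (Sum.inr (Sum.inl 1)) (by simp)
      · exact ov_orth fr (Sum.inr (Sum.inr 0)) (Sum.inr (Sum.inl 1)) (by simp)
    · show polar Q _ (s (av u v 0)) = 0
      rw [ha]
      fin_cases k
      · exact ov_orth fr (Sum.inl ()) (Sum.inr (Sum.inl 2)) (by simp)
      · exact ov_orth fr (Sum.inr (Sum.inl 0)) (Sum.inr (Sum.inl 2)) (by simp)
      · exact ov_orth fr (Sum.inr (Sum.inr 0)) (Sum.inr (Sum.inl 2)) (by simp)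
    · show polar Q _ (s (bv u v 0)) = 0
      rw [hb]
      fin_cases k
      · exact ov_orth fr (Sum.inl ()) (Sum.inr (Sum.inr 1)) (by simp)
      · exact ov_orth fr (Sum.inr (Sum.inl 0)) (Sum.inr (Sum.inr 1)) (by simp)
      · exact ov_orth fr (Sum.inr (Sum.inr 0)) (Sum.inr (Sum.inr 1)) (by simp)
  have h1 : s * y * s⁻¹ ∈ Om Q (pp Q fun k => s (tr3 u v w 0 0 k)) := by
    rw [← map_Om_pp hs]
    exact ⟨y, hy, rfl⟩
  exact pp_comm h2 hc ho hcc (Om_le_PW hx) (Om_le_PW h1)

end Cfsg.Agent.H466.O8R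
end

-- part: H885/O8R/Sub
section
/-!
# S3691, `PΩ⁺₈(q)`, data of `Ω₇(q)`: subspace groups (helper885)

* `Sub Q q p j κ` : `j : U → V` is a similitude of ratio `κ` from `q` to `Q`, `p` the orthogonal projection;
* `Sub.map_O`, `Sub.map_comm` : `PW Q (ker p)` and `Om Q (ker p)` are the images of `O q`, `⁅O q, O q⁆`;
* `Sub.perfect`, `Sub.normal` : if `dim U ≥ 5`.
-/

set_option autoImplicit false
set_option linter.unusedSectionVars false

namespace Cfsg.Agent.H885.O8R

open Cfsg QuadraticMap Module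
open Cfsg.Agent.LieClassical.OrthCore Cfsg.Agent.LieClassical.OrthTrans Cfsg.Agent.LieClassical.OrthForms
  Cfsg.Agent.LieClassical.OrthFinite Cfsg.Agent.LieClassical.OrthSimple
open Cfsg.Agent.H16.SN (glue glue_apply glue_j glue_ker glue_injective)
open Cfsg.Agent.H466.O8R

section

variable {F U V : Type*} [Field F] [AddCommGroup U] [Module F U] [AddCommGroup V] [Module F V]
  {Q : QuadraticForm F V} {q : QuadraticForm F U} {p : V →ₗ[F] U} {j : U →ₗ[F] V} {κ : F}

/-- `j` embeds `(U, κ q)` in `(V, Q)`, `p` is the orthogonal projection -/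
structure Sub (Q : QuadraticForm F V) (q : QuadraticForm F U) (p : V →ₗ[F] U) (j : U →ₗ[F] V) (κ : F) : Prop where
  pj : ∀ u, p (j u) = u
  ne : κ ≠ 0
  form : ∀ u, Q (j u) = κ * q u
  perp : ∀ r, p r = 0 → ∀ u, polar Q (j u) r = 0

theorem Sub.sub_ker (h : Sub Q q p j κ) (v : V) : p (v - j (p v)) = 0 := by
  rw [map_sub, h.pj, sub_self]

theorem Sub.eq_j (h : Sub Q q p j κ) (hQ : Nondeg Q) {v : V} (hv : ∀ r, p r = 0 → polar Q v r = 0) : j (p v) = v := by
  have h0 := h.sub_ker v
  set r := v - j (p v) with hr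
  have h1 : r = 0 := by
    apply hQ
    intro z
    have h2 : z = j (p z) + (z - j (p z)) := by abel
    have h3 := h.sub_ker z
    rw [h2, polar_add_right, polar_comm Q r, h.perp r h0, zero_add, hr, polar_sub_left, hv _ h3, h.perp _ h3, sub_zero]
  rw [hr, sub_eq_zero] at h1
  exact h1.symm

theorem Sub.glue_mem_O (h : Sub Q q p j κ) {A : U ≃ₗ[F] U} (hA : A ∈ O q) : glue p j h.pj A ∈ O Q := by
  rw [mem_O] at hA ⊢
  intro v
  have h3 := h.sub_ker v
  have h4 : ∀ u, Q (j u + (v - j (p v))) = κ * q u + Q (v - j (p v)) := by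
    intro u
    rw [Q_add, h.perp _ h3, h.form, add_zero]
  rw [glue_apply, h4, hA, ← h4, add_sub_cancel]

theorem Sub.map_O (h : Sub Q q p j κ) (hQ : Nondeg Q) : (O q).map (glue p j h.pj) = PW Q (LinearMap.ker p) := by
  apply le_antisymm
  · rintro _ ⟨A, hA, rfl⟩
    exact ⟨h.glue_mem_O hA, fun r hr => glue_ker h.pj A hr⟩
  · rintro a ⟨ha, ha'⟩
    have key : ∀ b : V ≃ₗ[F] V, b ∈ PW Q (LinearMap.ker p) → ∀ u, j (p (b (j u))) = b (j u) := by
      rintro b ⟨hb, hb'⟩ u
      apply h.eq_j hQ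
      intro r hr
      rw [← h.perp r hr u, ← polar_map hb (j u) r, hb' r hr]
    let A : U ≃ₗ[F] U := LinearEquiv.ofLinearMap (p ∘ₗ a.toLinearMap ∘ₗ j) (p ∘ₗ (a⁻¹ : V ≃ₗ[F] V).toLinearMap ∘ₗ j)
      (by
        apply LinearMap.ext
        intro t
        change p (a (j (p (a⁻¹ (j t))))) = t
        rw [key _ (inv_mem ⟨ha, ha'⟩)]
        have h1 : ∀ v, a (a⁻¹ v) = v := fun v => a.apply_symm_apply v
        rw [h1, h.pj])
      (by
        apply LinearMap.ext
        intro t
        change p (a⁻¹ (j (p (a (j t))))) = t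
        rw [key _ ⟨ha, ha'⟩]
        have h1 : ∀ v, a⁻¹ (a v) = v := fun v => a.symm_apply_apply v
        rw [h1, h.pj])
    have hA : ∀ u, A u = p (a (j u)) := fun _ => rfl
    refine ⟨A, ?_, ?_⟩
    · intro u
      have h1 := h.form (A u)
      rw [hA, key _ ⟨ha, ha'⟩, ha, h.form] at h1
      rw [hA]
      exact (mul_left_cancel₀ h.ne h1).symm
    · apply LinearEquiv.ext
      intro v
      change j (A (p v)) + (v - j (p v)) = a v
      have h3 := h.sub_ker v
      rw [hA, key _ ⟨ha, ha'⟩]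
      conv_lhs => rw [← ha' _ h3]
      rw [← map_add, add_sub_cancel]

theorem Sub.map_comm (h : Sub Q q p j κ) (hQ : Nondeg Q) :
    (⁅O q, O q⁆ : Subgroup (U ≃ₗ[F] U)).map (glue p j h.pj) = Om Q (LinearMap.ker p) := by
  rw [Subgroup.map_commutator, h.map_O hQ, Om]

/-- (F3) -/
theorem Sub.perfect (h : Sub Q q p j κ) (hQ : Nondeg Q) (hq : Good q) :
    ⁅Om Q (LinearMap.ker p), Om Q (LinearMap.ker p)⁆ = Om Q (LinearMap.ker p) := by
  rw [← h.map_comm hQ, ← Subgroup.map_commutator, hq.commutator_eq_E, hq.E_perfect]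

/-- (F4) a normal subgroup of `Om Q (ker p)` containing an element which is not scalar on `U` -/
theorem Sub.normal (h : Sub Q q p j κ) (hQ : Nondeg Q) (hq : Good q) {N : Subgroup (V ≃ₗ[F] V)}
    (hN : N ≤ Om Q (LinearMap.ker p)) (hN' : ∀ g ∈ Om Q (LinearMap.ker p), ∀ x ∈ N, g * x * g⁻¹ ∈ N)
    {x : V ≃ₗ[F] V} (hx : x ∈ N) (hs : ∀ c : F, ∃ u, x (j u) ≠ c • j u) : N = Om Q (LinearMap.ker p) := by
  set f := glue p j h.pj with hf
  have hE : (E q).map f = Om Q (LinearMap.ker p) := by rw [← h.map_comm hQ, hq.commutator_eq_E]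
  have h1 : (N.comap f) ≤ E q := by
    intro y hy
    have h2 : f y ∈ (E q).map f := by
      rw [hE]
      exact hN hy
    obtain ⟨z, hz, hzy⟩ := h2
    have h3 : z = y := glue_injective h.pj hzy
    rw [← h3]
    exact hz
  have h2 : ∀ g ∈ E q, ∀ y ∈ N.comap f, g * y * g⁻¹ ∈ N.comap f := by
    intro g hg y hy
    rw [Subgroup.mem_comap, map_mul, map_mul, map_inv]
    refine hN' _ ?_ _ hy
    rw [← hE]
    exact ⟨g, hg, rfl⟩
  have h3 : (N.comap f).map f = N := by
    rw [Subgroup.map_comap_eq]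
    apply inf_eq_right.2
    intro y hy
    have h4 : y ∈ (E q).map f := by
      rw [hE]
      exact hN hy
    obtain ⟨z, -, rfl⟩ := h4
    exact ⟨z, rfl⟩
  rcases good_normal_dichotomy hq h1 h2 with h4 | h4
  · exfalso
    rw [← h3] at hx
    obtain ⟨y, hy, rfl⟩ := hx
    obtain ⟨c, hc⟩ := h4 y hy
    obtain ⟨u, hu⟩ := hs c
    apply hu
    rw [hf, glue_j, hc, map_smul]
  · rw [← h3, h4, hE]

end

end Cfsg.Agent.H885.O8R
end

-- part: H885/O8R/Three
section
/-!
# S3691, `PΩ⁺₈(q)`, data of `Ω₇(q)`: three-dimensional subspaces, and the factors of four-dimensional ones (helper885)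
-/

set_option autoImplicit false
set_option linter.unusedSectionVars false

namespace Cfsg.Agent.H885.O8R

open Cfsg QuadraticMap Module
open Cfsg.Agent.LieClassical.OrthCore Cfsg.Agent.LieClassical.OrthTrans Cfsg.Agent.LieClassical.OrthForms
  Cfsg.Agent.LieClassical.OrthFinite Cfsg.Agent.LieClassical.OrthSimple Cfsg.Agent.LieClassical.OrthThreeOmega
open Cfsg.Agent.H16.SN (glue glue_apply glue_j glue_ker glue_injective Fr3 pm jm)
open Cfsg.Agent.H466.O8R
open scoped MatrixGroups

section SL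

variable {F : Type*} [Field F] [Fintype F] {G : Type*} [Group G]

theorem range_perfect (hF : 3 < Fintype.card F) (f : SL(2, F) →* G) : ⁅f.range, f.range⁆ = f.range := by
  have hp := Cfsg.Agent.TwoFusion.SLTwoFacts.commutator_eq_top hF
  rw [_root_.commutator_def] at hp
  rw [MonoidHom.range_eq_map, ← Subgroup.map_commutator, hp]

theorem center_sq {z : SL(2, F)} (hz : z ∈ Subgroup.center SL(2, F)) : z ^ 2 = 1 := by
  rw [Matrix.SpecialLinearGroup.mem_center_iff] at hz
  obtain ⟨r, hr, h⟩ := hz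
  rw [Fintype.card_fin] at hr
  apply Subtype.ext
  change ((z ^ 2 : SL(2, F)) : Matrix (Fin 2) (Fin 2) F) = 1
  rw [Matrix.SpecialLinearGroup.coe_pow, ← h, ← map_pow, hr, map_one]

/-- a normal subgroup of the image of `SL₂` containing an element `x` with `x² ≠ 1` -/
theorem range_normal (hF : 3 < Fintype.card F) (f : SL(2, F) →* G) {N : Subgroup G} (hN : N ≤ f.range)
    (hN' : ∀ g ∈ f.range, ∀ x ∈ N, g * x * g⁻¹ ∈ N) {x : G} (hx : x ∈ N) (hx2 : x ^ 2 ≠ 1) : N = f.range := by
  have hn : (N.comap f).Normal := by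
    refine ⟨fun y hy g => ?_⟩
    rw [Subgroup.mem_comap, map_mul, map_mul, map_inv]
    exact hN' _ ⟨g, rfl⟩ _ hy
  rcases Cfsg.Agent.H174.WT.SL.sl_normal hF _ hn with h | h
  · apply le_antisymm hN
    rintro _ ⟨y, rfl⟩
    have : y ∈ N.comap f := by rw [h]; trivial
    exact this
  · exfalso
    obtain ⟨y, rfl⟩ := hN hx
    apply hx2
    rw [← map_pow, center_sq (h hx), map_one]

end SL

section three

variable {F V : Type*} [Field F] [Fintype F] [AddCommGroup V] [Module F V]
  {Q : QuadraticForm F V} {p : V →ₗ[F] ((Unit ⊕ (Fin 1 ⊕ Fin 1)) → F)} {j : ((Unit ⊕ (Fin 1 ⊕ Fin 1)) → F) →ₗ[F] V} {κ : F}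

theorem exists_ne (hF : 3 < Fintype.card F) : ∃ a : F, a ≠ 0 ∧ a ≠ 1 := by
  classical
  by_contra hcon
  push Not at hcon
  have : Fintype.card F ≤ 2 := by
    refine (Finset.card_le_card (s := Finset.univ) (t := ({0, 1} : Finset F)) ?_).trans Finset.card_le_two
    intro a _
    by_cases h : a = 0
    · simp only [h, _root_.Finset.mem_insert, _root_.Finset.mem_singleton, _root_.zero_ne_one, _root_.or_false]
    · simp only [hcon a h, _root_.Finset.mem_insert, _root_.one_ne_zero, _root_.Finset.mem_singleton, _root_.or_true]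
  omega

/-- `Om Q (ker p)` is an image of `SL₂` -/
theorem exists_hom (hF : 3 < Fintype.card F) (h : Sub Q (oddForm 1 F) p j κ) (hQ : Nondeg Q) :
    ∃ f : SL(2, F) →* (V ≃ₗ[F] V), f.range = Om Q (LinearMap.ker p) := by
  have hne := exists_ne hF
  obtain ⟨ψ, hψ⟩ : ∃ ψ : SL(2, F) →* Cfsg.Omega F ⇑(oddForm 1 F), Function.Surjective ψ := by
    rw [coe_oddForm]
    exact ⟨psiOmega hne, psiOmega_surjective hne⟩
  refine ⟨(glue p j h.pj).comp (((isometryHom (oddForm 1 F)).comp (Cfsg.Omega F ⇑(oddForm 1 F)).subtype).comp ψ), ?_⟩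
  rw [← h.map_comm hQ, ← map_Omega (oddForm 1 F), MonoidHom.range_comp, MonoidHom.range_comp,
    MonoidHom.range_eq_top.2 hψ, ← Subgroup.map_map, ← MonoidHom.range_eq_map, Subgroup.range_subtype]

/-- (F3) in dimension three -/
theorem perfect_three (hF : 3 < Fintype.card F) (h : Sub Q (oddForm 1 F) p j κ) (hQ : Nondeg Q) :
    ⁅Om Q (LinearMap.ker p), Om Q (LinearMap.ker p)⁆ = Om Q (LinearMap.ker p) := by
  obtain ⟨f, hf⟩ := exists_hom hF h hQ
  rw [← hf]
  exact range_perfect hF f

/-- (F4) in dimension three -/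
theorem normal_three (hF : 3 < Fintype.card F) (h : Sub Q (oddForm 1 F) p j κ) (hQ : Nondeg Q) {N : Subgroup (V ≃ₗ[F] V)}
    (hN : N ≤ Om Q (LinearMap.ker p)) (hN' : ∀ g ∈ Om Q (LinearMap.ker p), ∀ x ∈ N, g * x * g⁻¹ ∈ N)
    {x : V ≃ₗ[F] V} (hx : x ∈ N) (hx2 : x ^ 2 ≠ 1) : N = Om Q (LinearMap.ker p) := by
  obtain ⟨f, hf⟩ := exists_hom hF h hQ
  rw [← hf] at hN hN' ⊢
  exact range_normal hF f hN hN' hx hx2

/-- helper16's frames -/
theorem sub_of_fr3 {x y w : V} (h : Fr3 Q x y w) : Sub Q (oddForm 1 F) (pm Q x y w) (jm Q x y w) (Q w) where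
  pj := h.pj
  ne := h.ne
  form v := by rw [h.Q_jm, coe_oddForm]
  perp r hr u := h.perp hr u

end three

end Cfsg.Agent.H885.O8R
end

-- part: H885/O8R/Ext
section
/-!
# S3691, `PΩ⁺₈(q)`, data of `Ω₇(q)`: final forms (helper885)

* `perfect_five`, `normal_five` : `V = P ⊥ U`, `dim U ≥ 5`;
* `perfect_fr`, `normal_fr` : `P` the orthogonal complement of a three-dimensional space with frame `x, y, w`;
* `odd_mem` : isometries of odd order are in `⁅O Q, O Q⁆`;
* `exists_AB` : two commuting perfect subgroups of `Om Q P`, `P` orthogonal to two hyperbolic planes.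
-/

set_option autoImplicit false
set_option linter.unusedSectionVars false

namespace Cfsg.Agent.H885.O8R

open Cfsg QuadraticMap Module
open Cfsg.Agent.LieClassical.OrthCore Cfsg.Agent.LieClassical.OrthTrans Cfsg.Agent.LieClassical.OrthForms
  Cfsg.Agent.LieClassical.OrthFinite Cfsg.Agent.LieClassical.OrthSimple
open Cfsg.Agent.H16.SN (glue glue_apply glue_j glue_ker glue_injective Fr3 pm jm)
open Cfsg.Agent.H466.O8R
open scoped MatrixGroups

section five

variable {F V : Type*} [Field F] [AddCommGroup V] [Module F V] {Q : QuadraticForm F V}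

/-- the embedding of a summand -/
theorem sub_of_compl {P U : Submodule F V} (hc : IsCompl U P) (ho : ∀ x ∈ P, ∀ y ∈ U, polar Q x y = 0) :
    Sub Q (Q.comp U.subtype) (U.projectionOnto P hc) U.subtype 1 where
  pj u := Submodule.projectionOnto_apply_left hc u
  ne := one_ne_zero
  form u := by rw [one_mul]; rfl
  perp r hr u := by
    rw [polar_comm]
    have h1 : r ∈ LinearMap.ker (U.projectionOnto P hc) := hr
    rw [Submodule.ker_projectionOnto] at h1
    exact ho r h1 u u.2

theorem nondeg_restrict (hQ : Nondeg Q) {P U : Submodule F V} (hc : IsCompl U P)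
    (ho : ∀ x ∈ P, ∀ y ∈ U, polar Q x y = 0) : Nondeg (Q.comp U.subtype) := by
  intro u hu
  have h1 : (u : V) = 0 := by
    apply hQ
    intro z
    obtain ⟨a, ha, b, hb, rfl⟩ := Submodule.mem_sup.1 (show z ∈ U ⊔ P by rw [hc.sup_eq_top]; trivial)
    rw [polar_add_right, polar_comm Q (u : V) b, ho b hb u u.2, add_zero]
    exact hu ⟨a, ha⟩
  exact Subtype.ext h1

variable [Finite F] (hQ : Nondeg Q) {P U : Submodule F V} (hc : IsCompl U P)
  (ho : ∀ x ∈ P, ∀ y ∈ U, polar Q x y = 0) (hU : 5 ≤ finrank F U)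

include hQ hc ho hU

/-- (F3) in dimension five -/
theorem perfect_five : ⁅Om Q P, Om Q P⁆ = Om Q P := by
  have h1 := (sub_of_compl hc ho).perfect hQ (good_of_finite (nondeg_restrict hQ hc ho) hU)
  rwa [Submodule.ker_projectionOnto] at h1

/-- (F4) in dimension five -/
theorem normal_five {N : Subgroup (V ≃ₗ[F] V)} (hN : N ≤ Om Q P) (hN' : ∀ g ∈ Om Q P, ∀ x ∈ N, g * x * g⁻¹ ∈ N)
    {x : V ≃ₗ[F] V} (hx : x ∈ N) (hs : ∀ c : F, ∃ u ∈ U, x u ≠ c • u) : N = Om Q P := by
  have h1 := (sub_of_compl hc ho).normal hQ (good_of_finite (nondeg_restrict hQ hc ho) hU) (N := N)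
  rw [Submodule.ker_projectionOnto] at h1
  refine h1 hN hN' hx fun c => ?_
  obtain ⟨u, hu, h⟩ := hs c
  exact ⟨⟨u, hu⟩, h⟩

end five

section three

variable {F V : Type*} [Field F] [Fintype F] [AddCommGroup V] [Module F V] {Q : QuadraticForm F V}
  (hF : 3 < Fintype.card F) (hQ : Nondeg Q) {x y w : V} (h : Fr3 Q x y w) {P : Submodule F V}
  (hP : ∀ r, r ∈ P ↔ polar Q x r = 0 ∧ polar Q y r = 0 ∧ polar Q w r = 0)

include hF hQ h hP

/-- (F3) in dimension three -/
theorem perfect_fr : ⁅Om Q P, Om Q P⁆ = Om Q P := by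
  have e : P = LinearMap.ker (pm Q x y w) := by
    ext r
    rw [hP, LinearMap.mem_ker, h.ker_iff]
  rw [e]
  exact perfect_three hF (sub_of_fr3 h) hQ

/-- (F4) in dimension three -/
theorem normal_fr {N : Subgroup (V ≃ₗ[F] V)} (hN : N ≤ Om Q P) (hN' : ∀ g ∈ Om Q P, ∀ x ∈ N, g * x * g⁻¹ ∈ N)
    {g : V ≃ₗ[F] V} (hg : g ∈ N) (hg2 : g ^ 2 ≠ 1) : N = Om Q P := by
  have e : P = LinearMap.ker (pm Q x y w) := by
    ext r
    rw [hP, LinearMap.mem_ker, h.ker_iff]
  rw [e] at hN hN' ⊢
  exact normal_three hF (sub_of_fr3 h) hQ hN hN' hg hg2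

end three

section odd

variable {F V : Type*} [Field F] [AddCommGroup V] [Module F V] {Q : QuadraticForm F V}

/-- (F8) -/
theorem odd_mem [FiniteDimensional F V] (hG : Good Q) {g : V ≃ₗ[F] V} (hg : g ∈ O Q) {k : ℕ} (hk : Odd k) (h : g ^ k = 1) :
    g ∈ ⁅O Q, O Q⁆ := by
  obtain ⟨m, rfl⟩ := hk
  have h1 : g = g ^ (m + 1) * g ^ (m + 1) := by
    rw [← pow_add, show m + 1 + (m + 1) = 2 * m + 1 + 1 by ring, pow_succ, h, one_mul]
  rw [hG.commutator_eq_E, h1]
  exact Cfsg.Agent.H587.KB8.sq_mem_E hG (pow_mem hg _)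

end odd

section AB

variable {F V : Type*} [Field F] [AddCommGroup V] [Module F V] {Q : QuadraticForm F V}

/-- two orthogonal hyperbolic planes -/
structure Two (Q : QuadraticForm F V) (u v : Fin 2 → V) : Prop where
  su : ∀ i, Q (u i) = 0
  sv : ∀ i, Q (v i) = 0
  uv : ∀ i, polar Q (u i) (v i) = 1
  uv' : ∀ i j, i ≠ j → polar Q (u i) (v j) = 0
  uu : ∀ i j, i ≠ j → polar Q (u i) (u j) = 0
  vv : ∀ i j, i ≠ j → polar Q (v i) (v j) = 0

/-- the matrix of a vector -/
def pr (Q : QuadraticForm F V) (u v : Fin 2 → V) : V →ₗ[F] Matrix (Fin 2) (Fin 2) F where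
  toFun x := !![polar Q (v 0) x, -polar Q (v 1) x; polar Q (u 1) x, polar Q (u 0) x]
  map_add' x y := by
    ext i j
    fin_cases i <;> fin_cases j <;> simp only [polar_add_right, add_comm, _root_.Fin.isValue, _root_.QuadraticMap.polar_add_right, _root_.neg_add_rev, _root_.add_comm, _root_.Fin.zero_eta, _root_.Matrix.of_apply, _root_.Matrix.cons_val', _root_.Matrix.cons_val_zero, _root_.Matrix.cons_val_fin_one, _root_.Matrix.add_apply, _root_.Fin.mk_one, _root_.Matrix.cons_val_one]
  map_smul' c x := by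
    ext i j
    (revert i j; simp only [polar_smul_right, _root_.Fin.forall_fin_succ, Fin.isValue, _root_.smul_eq_mul, _root_.Matrix.of_apply, _root_.Matrix.cons_val', _root_.Matrix.cons_val_fin_one, _root_.RingHom.id_apply, _root_.Matrix.smul_apply, _root_.Matrix.cons_val_zero, _root_.Matrix.cons_val_succ, _root_.forall_const, _root_.mul_neg, _root_.and_self, _root_.implies_true])

/-- the vector of a matrix -/
def emb (u v : Fin 2 → V) : Matrix (Fin 2) (Fin 2) F →ₗ[F] V where
  toFun M := M 0 0 • u 0 + M 1 1 • v 0 + (-(M 0 1)) • u 1 + M 1 0 • v 1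
  map_add' x y := by
    simp only [Matrix.add_apply, neg_add, add_smul]
    abel
  map_smul' c x := by
    simp only [Matrix.smul_apply, smul_eq_mul, smul_add, smul_smul, RingHom.id_apply, mul_neg]

theorem Two.pr_emb {u v : Fin 2 → V} (h : Two Q u v) (M : Matrix (Fin 2) (Fin 2) F) : pr Q u v (emb u v M) = M := by
  have e0 : polar Q (u 0) (u 0) = 0 := polar_self_of_sing (h.su 0)
  have e1 : polar Q (u 1) (u 1) = 0 := polar_self_of_sing (h.su 1)
  have e2 : polar Q (v 0) (v 0) = 0 := polar_self_of_sing (h.sv 0)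
  have e3 : polar Q (v 1) (v 1) = 0 := polar_self_of_sing (h.sv 1)
  have e4 : polar Q (v 0) (u 0) = 1 := by rw [polar_comm]; exact h.uv 0
  have e5 : polar Q (v 1) (u 1) = 1 := by rw [polar_comm]; exact h.uv 1
  have e6 : polar Q (v 0) (u 1) = 0 := by rw [polar_comm]; exact h.uv' 1 0 (by decide)
  have e7 : polar Q (v 1) (u 0) = 0 := by rw [polar_comm]; exact h.uv' 0 1 (by decide)
  ext i j
  (revert i j; simp only [pr, emb, polar_add_right, polar_smul_right, e0, e1, e2, e3, e4, e5, e6, e7, h.uv 0, h.uv 1, h.uv' 0 1 (by decide), h.uv' 1 0 (by decide), h.uu 0 1 (by decide), h.uu 1 0 (by decide), h.vv 0 1 (by decide), h.vv 1 0 (by decide), _root_.Fin.forall_fin_succ, Fin.isValue, _root_.neg_smul, _root_.LinearMap.coe_mk, _root_.AddHom.coe_mk, _root_.smul_eq_mul, _root_.mul_one, _root_.MulZeroClass.mul_zero, _root_.add_zero, _root_.QuadraticMap.polar_neg_right, _root_.neg_zero, _root_.zero_add, _root_.neg_neg, _root_.Matrix.of_apply, _root_.Matrix.cons_val', _root_.Matrix.cons_val_fin_one,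 _root_.Matrix.cons_val_zero, _root_.Matrix.cons_val_succ, _root_.Fin.succ_zero_eq_one, _root_.IsEmpty.forall_iff, _root_.and_true, _root_.and_self])

theorem Two.form {u v : Fin 2 → V} (h : Two Q u v) (M : Matrix (Fin 2) (Fin 2) F) : Q (emb u v M) = M.det := by
  have e4 : polar Q (v 0) (u 1) = 0 := by rw [polar_comm]; exact h.uv' 1 0 (by decide)
  rw [Matrix.det_fin_two]
  simp only [emb, LinearMap.coe_mk, AddHom.coe_mk]
  rw [Q_add, Q_add, Q_add, QuadraticMap.map_smul, QuadraticMap.map_smul, QuadraticMap.map_smul, QuadraticMap.map_smul,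
    h.su, h.su, h.sv, h.sv]
  simp only [polar_add_left, polar_add_right, polar_smul_left, polar_smul_right, smul_eq_mul, h.uv 0, h.uv 1,
      h.uv' 0 1 (by decide), h.uv' 1 0 (by decide), h.uu 0 1 (by decide), h.vv 0 1 (by decide), e4]
  ring

theorem Two.perp {u v : Fin 2 → V} {r : V} (hr : pr Q u v r = 0) (M : Matrix (Fin 2) (Fin 2) F) :
    polar Q (emb u v M) r = 0 := by
  have h1 := congrFun (congrFun hr 0) 0
  have h2 := congrFun (congrFun hr 0) 1
  have h3 := congrFun (congrFun hr 1) 0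
  have h4 := congrFun (congrFun hr 1) 1
  simp only [pr, _root_.Cfsg.Agent.H885.O8R.pr, _root_.Fin.isValue, _root_.LinearMap.coe_mk, _root_.AddHom.coe_mk, _root_.Matrix.of_apply, _root_.Matrix.cons_val', _root_.Matrix.cons_val_zero, _root_.Matrix.cons_val_fin_one, _root_.Matrix.zero_apply, _root_.Matrix.cons_val_one, _root_.neg_eq_zero] at h1 h2 h3 h4
  simp only [emb, polar_add_left, polar_smul_left, h1, h2, h3, h4, _root_.Cfsg.Agent.H885.O8R.emb, _root_.Fin.isValue, _root_.neg_smul, _root_.LinearMap.coe_mk, _root_.AddHom.coe_mk, _root_.QuadraticMap.polar_add_left, _root_.QuadraticMap.polar_smul_left, _root_.smul_eq_mul, _root_.MulZeroClass.mul_zero, _root_.add_zero, _root_.QuadraticMap.polar_neg_left, _root_.neg_zero]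

theorem Two.sub {u v : Fin 2 → V} (h : Two Q u v) : Sub Q (Q.comp (emb u v)) (pr Q u v) (emb u v) 1 where
  pj := h.pr_emb
  ne := one_ne_zero
  form M := by rw [one_mul]; rfl
  perp r hr M := Two.perp hr M

theorem mem_ker_pr {u v : Fin 2 → V} {r : V} : r ∈ LinearMap.ker (pr Q u v) ↔
    ∀ i, polar Q (u i) r = 0 ∧ polar Q (v i) r = 0 := by
  rw [LinearMap.mem_ker]
  constructor
  · intro hr
    have h1 := congrFun (congrFun hr 0) 0
    have h2 := congrFun (congrFun hr 0) 1
    have h3 := congrFun (congrFun hr 1) 0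
    have h4 := congrFun (congrFun hr 1) 1
    simp only [pr, _root_.Cfsg.Agent.H885.O8R.pr, _root_.Fin.isValue, _root_.LinearMap.coe_mk, _root_.AddHom.coe_mk, _root_.Matrix.of_apply, _root_.Matrix.cons_val', _root_.Matrix.cons_val_zero, _root_.Matrix.cons_val_fin_one, _root_.Matrix.zero_apply, _root_.Matrix.cons_val_one, _root_.neg_eq_zero] at h1 h2 h3 h4
    intro i
    fin_cases i
    · exact ⟨h4, h1⟩
    · exact ⟨h3, h2⟩
  · intro h
    ext i j
    (revert i j; simp only [pr, (h 0).1, (h 0).2, (h 1).1, (h 1).2, _root_.Fin.forall_fin_succ, Fin.isValue, _root_.LinearMap.coe_mk, _root_.AddHom.coe_mk, _root_.neg_zero, _root_.Matrix.of_apply, _root_.Matrix.cons_val', _root_.Matrix.cons_val_fin_one, _root_.Matrix.zero_apply, _root_.Matrix.cons_val_zero, _root_.Matrix.cons_val_succ, _root_.forall_const, _root_.and_self, _root_.implies_true])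

/-- left multiplication -/
def lm : SL(2, F) →* (Matrix (Fin 2) (Fin 2) F ≃ₗ[F] Matrix (Fin 2) (Fin 2) F) where
  toFun g := LinearEquiv.ofLinearMap (LinearMap.mulLeft F (g : Matrix (Fin 2) (Fin 2) F))
    (LinearMap.mulLeft F ((g⁻¹ : SL(2, F)) : Matrix (Fin 2) (Fin 2) F))
    (by
      ext1 M
      simp only [LinearMap.comp_apply, LinearMap.mulLeft_apply, LinearMap.id_apply]
      rw [← mul_assoc, ← Matrix.SpecialLinearGroup.coe_mul, mul_inv_cancel, Matrix.SpecialLinearGroup.coe_one, one_mul])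
    (by
      ext1 M
      simp only [LinearMap.comp_apply, LinearMap.mulLeft_apply, LinearMap.id_apply]
      rw [← mul_assoc, ← Matrix.SpecialLinearGroup.coe_mul, inv_mul_cancel, Matrix.SpecialLinearGroup.coe_one, one_mul])
  map_one' := by
    apply LinearEquiv.ext
    intro M
    change ((1 : SL(2, F)) : Matrix (Fin 2) (Fin 2) F) * M = M
    rw [Matrix.SpecialLinearGroup.coe_one, one_mul]
  map_mul' a b := by
    apply LinearEquiv.ext
    intro M
    change ((a * b : SL(2, F)) : Matrix (Fin 2) (Fin 2) F) * M = (a : Matrix (Fin 2) (Fin 2) F) * ((b : Matrix (Fin 2) (Fin 2) F) * M)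
    rw [Matrix.SpecialLinearGroup.coe_mul, mul_assoc]

theorem lm_apply (g : SL(2, F)) (M : Matrix (Fin 2) (Fin 2) F) : lm g M = (g : Matrix (Fin 2) (Fin 2) F) * M := rfl

/-- right multiplication by the inverse -/
def rm : SL(2, F) →* (Matrix (Fin 2) (Fin 2) F ≃ₗ[F] Matrix (Fin 2) (Fin 2) F) where
  toFun g := LinearEquiv.ofLinearMap (LinearMap.mulRight F ((g⁻¹ : SL(2, F)) : Matrix (Fin 2) (Fin 2) F))
    (LinearMap.mulRight F (g : Matrix (Fin 2) (Fin 2) F))
    (by
      ext1 M
      simp only [LinearMap.comp_apply, LinearMap.mulRight_apply, LinearMap.id_apply]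
      rw [mul_assoc, ← Matrix.SpecialLinearGroup.coe_mul, mul_inv_cancel, Matrix.SpecialLinearGroup.coe_one, mul_one])
    (by
      ext1 M
      simp only [LinearMap.comp_apply, LinearMap.mulRight_apply, LinearMap.id_apply]
      rw [mul_assoc, ← Matrix.SpecialLinearGroup.coe_mul, inv_mul_cancel, Matrix.SpecialLinearGroup.coe_one, mul_one])
  map_one' := by
    apply LinearEquiv.ext
    intro M
    change M * (((1 : SL(2, F))⁻¹ : SL(2, F)) : Matrix (Fin 2) (Fin 2) F) = M
    rw [inv_one, Matrix.SpecialLinearGroup.coe_one, mul_one]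
  map_mul' a b := by
    apply LinearEquiv.ext
    intro M
    change M * (((a * b : SL(2, F))⁻¹ : SL(2, F)) : Matrix (Fin 2) (Fin 2) F) =
      (M * ((b⁻¹ : SL(2, F)) : Matrix (Fin 2) (Fin 2) F)) * ((a⁻¹ : SL(2, F)) : Matrix (Fin 2) (Fin 2) F)
    rw [mul_inv_rev, Matrix.SpecialLinearGroup.coe_mul, mul_assoc]

theorem rm_apply (g : SL(2, F)) (M : Matrix (Fin 2) (Fin 2) F) :
    rm g M = M * ((g⁻¹ : SL(2, F)) : Matrix (Fin 2) (Fin 2) F) := rfl

theorem lm_mem {u v : Fin 2 → V} (h : Two Q u v) (g : SL(2, F)) : lm g ∈ O (Q.comp (emb u v)) := by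
  intro M
  change Q (emb u v (lm g M)) = Q (emb u v M)
  rw [h.form, h.form, lm_apply, Matrix.det_mul, g.2, one_mul]

theorem rm_mem {u v : Fin 2 → V} (h : Two Q u v) (g : SL(2, F)) : rm g ∈ O (Q.comp (emb u v)) := by
  intro M
  change Q (emb u v (rm g M)) = Q (emb u v M)
  rw [h.form, h.form, rm_apply, Matrix.det_mul, (g⁻¹).2, mul_one]

/-- **the two factors** -/
theorem exists_AB [Fintype F] (hF : 3 < Fintype.card F) (hQ : Nondeg Q) {u v : Fin 2 → V} (h : Two Q u v)
    {P U : Submodule F V} (hc : IsCompl U P) (ho : ∀ x ∈ P, ∀ y ∈ U, polar Q x y = 0) (hU : 5 ≤ finrank F U)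
    (huU : ∀ i, u i ∈ U) (hvU : ∀ i, v i ∈ U) {e : V} (he : e ∈ U) (he0 : e ≠ 0)
    (heu : ∀ i, polar Q (u i) e = 0 ∧ polar Q (v i) e = 0) :
    ∃ A B : Subgroup (V ≃ₗ[F] V), A ≤ Om Q P ∧ B ≤ Om Q P ∧ (∀ a ∈ A, ∀ b ∈ B, a * b = b * a) ∧
      ⁅A, A⁆ = A ∧ ⁅B, B⁆ = B ∧
      (∀ N : Subgroup (V ≃ₗ[F] V), N ≤ Om Q P → (∀ g ∈ Om Q P, ∀ x ∈ N, g * x * g⁻¹ ∈ N) → A ≤ N → N = Om Q P) ∧
      (∀ N : Subgroup (V ≃ₗ[F] V), N ≤ Om Q P → (∀ g ∈ Om Q P, ∀ x ∈ N, g * x * g⁻¹ ∈ N) → B ≤ N → N = Om Q P) := by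
  have hs := h.sub
  set f := glue (pr Q u v) (emb u v) hs.pj with hf
  have hPk : ∀ r ∈ P, pr Q u v r = 0 := by
    intro r hr
    rw [← LinearMap.mem_ker, mem_ker_pr]
    intro i
    exact ⟨by rw [polar_comm]; exact ho r hr _ (huU i), by rw [polar_comm]; exact ho r hr _ (hvU i)⟩
  have hek : pr Q u v e = 0 := by
    rw [← LinearMap.mem_ker, mem_ker_pr]
    exact heu
  have hembU : ∀ M : Matrix (Fin 2) (Fin 2) F, emb u v M ∈ U := by
    intro M
    exact add_mem (add_mem (add_mem (Submodule.smul_mem _ _ (huU 0)) (Submodule.smul_mem _ _ (hvU 0)))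
      (Submodule.smul_mem _ _ (huU 1))) (Submodule.smul_mem _ _ (hvU 1))
  have hPW : ∀ T : Matrix (Fin 2) (Fin 2) F ≃ₗ[F] Matrix (Fin 2) (Fin 2) F, T ∈ O (Q.comp (emb u v)) → f T ∈ PW Q P :=
    fun T hT => ⟨hs.glue_mem_O hT, fun r hr => glue_ker hs.pj T (hPk r hr)⟩
  -- a nontrivial element is not scalar on `U`
  have hns : ∀ T : Matrix (Fin 2) (Fin 2) F ≃ₗ[F] Matrix (Fin 2) (Fin 2) F, T 1 ≠ 1 →
      ∀ c : F, ∃ y ∈ U, f T y ≠ c • y := by
    intro T hT c
    by_cases hc1 : c = 1
    · refine ⟨emb u v 1, hembU 1, ?_⟩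
      rw [hf, glue_j, hc1, one_smul]
      intro h1
      apply hT
      have h2 := congrArg (pr Q u v) h1
      rwa [h.pr_emb, h.pr_emb] at h2
    · refine ⟨e, he, ?_⟩
      rw [hf, glue_ker hs.pj T hek]
      intro h1
      have h2 : (1 - c) • e = 0 := by rw [sub_smul, one_smul, sub_eq_zero]; exact h1
      rcases smul_eq_zero.1 h2 with h3 | h3
      · exact hc1 (sub_eq_zero.1 h3).symm
      · exact he0 h3
  -- a nontrivial element of `SL₂`
  obtain ⟨t, ht⟩ : ∃ t : SL(2, F), (t : Matrix (Fin 2) (Fin 2) F) ≠ 1 :=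
    ⟨⟨!![1, 1; 0, 1], by simp [Matrix.det_fin_two]⟩, fun h1 => by
      have := congrFun (congrFun h1 0) 1
      simp at this⟩
  have ht' : ((t⁻¹ : SL(2, F)) : Matrix (Fin 2) (Fin 2) F) ≠ 1 := by
    intro h1
    apply ht
    have h2 : t⁻¹ = 1 := Subtype.ext h1
    rw [inv_eq_one] at h2
    rw [h2, Matrix.SpecialLinearGroup.coe_one]
  have hA : (f.comp lm).range ≤ Om Q P := by
    rw [← range_perfect hF (f.comp lm)]
    refine Subgroup.commutator_mono ?_ ?_ <;>
    · rintro _ ⟨g, rfl⟩
      exact hPW _ (lm_mem h g)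
  have hB : (f.comp rm).range ≤ Om Q P := by
    rw [← range_perfect hF (f.comp rm)]
    refine Subgroup.commutator_mono ?_ ?_ <;>
    · rintro _ ⟨g, rfl⟩
      exact hPW _ (rm_mem h g)
  refine ⟨(f.comp lm).range, (f.comp rm).range, hA, hB, ?_, range_perfect hF _, range_perfect hF _, ?_, ?_⟩
  · rintro _ ⟨a, rfl⟩ _ ⟨b, rfl⟩
    rw [MonoidHom.comp_apply, MonoidHom.comp_apply, ← map_mul, ← map_mul]
    congr 1
    apply LinearEquiv.ext
    intro M
    rw [LinearEquiv.mul_apply, LinearEquiv.mul_apply, lm_apply, lm_apply, rm_apply, rm_apply, mul_assoc]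
  · intro N hN hN' hAN
    refine normal_five hQ hc.symm.symm ho hU hN hN' (x := f (lm t)) (hAN ⟨t, rfl⟩) (hns _ ?_)
    rw [lm_apply, mul_one]
    exact ht
  · intro N hN hN' hAN
    refine normal_five hQ hc.symm.symm ho hU hN hN' (x := f (rm t)) (hAN ⟨t, rfl⟩) (hns _ ?_)
    rw [rm_apply, one_mul]
    exact ht'

end AB

end Cfsg.Agent.H885.O8R
end

private theorem dce_8accf0732402 : _root_.True := by
  try have : _root_.True := by simp only [_root_.Cfsg.Agent.H466.O8R.fv.eq_1]
  try have : _root_.True := by simp only [_root_.Cfsg.Agent.H466.O8R.Om.eq_1]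
  try have : _root_.True := by simp only [_root_.Cfsg.Agent.H885.O8R.emb.eq_1]
  try have : _root_.True := by simp only [_root_.Cfsg.Agent.H885.O8R.pr.eq_1]
  try have : _root_.True := by simp only [_root_.Cfsg.Agent.H466.O8R.pp.eq_1]
  exact _root_.True.intro
end

-- part: H708/Rg/OctJ
section
prune_inst 0x4b53061047de2000000188010322000643000042200400400ace207020b490c62adc228412f3004171a800441080500600118011002000000000000000005010000001404b1580008000010000000000000000000000000000000000000000000000000000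
set_option linter.all false
open scoped Cfsg.Agent.FastGrp

-- part: H708/Rg/FJ
section
/-!
# Fields of similitudes of order `q²` (helper708)

`FJ Q J c d` : `J² = c J - d`, `z² - c z + d` has no roots, `Q (J v) = d Q v`.

* `FJ.adj`, `FJ.self`, `FJ.norm` : `Q (x v + y J v) = (x² + c x y + d y²) Q v`
* `exists_isometry` : two such operators with the same `c`, `d` are conjugate under an isometry (`Q` nondegenerate, `F` finite)
-/

set_option autoImplicit false

namespace Cfsg.Agent.H708.Rg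

open Module QuadraticMap Cfsg.Agent.LieClassical.OrthCore Cfsg.Agent.LieClassical.OrthTrans
  Cfsg.Agent.LieClassical.OrthFinite Cfsg.Agent.H955

variable {F V : Type*} [Field F] [AddCommGroup V] [Module F V] {Q : QuadraticForm F V} {J J' : V →ₗ[F] V} {c d : F}

/-- `F[J]` is a field of similitudes -/
structure FJ (Q : QuadraticForm F V) (J : V →ₗ[F] V) (c d : F) : Prop where
  sq : ∀ v, J (J v) = c • J v - d • v
  irr : ∀ z : F, z * z - c * z + d ≠ 0
  sim : ∀ v, Q (J v) = d * Q v

theorem FJ.d0 (h : FJ Q J c d) : d ≠ 0 := by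
  intro hd
  apply h.irr 0
  rw [hd]
  ring

theorem FJ.polar_J (h : FJ Q J c d) (u v : V) : polar Q (J u) (J v) = d * polar Q u v := by
  rw [polar, polar, ← map_add, h.sim, h.sim, h.sim]
  ring

theorem FJ.adj (h : FJ Q J c d) (u v : V) : polar Q (J u) v = c * polar Q u v - polar Q u (J v) := by
  have h1 : J (c • v - J v) = d • v := by
    rw [map_sub, map_smul, h.sq]
    abel
  have h2 := h.polar_J u (c • v - J v)
  rw [h1, polar_smul_right, polar_sub_right, polar_smul_right, smul_eq_mul, smul_eq_mul] at h2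
  exact mul_left_cancel₀ h.d0 h2

/-- perfectness -/
theorem exists_sqrt [Finite F] (h2 : (2 : F) = 0) (d : F) : ∃ z : F, z * z = d := by
  have : Fintype F := Fintype.ofFinite F
  have hc : ringChar F = 2 := by
    have h3 : CharP F 2 := CharTwo.of_one_ne_zero_of_two_eq_zero one_ne_zero h2
    exact ringChar.eq F 2
  obtain ⟨z, hz⟩ := FiniteField.isSquare_of_char_two hc d
  exact ⟨z, hz.symm⟩

theorem FJ.self [Finite F] (h : FJ Q J c d) (v : V) : polar Q v (J v) = c * Q v := by
  by_cases h2 : (2 : F) = 0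
  · obtain ⟨z, hz⟩ := exists_sqrt h2 d
    -- the additive map `f v = polar v (J v) - c Q v`
    have key : ∀ u v : V, polar Q (u + v) (J (u + v)) - c * Q (u + v) =
        (polar Q u (J u) - c * Q u) + (polar Q v (J v) - c * Q v) := by
      intro u v
      rw [map_add, polar_add_left, polar_add_right, polar_add_right, Q_add, polar_comm Q v (J u), h.adj u v]
      ring
    have hs : ∀ v : V, polar Q (J v) (J (J v)) - c * Q (J v) = d * (polar Q v (J v) - c * Q v) := by
      intro v
      rw [h.polar_J, h.sim]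
      ring
    have ht : ∀ (t : F) (v : V), polar Q (t • v) (J (t • v)) - c * Q (t • v) = t * t * (polar Q v (J v) - c * Q v) := by
      intro t v
      rw [map_smul, polar_smul_left, polar_smul_right, QuadraticMap.map_smul]
      simp only [smul_eq_mul]
      ring
    -- `J - z` is surjective
    set k := z * z - c * z + d with hk
    have hk0 : k ≠ 0 := h.irr z
    have hw : ∃ w : V, J w + z • w = v := by
      refine ⟨-(k⁻¹ • (J v - (c + z) • v)), ?_⟩
      have h3 : J (J v - (c + z) • v) + z • (J v - (c + z) • v) = -(k • v) := by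
        have h4 : z + z = 0 := by linear_combination z * h2
        rw [map_sub, map_smul, h.sq, hk]
        have h5 : c • J v - d • v - (c + z) • J v + z • (J v - (c + z) • v) = -((d + z * (c + z)) • v) := by module
        rw [h5]
        congr 2
        linear_combination (c * z) * h2
      rw [map_neg, map_smul, smul_neg, smul_comm z, ← neg_add, ← smul_add, h3, smul_neg, neg_neg, smul_smul,
        inv_mul_cancel₀ hk0, one_smul]
    obtain ⟨w, rfl⟩ := hw
    have h3 := key (J w) (z • w)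
    rw [hs, ht, hz] at h3
    have h4 : polar Q (J w + z • w) (J (J w + z • w)) - c * Q (J w + z • w) = 0 := by
      rw [h3]
      linear_combination (d * (polar Q w (J w) - c * Q w)) * h2
    linear_combination h4
  · have h1 := h.adj v v
    rw [polar_comm Q (J v) v, polar_self, nsmul_eq_mul] at h1
    push_cast at h1
    apply mul_left_cancel₀ h2
    linear_combination h1

theorem FJ.norm [Finite F] (h : FJ Q J c d) (x y : F) (v : V) :
    Q (x • v + y • J v) = (x * x + c * (x * y) + d * (y * y)) * Q v := by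
  rw [Q_add, QuadraticMap.map_smul, QuadraticMap.map_smul, h.sim, polar_smul_left, polar_smul_right, h.self]
  simp only [smul_eq_mul]
  ring

theorem FJ.disc [Finite F] (h : FJ Q J c d) : 4 * d - c * c ≠ 0 := by
  intro h0
  by_cases h2 : (2 : F) = 0
  · obtain ⟨z, hz⟩ := exists_sqrt h2 d
    have hc : c = 0 := by
      apply mul_self_eq_zero.1
      linear_combination (2 * d) * h2 - h0
    apply h.irr z
    rw [hz, hc]
    linear_combination d * h2
  · apply h.irr (c / 2)
    field_simp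
    linear_combination h0

theorem FJ.norm_surj [Finite F] (h : FJ Q J c d) (t : F) : ∃ x y : F, x * x + c * (x * y) + d * (y * y) = t := by
  obtain ⟨x, hx0, hx⟩ := exists_ternary_zero 1 d (-t) c 0 0
  have h2 : x 2 ≠ 0 := by
    intro h2
    rw [h2] at hx
    by_cases h1 : x 1 = 0
    · rw [h1] at hx
      have h0 : x 0 = 0 := by
        apply mul_self_eq_zero.1
        linear_combination hx
      apply hx0
      funext i
      fin_cases i
      · exact h0
      · exact h1
      · exact h2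
    · apply h.irr (-(x 0 / x 1))
      field_simp
      linear_combination hx
  refine ⟨x 0 / x 2, x 1 / x 2, ?_⟩
  field_simp
  linear_combination hx

/-! ### Orthonormal bases -/

/-- orthonormal families over `F[J]` -/
structure Onb (Q : QuadraticForm F V) (J : V →ₗ[F] V) {n : ℕ} (v : Fin n → V) : Prop where
  one : ∀ i, Q (v i) = 1
  orth : ∀ i j, i ≠ j → polar Q (v i) (v j) = 0
  orthJ : ∀ i j, i ≠ j → polar Q (v i) (J (v j)) = 0

/-- the combinations over `F[J]` -/
def phi (J : V →ₗ[F] V) {n : ℕ} (v : Fin n → V) : ((Fin n → F) × (Fin n → F)) →ₗ[F] V where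
  toFun x := ∑ i, (x.1 i • v i + x.2 i • J (v i))
  map_add' x y := by
    rw [← Finset.sum_add_distrib]
    refine Finset.sum_congr rfl fun i _ => ?_
    simp only [Prod.fst_add, Prod.snd_add, Pi.add_apply, add_smul]
    abel
  map_smul' t x := by
    rw [RingHom.id_apply, Finset.smul_sum]
    refine Finset.sum_congr rfl fun i _ => ?_
    simp only [Prod.smul_fst, Prod.smul_snd, Pi.smul_apply, smul_eq_mul, smul_add, mul_smul]

theorem phi_apply {n : ℕ} (v : Fin n → V) (x : (Fin n → F) × (Fin n → F)) :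
    phi J v x = ∑ i, (x.1 i • v i + x.2 i • J (v i)) := rfl

theorem J_phi (h : FJ Q J c d) {n : ℕ} (v : Fin n → V) (x : (Fin n → F) × (Fin n → F)) :
    J (phi J v x) = phi J v (-(d • x.2), x.1 + c • x.2) := by
  rw [phi_apply, phi_apply, map_sum]
  refine Finset.sum_congr rfl fun i _ => ?_
  rw [map_add, map_smul, map_smul, h.sq]
  simp only [Pi.neg_apply, Pi.smul_apply, Pi.add_apply, smul_eq_mul]
  module

theorem polar_sum_left {ι : Type*} (s : Finset ι) (f : ι → V) (w : V) :
    polar Q (∑ i ∈ s, f i) w = ∑ i ∈ s, polar Q (f i) w := by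
  classical
  induction s using Finset.induction_on with
  | empty => rw [Finset.sum_empty, Finset.sum_empty, polar_zero_left]
  | insert a s ha ih => rw [Finset.sum_insert ha, Finset.sum_insert ha, polar_add_left, ih]

theorem Q_sum {ι : Type*} (s : Finset ι) (f : ι → V) (hf : ∀ i j, i ≠ j → polar Q (f i) (f j) = 0) :
    Q (∑ i ∈ s, f i) = ∑ i ∈ s, Q (f i) := by
  classical
  induction s using Finset.induction_on with
  | empty => rw [Finset.sum_empty, Finset.sum_empty, QuadraticMap.map_zero]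
  | insert a s ha ih =>
    have h1 : ∑ i ∈ s, polar Q (f i) (f a) = 0 := by
      refine Finset.sum_eq_zero fun i hi => hf i a ?_
      rintro rfl
      exact ha hi
    rw [Finset.sum_insert ha, Finset.sum_insert ha, Q_add, ih, polar_comm, polar_sum_left, h1, add_zero]

theorem Onb.orthJ' {n : ℕ} {v : Fin n → V} (hv : Onb Q J v) {i j : Fin n} (hij : i ≠ j) :
    polar Q (J (v i)) (v j) = 0 := by
  rw [polar_comm]
  exact hv.orthJ j i hij.symm

theorem Onb.Q_phi [Finite F] (h : FJ Q J c d) {n : ℕ} {v : Fin n → V} (hv : Onb Q J v) (x : (Fin n → F) × (Fin n → F)) :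
    Q (phi J v x) = ∑ i, (x.1 i * x.1 i + c * (x.1 i * x.2 i) + d * (x.2 i * x.2 i)) := by
  rw [phi_apply, Q_sum]
  · refine Finset.sum_congr rfl fun i _ => ?_
    rw [h.norm, hv.one, mul_one]
  · intro i j hij
    rw [polar_add_left, polar_add_right, polar_add_right, polar_smul_left, polar_smul_left, polar_smul_right,
      polar_smul_right, polar_smul_left, polar_smul_left, polar_smul_right, polar_smul_right, hv.orth i j hij,
      hv.orthJ i j hij, hv.orthJ' hij, h.polar_J, hv.orth i j hij]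
    simp

theorem Onb.polar_phi [Finite F] (h : FJ Q J c d) {n : ℕ} {v : Fin n → V} (hv : Onb Q J v)
    (x : (Fin n → F) × (Fin n → F)) (j : Fin n) : polar Q (phi J v x) (v j) = 2 * x.1 j + c * x.2 j := by
  rw [phi_apply, polar_sum_left, Finset.sum_eq_single j]
  · rw [polar_add_left, polar_smul_left, polar_smul_left, polar_self, polar_comm Q (J (v j)), h.self, hv.one,
      nsmul_eq_mul, smul_eq_mul, smul_eq_mul]
    push_cast
    ring
  · intro i _ hij
    rw [polar_add_left, polar_smul_left, polar_smul_left, hv.orth i j hij, hv.orthJ' hij]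
    simp
  · intro h0
    exact absurd (Finset.mem_univ j) h0

theorem Onb.polar_phiJ [Finite F] (h : FJ Q J c d) {n : ℕ} {v : Fin n → V} (hv : Onb Q J v)
    (x : (Fin n → F) × (Fin n → F)) (j : Fin n) : polar Q (phi J v x) (J (v j)) = c * x.1 j + 2 * d * x.2 j := by
  rw [phi_apply, polar_sum_left, Finset.sum_eq_single j]
  · rw [polar_add_left, polar_smul_left, polar_smul_left, polar_self, h.self, h.sim, hv.one,
      nsmul_eq_mul, smul_eq_mul, smul_eq_mul]
    push_cast
    ring
  · intro i _ hij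
    rw [polar_add_left, polar_smul_left, polar_smul_left, hv.orthJ i j hij, h.polar_J, hv.orth i j hij]
    simp
  · intro h0
    exact absurd (Finset.mem_univ j) h0

theorem Onb.eq_zero [Finite F] (h : FJ Q J c d) {n : ℕ} {v : Fin n → V} (hv : Onb Q J v)
    {x : (Fin n → F) × (Fin n → F)} (h1 : ∀ j, polar Q (phi J v x) (v j) = 0)
    (h2 : ∀ j, polar Q (phi J v x) (J (v j)) = 0) : x = 0 := by
  have h3 : ∀ j, x.1 j = 0 ∧ x.2 j = 0 := by
    intro j
    have h4 := h1 j
    have h5 := h2 j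
    rw [hv.polar_phi h] at h4
    rw [hv.polar_phiJ h] at h5
    constructor
    · refine (mul_eq_zero.1 ?_).resolve_left h.disc
      linear_combination (2 * d) * h4 - c * h5
    · refine (mul_eq_zero.1 ?_).resolve_left h.disc
      linear_combination 2 * h5 - c * h4
  refine Prod.ext (funext fun j => (h3 j).1) (funext fun j => (h3 j).2)

theorem Onb.injective [Finite F] (h : FJ Q J c d) {n : ℕ} {v : Fin n → V} (hv : Onb Q J v) :
    Function.Injective (phi J v) := by
  rw [injective_iff_map_eq_zero]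
  intro x hx
  apply hv.eq_zero h
  · intro j
    rw [hx, polar_zero_left]
  · intro j
    rw [hx, polar_zero_left]

theorem phi_v {n : ℕ} (v : Fin n → V) (j : Fin n) : phi J v (Pi.single j 1, 0) = v j := by
  rw [phi_apply, Finset.sum_eq_single j]
  · simp
  · intro i _ hij
    simp [hij]
  · intro h0
    exact absurd (Finset.mem_univ j) h0

theorem phi_Jv {n : ℕ} (v : Fin n → V) (j : Fin n) : phi J v (0, Pi.single j 1) = J (v j) := by
  rw [phi_apply, Finset.sum_eq_single j]
  · simp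
  · intro i _ hij
    simp [hij]
  · intro h0
    exact absurd (Finset.mem_univ j) h0

theorem Onb.exists_next [Finite F] [FiniteDimensional F V] (hQ : Nondeg Q) (h : FJ Q J c d) {n : ℕ} {v : Fin n → V}
    (hv : Onb Q J v) (hn : 2 * n < finrank F V) :
    ∃ z : V, Q z = 1 ∧ (∀ i, polar Q (v i) z = 0) ∧ ∀ i, polar Q (v i) (J z) = 0 := by
  set S := LinearMap.range (phi J v) with hS
  have hvS : ∀ j, v j ∈ S := fun j => ⟨_, phi_v v j⟩
  have hJvS : ∀ j, J (v j) ∈ S := fun j => ⟨_, phi_Jv v j⟩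
  have hJS : ∀ w ∈ S, J w ∈ S := by
    rintro _ ⟨x, rfl⟩
    exact ⟨_, (J_phi h v x).symm⟩
  have hdS : finrank F S ≤ 2 * n := by
    refine (LinearMap.finrank_range_le _).trans ?_
    rw [Module.finrank_prod, Module.finrank_fin_fun]
    omega
  have hP : perp Q S ≠ ⊥ := by
    intro h0
    have h1 := finrank_perp hQ S
    rw [h0, finrank_bot] at h1
    omega
  have hPJ : ∀ z ∈ perp Q S, J z ∈ perp Q S := by
    intro z hz w hw
    have h1 : polar Q w (J z) = c * polar Q w z - polar Q (J w) z := by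
      rw [h.adj]
      ring
    rw [h1, hz w hw, hz _ (hJS w hw)]
    ring
  obtain ⟨z, hz, hQz⟩ : ∃ z ∈ perp Q S, Q z ≠ 0 := by
    by_contra hc
    push Not at hc
    obtain ⟨z, hz, hz0⟩ := (Submodule.ne_bot_iff _).1 hP
    apply hz0
    have h1 : z ∈ perp Q (perp Q S) := by
      intro w hw
      have h2 := hc _ (Submodule.add_mem _ hw hz)
      rw [Q_add, hc w hw, hc z hz] at h2
      linear_combination h2
    rw [perp_perp hQ] at h1
    obtain ⟨x, rfl⟩ := h1
    rw [hv.eq_zero h (x := x) (fun j => by rw [polar_comm]; exact hz _ (hvS j))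
      (fun j => by rw [polar_comm]; exact hz _ (hJvS j)), map_zero]
  obtain ⟨x, y, hxy⟩ := h.norm_surj (Q z)⁻¹
  have hz' : x • z + y • J z ∈ perp Q S :=
    Submodule.add_mem _ (Submodule.smul_mem _ _ hz) (Submodule.smul_mem _ _ (hPJ z hz))
  refine ⟨x • z + y • J z, ?_, fun i => hz' _ (hvS i), fun i => hPJ _ hz' _ (hvS i)⟩
  rw [h.norm, hxy, inv_mul_cancel₀ hQz]

theorem exists_onb [Finite F] [FiniteDimensional F V] (hQ : Nondeg Q) (h : FJ Q J c d) (n : ℕ) (hn : 2 * n ≤ finrank F V) :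
    ∃ v : Fin n → V, Onb Q J v := by
  induction n with
  | zero => exact ⟨fun i => i.elim0, ⟨fun i => i.elim0, fun i => i.elim0, fun i => i.elim0⟩⟩
  | succ n ih =>
    obtain ⟨v, hv⟩ := ih (by omega)
    obtain ⟨z, hz1, hz2, hz3⟩ := hv.exists_next hQ h (by omega)
    refine ⟨Fin.cons z v, ⟨?_, ?_, ?_⟩⟩
    · intro i
      refine Fin.cases ?_ (fun i => ?_) i
      · exact hz1
      · exact hv.one i
    · intro i j
      refine Fin.cases ?_ (fun i => ?_) i <;> refine Fin.cases ?_ (fun j => ?_) j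
      · intro h0
        exact absurd rfl h0
      · intro _
        rw [Fin.cons_zero, Fin.cons_succ, polar_comm]
        exact hz2 j
      · intro _
        rw [Fin.cons_zero, Fin.cons_succ]
        exact hz2 i
      · intro hij
        rw [Fin.cons_succ, Fin.cons_succ]
        exact hv.orth i j fun h0 => hij (by rw [h0])
    · intro i j
      refine Fin.cases ?_ (fun i => ?_) i <;> refine Fin.cases ?_ (fun j => ?_) j
      · intro h0
        exact absurd rfl h0
      · intro _
        rw [Fin.cons_zero, Fin.cons_succ, polar_comm, h.adj, hz2, hz3]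
        ring
      · intro _
        rw [Fin.cons_zero, Fin.cons_succ]
        exact hz3 i
      · intro hij
        rw [Fin.cons_succ, Fin.cons_succ]
        exact hv.orthJ i j fun h0 => hij (by rw [h0])

/-- **conjugacy** -/
theorem exists_isometry [Finite F] [FiniteDimensional F V] (hQ : Nondeg Q) (h : FJ Q J c d) (h' : FJ Q J' c d) {n : ℕ}
    (hn : finrank F V = 2 * n) : ∃ M : V ≃ₗ[F] V, (∀ v, Q (M v) = Q v) ∧ ∀ v, M (J v) = J' (M v) := by
  obtain ⟨v, hv⟩ := exists_onb hQ h n hn.ge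
  obtain ⟨v', hv'⟩ := exists_onb hQ h' n hn.ge
  have hd : finrank F ((Fin n → F) × (Fin n → F)) = finrank F V := by
    rw [Module.finrank_prod, Module.finrank_fin_fun, hn]
    omega
  let e := LinearEquiv.ofInjectiveOfFinrankEq (phi J v) (hv.injective h) hd
  let e' := LinearEquiv.ofInjectiveOfFinrankEq (phi J' v') (hv'.injective h') hd
  have he : ∀ x, e x = phi J v x := fun _ => rfl
  have he' : ∀ x, e' x = phi J' v' x := fun _ => rfl
  refine ⟨e.symm.trans e', fun w => ?_, fun w => ?_⟩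
  · obtain ⟨x, rfl⟩ := e.surjective w
    rw [LinearEquiv.trans_apply, LinearEquiv.symm_apply_apply, he, he', hv.Q_phi h, hv'.Q_phi h']
  · obtain ⟨x, rfl⟩ := e.surjective w
    rw [LinearEquiv.trans_apply, LinearEquiv.trans_apply, LinearEquiv.symm_apply_apply, he, J_phi h, ← he,
      LinearEquiv.symm_apply_apply, he', he', J_phi h']

end Cfsg.Agent.H708.Rg
end

-- part: H708/Rg/OctJ
section
/-!
# S3691, `PΩ⁺₈(q)`: octonion multiplications and triality (helper708)

* `aJ c d` : an octonion with `a² = c a - d`, `N(a) = d`; `fj_lmul`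
* `lE a`, `bE a`, `tri_lE : Tri (lE a) (bE a) (lE a)⁻¹`
* `map_perp` : `Tri g g₁ g₂`, `g L_a = L_b g`: `g₁` maps `⟨1, a⟩^⊥` into `⟨1, b⟩^⊥`
-/

set_option autoImplicit false

namespace Cfsg.Agent.H708.Rg

open Module QuadraticMap Cfsg.Agent.LieClassical.OrthCore Cfsg.Agent.LieClassical.OrthTrans
  Cfsg.Agent.LieClassical.OrthSimple Cfsg.Agent.ClassicalGeometry.OrthAut1
  Cfsg.Agent.ClassicalGeometry.OrthSemi Cfsg.Agent.H198.Classes
  Cfsg.Agent.LieClassical.QuadForms Cfsg.Agent.H198.ClassesPlus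
  Cfsg.Agent.ClassicalGeometry.TrialityOct Cfsg.Agent.ClassicalGeometry.Triality
  Cfsg.Agent.ClassicalGeometry.TrialitySpaces Cfsg.Agent.H198.TriBase Cfsg.Agent.H198.TriAut
open Cfsg.Agent.H955

universe u

variable {F : Type u} [Field F]

/-- an octonion with norm `d` and trace `c` -/
def aJ (c d : F) : V8 F := Sum.elim ![0, 1, 0, 0] ![c, d, 0, 0]

theorem norm_aJ (c d : F) : plusForm 4 F (aJ c d) = d := by
  rw [norm8]
  simp [aJ]

theorem trace_aJ (c d : F) : polar (plusForm 4 F) (one8 F) (aJ c d) = c := by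
  rw [polar8]
  simp [aJ, one8]

theorem oconj_eq (x : V8 F) : oconj x = polar (plusForm 4 F) (one8 F) x • one8 F - x := by
  rw [polar8]
  apply ext8 <;>
  simp only [oconj_l0, oconj_l1, oconj_l2, oconj_l3, oconj_r0, oconj_r1, oconj_r2, oconj_r3, Pi.sub_apply,
    Pi.smul_apply, smul_eq_mul] <;>
  simp [one8]

theorem sq_omul (a v : V8 F) : omul a (omul a v) =
    polar (plusForm 4 F) (one8 F) a • omul a v - plusForm 4 F a • v := by
  have h1 := oconj_omul_omul a v
  rw [oconj_eq a, sub_eq_add_neg, add_omul, smul_omul, one_omul] at h1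
  have h2 : omul (-a) (omul a v) = -omul a (omul a v) := by
    have := smul_omul (-1) a (omul a v)
    rwa [neg_one_smul, neg_one_smul] at this
  rw [h2] at h1
  rw [← h1]
  abel

/-- `L_a` generates a field of similitudes -/
theorem fj_lmul {c d : F} (hirr : ∀ z : F, z * z - c * z + d ≠ 0) :
    FJ (plusForm 4 F) (lmul (aJ c d)) c d where
  sq v := by
    change omul _ (omul _ v) = c • omul _ v - d • v
    rw [sq_omul, norm_aJ, trace_aJ]
  irr := hirr
  sim v := by
    change plusForm 4 F (omul _ v) = _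
    rw [norm_omul, norm_aJ]

/-- left multiplication -/
def lE (a : V8 F) (ha : plusForm 4 F a ≠ 0) : V8 F ≃ₗ[F] V8 F :=
  { lP a ha with
    map_add' := fun u v => omul_add a u v
    map_smul' := fun c v => omul_smul c a v }

theorem lE_apply (a : V8 F) (ha : plusForm 4 F a ≠ 0) (x : V8 F) : lE a ha x = omul a x := rfl

/-- `x ↦ (a x) a` -/
def bE (a : V8 F) (ha : plusForm 4 F a ≠ 0) : V8 F ≃ₗ[F] V8 F :=
  { (lP a ha).trans (rP a ha) with
    map_add' := fun u v => by
      change omul (omul a (u + v)) a = omul (omul a u) a + omul (omul a v) a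
      rw [omul_add, add_omul]
    map_smul' := fun c v => by
      change omul (omul a (c • v)) a = c • omul (omul a v) a
      rw [omul_smul, smul_omul] }

theorem bE_apply (a : V8 F) (ha : plusForm 4 F a ≠ 0) (x : V8 F) : bE a ha x = omul (omul a x) a := rfl

theorem tri_lE (a : V8 F) (ha : plusForm 4 F a ≠ 0) : Tri (lE a ha) (bE a ha) (lE a ha)⁻¹ := by
  intro x y
  obtain ⟨y, rfl⟩ := (lE a ha).surjective y
  have h1 : (lE a ha)⁻¹ (lE a ha y) = y := (lE a ha).symm_apply_apply y
  rw [h1, lE_apply, lE_apply, bE_apply, moufang_left]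

theorem bE_eq (a : V8 F) (ha : plusForm 4 F a ≠ 0) (x : V8 F) : bE a ha x =
    (polar (plusForm 4 F) (one8 F) x * polar (plusForm 4 F) (one8 F) a - polar (plusForm 4 F) a x) • a -
      (plusForm 4 F a * polar (plusForm 4 F) (one8 F) x) • one8 F + plusForm 4 F a • x := by
  have h1 := omul_oconj_omul_self a (oconj x)
  rw [oconj_oconj] at h1
  rw [bE_apply, h1, oconj_eq x, polar_sub_right, polar_smul_right, polar_comm _ a (one8 F)]
  simp only [smul_eq_mul]
  module

/-- `⟨1, a⟩` -/
def Wa (a : V8 F) : Submodule F (V8 F) := Submodule.span F {one8 F, a}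

theorem one_mem_Wa (a : V8 F) : one8 F ∈ Wa a := Submodule.subset_span (by simp)

theorem self_mem_Wa (a : V8 F) : a ∈ Wa a := Submodule.subset_span (by simp)

theorem mem_perp_Wa {a x : V8 F} : x ∈ perp (plusForm 4 F) (Wa a) ↔
    polar (plusForm 4 F) (one8 F) x = 0 ∧ polar (plusForm 4 F) a x = 0 := by
  constructor
  · intro h
    exact ⟨h _ (one_mem_Wa a), h _ (self_mem_Wa a)⟩
  · rintro ⟨h1, h2⟩ w hw
    obtain ⟨s, t, rfl⟩ := Submodule.mem_span_pair.1 hw
    rw [polar_add_left, polar_smul_left, polar_smul_left, h1, h2]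
    simp

theorem bE_of_perp {a : V8 F} (ha : plusForm 4 F a ≠ 0) {x : V8 F} (hx : x ∈ perp (plusForm 4 F) (Wa a)) :
    bE a ha x = plusForm 4 F a • x := by
  obtain ⟨h1, h2⟩ := mem_perp_Wa.1 hx
  rw [bE_eq, h1, h2]
  simp

theorem perp_of_bE {a : V8 F} (ha : plusForm 4 F a ≠ 0) (hli : LinearIndependent F ![one8 F, a]) {x : V8 F}
    (hx : bE a ha x = plusForm 4 F a • x) : x ∈ perp (plusForm 4 F) (Wa a) := by
  rw [bE_eq, add_eq_right] at hx
  have h1 := LinearIndependent.pair_iff.1 hli (-(plusForm 4 F a * polar (plusForm 4 F) (one8 F) x))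
    (polar (plusForm 4 F) (one8 F) x * polar (plusForm 4 F) (one8 F) a - polar (plusForm 4 F) a x) (by
      rw [neg_smul, ← hx]
      abel)
  have h2 : polar (plusForm 4 F) (one8 F) x = 0 :=
    (mul_eq_zero.1 (neg_eq_zero.1 h1.1)).resolve_left ha
  refine mem_perp_Wa.2 ⟨h2, ?_⟩
  have h3 := h1.2
  rw [h2] at h3
  linear_combination -h3

theorem finrank_Wa {a : V8 F} (hli : LinearIndependent F ![one8 F, a]) : finrank F (Wa a) = 2 := by
  have e : Wa a = Submodule.span F (Set.range ![one8 F, a]) := by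
    rw [Wa]
    congr 1
    rw [Matrix.range_cons, Matrix.range_cons, Matrix.range_empty, Set.union_empty]
    rfl
  rw [e, finrank_span_eq_card hli, Fintype.card_fin]

/-- **the key step** -/
theorem map_perp {a b : V8 F} (ha : plusForm 4 F a ≠ 0) (hab : plusForm 4 F b = plusForm 4 F a)
    (hla : LinearIndependent F ![one8 F, a]) (hlb : LinearIndependent F ![one8 F, b])
    {g g₁ g₂ : V8 F ≃ₗ[F] V8 F} (h : Tri g g₁ g₂) (hg : ∀ v, g (omul a v) = omul b (g v)) :
    ∀ x ∈ perp (plusForm 4 F) (Wa a), g₁ x ∈ perp (plusForm 4 F) (Wa b) := by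
  have hb : plusForm 4 F b ≠ 0 := by rwa [hab]
  have h1 : Tri (g * lE a ha) (g₁ * bE a ha) (g₂ * (lE a ha)⁻¹) := h.mul (tri_lE a ha)
  have h2 : Tri (lE b hb * g) (bE b hb * g₁) ((lE b hb)⁻¹ * g₂) := (tri_lE b hb).mul h
  have h3 : lE b hb * g = g * lE a ha := by
    ext1 v
    exact (hg v).symm
  rw [h3] at h2
  obtain ⟨k, hk0, hk, -⟩ := h1.unique h2
  have hk' : ∀ x, bE b hb (g₁ x) = k • g₁ (bE a ha x) := hk
  have h4 : ∀ x ∈ perp (plusForm 4 F) (Wa a), bE b hb (g₁ x) = (k * plusForm 4 F a) • g₁ x := by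
    intro x hx
    rw [hk', bE_of_perp ha hx, map_smul, smul_smul]
  have h5 : k = 1 := by
    have hd : finrank F (V8 F) = 8 := by
      rw [finrank_fintype_fun_eq_card]
      simp
    have e1 : finrank F ((perp (plusForm 4 F) (Wa a)).map (g₁ : V8 F →ₗ[F] V8 F)) = 6 := by
      rw [LinearEquiv.finrank_map_eq, finrank_perp ClassicalGeometry.Triality.nondeg8, finrank_Wa hla, hd]
    have e2 : finrank F (perp (plusForm 4 F) (Wa b)) = 6 := by
      rw [finrank_perp ClassicalGeometry.Triality.nondeg8, finrank_Wa hlb, hd]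
    have e3 := Submodule.finrank_sup_add_finrank_inf_eq ((perp (plusForm 4 F) (Wa a)).map (g₁ : V8 F →ₗ[F] V8 F))
      (perp (plusForm 4 F) (Wa b))
    have e4 := Submodule.finrank_le ((perp (plusForm 4 F) (Wa a)).map (g₁ : V8 F →ₗ[F] V8 F) ⊔
      (perp (plusForm 4 F) (Wa b)))
    have e5 : (perp (plusForm 4 F) (Wa a)).map (g₁ : V8 F →ₗ[F] V8 F) ⊓ perp (plusForm 4 F) (Wa b) ≠ ⊥ := by
      intro h0
      rw [h0, finrank_bot, e1, e2] at e3
      rw [hd] at e4
      omega
    obtain ⟨z, ⟨⟨x, hx, hxz⟩, hz⟩, hz0⟩ := (Submodule.ne_bot_iff _).1 e5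
    have hxz' : g₁ x = z := hxz
    have h6 := h4 x hx
    rw [hxz', bE_of_perp hb hz, hab] at h6
    have h7 : (plusForm 4 F a - k * plusForm 4 F a) • z = 0 := by rw [sub_smul, h6, sub_self]
    have h8 := (smul_eq_zero.1 h7).resolve_right hz0
    apply mul_right_cancel₀ ha
    linear_combination -h8
  intro x hx
  apply perp_of_bE hb hlb
  rw [h4 x hx, h5, one_mul, hab]

end Cfsg.Agent.H708.Rg
end

private theorem dce_8000ec0f118a : _root_.True := by
  try have : _root_.True := by simp only [_root_.Cfsg.Agent.H708.Rg.Wa.eq_1]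
  try have : _root_.True := by simp only [_root_.Cfsg.Agent.H708.Rg.aJ.eq_1]
  exact _root_.True.intro
end

-- part: H925/Rs/Frame
section
prune_inst 0x4b5506504258002000018801620200060200004b00043040004a209420801ec222d820e413b300417128000c1600d006001080000424000000e00040000050100008004043040010802001e000080000000000000000000000000000000010000000000000
set_option linter.all false
open scoped Cfsg.Agent.FastGrp

/-!
# S3691: the frame for the symplectic groups (helper925)

* `Isos B` : the isometries of a bilinear form, as a subgroup of `V ≃ₗ[F] V`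
* `spE` : `symplecticGroup (Fin m) F ≃* Isos (sympBilin m F)`
* `real` : `Real T (Isos (sympBilin m F))` (helper449) from `e : T ≃* PSp m F`
* `preS e X` : the preimage of `X ∩ T`; `mem_preS`, `card_preS`, `not_le_preS`, `exists_pow`, `exists_prime`, `inv0_iff'`
* `trans_vec`, `trans_hyp` : transitivity of `Sp`
-/

set_option autoImplicit false
set_option linter.unusedSectionVars false

namespace Cfsg.Agent.H925.Rs

open Cfsg Matrix Module Subgroup Cfsg.Agent.H454.Reg Cfsg.Agent.H449.Reg Cfsg.Agent.ClassicalGeometry.SympBasic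
  Cfsg.Agent.ClassicalGeometry.SympAutSemi

universe u v

section iso

variable {F : Type*} [Field F] {V : Type*} [AddCommGroup V] [Module F V]

/-- the isometries of a bilinear form -/
def Isos (B : LinearMap.BilinForm F V) : Subgroup (V ≃ₗ[F] V) where
  carrier := {x | ∀ u v, B (x u) (x v) = B u v}
  mul_mem' := by
    intro x y hx hy u v
    change B (x (y u)) (x (y v)) = _
    rw [hx, hy]
  one_mem' := fun _ _ => rfl
  inv_mem' := by
    intro x hx u v
    have e : ∀ w, x (x⁻¹ w) = w := fun w => x.apply_symm_apply w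
    rw [← hx (x⁻¹ u) (x⁻¹ v), e, e]

theorem mem_Isos {B : LinearMap.BilinForm F V} {x : V ≃ₗ[F] V} : x ∈ Isos B ↔ ∀ u v, B (x u) (x v) = B u v := Iff.rfl

/-- an additive bijection mapping every vector to a multiple of itself is a scalar -/
theorem scalar_of_lines {M : V → V} (hadd : ∀ u v, M (u + v) = M u + M v) (h : ∀ v, ∃ a : F, M v = a • v)
    {u₀ v₀ : V} (hind : ∀ a b : F, a • u₀ + b • v₀ = 0 → a = 0 ∧ b = 0) : ∃ a : F, ∀ v, M v = a • v := by
  choose a ha using h
  have hu₀ : u₀ ≠ 0 := by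
    rintro rfl
    have := (hind 1 0 (by rw [smul_zero, zero_smul, add_zero])).1
    exact one_ne_zero this
  have hv₀ : v₀ ≠ 0 := by
    rintro rfl
    have := (hind 0 1 (by rw [smul_zero, zero_smul, add_zero])).2
    exact one_ne_zero this
  -- independent vectors have the same scalar
  have key : ∀ u v : V, (∀ x y : F, x • u + y • v = 0 → x = 0 ∧ y = 0) → a u = a v := by
    intro u v huv
    have h1 := hadd u v
    rw [ha (u + v), ha u, ha v, smul_add] at h1
    have h2 : (a (u + v) - a u) • u + (a (u + v) - a v) • v = 0 := by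
      rw [sub_smul, sub_smul]
      have h3 : a (u + v) • u + a (u + v) • v - (a u • u + a v • v) = 0 := sub_eq_zero.2 h1
      rw [← h3]; abel
    obtain ⟨h3, h4⟩ := huv _ _ h2
    rw [sub_eq_zero] at h3 h4
    exact h3.symm.trans h4
  refine ⟨a u₀, fun v => ?_⟩
  by_cases hv : v = 0
  · subst hv
    rw [ha 0, smul_zero, smul_zero]
  rw [ha v]
  congr 1
  by_cases h1 : ∀ x y : F, x • v + y • u₀ = 0 → x = 0 ∧ y = 0
  · exact key v u₀ h1
  · -- `v` is a multiple of `u₀`
    push Not at h1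
    obtain ⟨x, y, hxy, hne⟩ := h1
    have hx : x ≠ 0 := by
      rintro rfl
      rw [zero_smul, zero_add] at hxy
      rcases smul_eq_zero.1 hxy with h2 | h2
      · exact hne rfl h2
      · exact hu₀ h2
    have hy : v = (-(x⁻¹ * y)) • u₀ := by
      have h2 : x • v = -(y • u₀) := eq_neg_of_add_eq_zero_left hxy
      have h3 : v = x⁻¹ • (x • v) := by rw [smul_smul, inv_mul_cancel₀ hx, one_smul]
      rw [h3, h2, smul_neg, smul_smul, neg_smul]
    have hc : (-(x⁻¹ * y)) ≠ 0 := by
      intro h2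
      rw [h2, zero_smul] at hy
      exact hv hy
    have h2 : a v = a v₀ := by
      apply key
      intro s t hst
      rw [hy, smul_smul] at hst
      obtain ⟨h3, h4⟩ := hind _ _ hst
      exact ⟨(mul_eq_zero.1 h3).resolve_right hc, h4⟩
    rw [h2]
    exact (key u₀ v₀ hind).symm

end iso

section frame

variable {F : Type v} [Field F] {m : ℕ}

/-- a symplectic matrix as a linear automorphism -/
def toE (A : symplecticGroup (Fin m) F) : (Fin m ⊕ Fin m → F) ≃ₗ[F] (Fin m ⊕ Fin m → F) where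
  toFun v := (A : Matrix (Fin m ⊕ Fin m) (Fin m ⊕ Fin m) F) *ᵥ v
  map_add' u v := Matrix.mulVec_add _ _ _
  map_smul' c v := Matrix.mulVec_smul _ _ _
  invFun v := ((A⁻¹ : symplecticGroup (Fin m) F) : Matrix (Fin m ⊕ Fin m) (Fin m ⊕ Fin m) F) *ᵥ v
  left_inv v := by
    change ((A⁻¹ : symplecticGroup (Fin m) F) : Matrix (Fin m ⊕ Fin m) (Fin m ⊕ Fin m) F) *ᵥ
      ((A : Matrix (Fin m ⊕ Fin m) (Fin m ⊕ Fin m) F) *ᵥ v) = v
    rw [← coe_mul_mulVec, inv_mul_cancel, Submonoid.coe_one, Matrix.one_mulVec]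
  right_inv v := by
    change (A : Matrix (Fin m ⊕ Fin m) (Fin m ⊕ Fin m) F) *ᵥ
      (((A⁻¹ : symplecticGroup (Fin m) F) : Matrix (Fin m ⊕ Fin m) (Fin m ⊕ Fin m) F) *ᵥ v) = v
    rw [← coe_mul_mulVec, mul_inv_cancel, Submonoid.coe_one, Matrix.one_mulVec]

/-- the hom -/
def toI (m : ℕ) (F : Type v) [Field F] : symplecticGroup (Fin m) F →* Isos (sympBilin m F) where
  toFun A := ⟨toE A, fun u v => sympForm_mulVec A.2 u v⟩
  map_one' := by
    apply Subtype.ext
    apply LinearEquiv.ext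
    intro v
    change ((1 : symplecticGroup (Fin m) F) : Matrix (Fin m ⊕ Fin m) (Fin m ⊕ Fin m) F) *ᵥ v = v
    rw [Submonoid.coe_one, Matrix.one_mulVec]
  map_mul' A C := by
    apply Subtype.ext
    apply LinearEquiv.ext
    intro v
    exact coe_mul_mulVec A C v

theorem toI_bijective : Function.Bijective (toI m F) := by
  constructor
  · intro A C h
    apply rho_injective
    apply Equiv.ext
    intro v
    exact congrArg (fun z : Isos (sympBilin m F) => z.1 v) h
  · rintro ⟨x, hx⟩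
    obtain ⟨A, hA⟩ := exists_rho_eq x.toEquiv (fun u v => map_add x u v) (fun a v => map_smul x a v) fun u v => hx u v
    refine ⟨A, Subtype.ext (LinearEquiv.ext fun v => ?_)⟩
    exact congrArg (fun z : Equiv.Perm (Fin m ⊕ Fin m → F) => z v) hA

/-- **`Sp` as isometries** -/
noncomputable def spE : symplecticGroup (Fin m) F ≃* Isos (sympBilin m F) := MulEquiv.ofBijective (toI m F) toI_bijective

theorem spE_apply (A : symplecticGroup (Fin m) F) (v : Fin m ⊕ Fin m → F) :
    (spE A).1 v = (A : Matrix (Fin m ⊕ Fin m) (Fin m ⊕ Fin m) F) *ᵥ v := rfl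

theorem spE_symm_apply (x : Isos (sympBilin m F)) (v : Fin m ⊕ Fin m → F) :
    ((spE.symm x : symplecticGroup (Fin m) F) : Matrix (Fin m ⊕ Fin m) (Fin m ⊕ Fin m) F) *ᵥ v = x.1 v := by
  rw [← spE_apply, MulEquiv.apply_symm_apply]

variable {G : Type u} [Group G] {T : Subgroup G}

/-- the projection `Sp → T` -/
noncomputable def prS (e : T ≃* PSp m F) : Isos (sympBilin m F) →* T :=
  (e.symm.toMonoidHom.comp (QuotientGroup.mk' _)).comp spE.symm.toMonoidHom

theorem prS_apply (e : T ≃* PSp m F) (x : Isos (sympBilin m F)) : prS e x = e.symm (QuotientGroup.mk (spE.symm x)) := rfl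

theorem prS_surjective (e : T ≃* PSp m F) : Function.Surjective (prS e) := by
  intro t
  obtain ⟨A, hA⟩ := QuotientGroup.mk_surjective (e t)
  refine ⟨spE A, ?_⟩
  rw [prS_apply, MulEquiv.symm_apply_apply, hA, MulEquiv.symm_apply_apply]

theorem prS_eq_one {e : T ≃* PSp m F} {x : Isos (sympBilin m F)} (h : prS e x = 1) : ∃ a : F, ∀ v, x.1 v = a • v := by
  rw [prS_apply, EmbeddingLike.map_eq_one_iff, QuotientGroup.eq_one_iff, LieClassical.SympCenter.mem_center_iff] at h
  obtain ⟨a, ha⟩ := h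
  refine ⟨a, fun v => ?_⟩
  rw [← spE_symm_apply, ha, Matrix.smul_mulVec, Matrix.one_mulVec]

/-- the scalars in `Sp` have square one -/
theorem sq_one_of_scalar (hm : 1 ≤ m) {x : Isos (sympBilin m F)} {a : F} (h : ∀ v, x.1 v = a • v) : x ^ 2 = 1 := by
  have h1 := x.2 (Pi.single (Sum.inr ⟨0, hm⟩) 1) (Pi.single (Sum.inl ⟨0, hm⟩) 1)
  rw [h, h, sympBilin_apply, sympBilin_apply, sympForm_smul_left, sympForm_smul_right, sympForm_single_inr_left,
    Pi.single_eq_same, mul_one] at h1
  apply Subtype.ext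
  apply LinearEquiv.ext
  intro v
  rw [pow_two]
  change x.1 (x.1 v) = v
  rw [h, h, smul_smul, h1, one_smul]

/-- the perfectness of `Sp` -/
theorem perfect [Fintype F] (hm : 3 ≤ m) : _root_.commutator ↥(Isos (sympBilin m F)) = ⊤ := by
  have h1 := LieClassical.SympPerfect.commutator_eq_top (F := F) (m := m) (Or.inl hm)
  have h3 : (⊤ : Subgroup (symplecticGroup (Fin m) F)).map (spE (F := F) (m := m)).toMonoidHom = ⊤ :=
    Subgroup.map_top_of_surjective _ (MulEquiv.surjective (spE (F := F) (m := m)))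
  have h2 : (commutator (symplecticGroup (Fin m) F)).map (spE (F := F) (m := m)).toMonoidHom = _root_.commutator ↥(Isos (sympBilin m F)) := by
    rw [commutator_def, commutator_def, Subgroup.map_commutator, h3]
  rw [← h2, h1, h3]

/-- the transvections -/
noncomputable def tvE (v : Fin m ⊕ Fin m → F) (c : F) : Isos (sympBilin m F) := spE (transv v c)

theorem tvE_apply (v x : Fin m ⊕ Fin m → F) (c : F) : (tvE v c).1 x = x + (c * sympForm m F x v) • v :=
  sympTransvection_mulVec v x c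

theorem comm_scalar [Fintype F] (hm : 3 ≤ m) (M : Semi F (Fin m ⊕ Fin m → F))
    (h : ∀ x : Isos (sympBilin m F), ∃ c : F, ∀ v, M.1 (x.1 v) = c • x.1 (M.1 v)) : ∃ a : F, a ≠ 0 ∧ ∀ v, M.1 v = a • v := by
  have hcomm := commute_of_perfect ((by exact perfect hm)) h
  obtain ⟨σ, hadd, hs⟩ := M.2
  have hline : ∀ v, ∃ a : F, M.1 v = a • v := by
    intro v
    by_cases hv : v = 0
    · refine ⟨0, ?_⟩
      subst hv
      have h0 := hs 0 0
      rw [zero_smul] at h0
      rw [h0, map_zero σ, zero_smul, zero_smul]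
    obtain ⟨x, hx⟩ : ∃ x, sympForm m F x v ≠ 0 := by
      by_contra hcon
      push Not at hcon
      exact hv (eq_zero_of_forall_sympForm_left hcon)
    have h1 := hcomm (tvE v 1) x
    rw [tvE_apply, tvE_apply, hadd, hs, add_right_inj, one_mul, one_mul] at h1
    have h2 : σ (sympForm m F x v) ≠ 0 := fun h0 => hx ((map_eq_zero σ).1 h0)
    refine ⟨(σ (sympForm m F x v))⁻¹ * sympForm m F (M.1 x) v, ?_⟩
    rw [mul_smul, ← h1, smul_smul, inv_mul_cancel₀ h2, one_smul]
  obtain ⟨a, ha⟩ := scalar_of_lines (M := M.1) hadd hline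
    (u₀ := Pi.single (Sum.inr ⟨0, by omega⟩) 1) (v₀ := Pi.single (Sum.inl ⟨0, by omega⟩) 1) (by
      intro a b hab
      have h1 := congrFun hab (Sum.inr ⟨0, by omega⟩)
      have h2 := congrFun hab (Sum.inl ⟨0, by omega⟩)
      simp only [Pi.add_apply, Pi.smul_apply, Pi.zero_apply, smul_eq_mul, Pi.single_eq_same, mul_one, Pi.single_eq_of_ne
        (Sum.inr_ne_inl), Pi.single_eq_of_ne (Sum.inl_ne_inr), mul_zero, add_zero, zero_add] at h1 h2
      exact ⟨h1, h2⟩)
  refine ⟨a, ?_, ha⟩
  rintro rfl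
  have h1 : M.1 (Pi.single (Sum.inr ⟨0, by omega⟩) 1) = M.1 0 := by rw [ha, ha, zero_smul, zero_smul]
  have h2 := M.1.injective h1
  have h3 := congrFun h2 (Sum.inr ⟨0, by omega⟩)
  rw [Pi.single_eq_same, Pi.zero_apply] at h3
  exact one_ne_zero h3

/-- every element of `G` is induced by a semisimilitude -/
theorem induces [Fintype F] [hT : T.Normal] (hm : 3 ≤ m) (e : T ≃* PSp m F) (g : G) :
    ∃ M : Semi F (Fin m ⊕ Fin m → F), Induces (prS e) M g := by
  let α : MulAut (PSp m F) := (MulAut.congr e) (MulAut.conjNormal g)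
  obtain ⟨s, hs⟩ := ClassicalGeometry.SympAutExists.exists_semi (by omega) α
    (ClassicalGeometry.SympAutOddA.recog (by omega) (Or.inl hm) α)
  obtain ⟨φ, l, hl, h1, h2, h3⟩ := s.2
  have hM : s.1 ∈ Semi F (Fin m ⊕ Fin m → F) := ⟨φ, h1, h2⟩
  have hα : ∀ t : T, α (e t) = e (MulAut.conjNormal g t) := by
    intro t
    change e (MulAut.conjNormal g (e.symm (e t))) = _
    rw [MulEquiv.symm_apply_apply]
  have hcj : ∀ (A : symplecticGroup (Fin m) F) (v : Fin m ⊕ Fin m → F),
      (spE (conjHom m F s A)).1 (s.1 v) = s.1 ((spE A).1 v) := by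
    intro A v
    have h4 := rho_conjHom s A
    have h5 := congrArg (fun z : Equiv.Perm (Fin m ⊕ Fin m → F) => z (s.1 v)) h4
    have h6 : (s.1 * rho m F A * s.1⁻¹) (s.1 v) = s.1 ((spE A).1 v) := by
      rw [Equiv.Perm.mul_apply, Equiv.Perm.mul_apply, perm_inv_apply_self]
      rfl
    exact h5.trans h6
  refine ⟨⟨s.1, hM⟩, fun x => ⟨spE (conjHom m F s (spE.symm x)), fun v => ?_⟩, fun x y hxy => ?_⟩
  · change (spE (conjHom m F s (spE.symm x))).1 (s.1 v) = s.1 (x.1 v)
    rw [hcj, MulEquiv.apply_symm_apply]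
  · have hy : y = spE (conjHom m F s (spE.symm x)) := by
      apply Subtype.ext
      apply LinearEquiv.ext
      intro v
      obtain ⟨v, rfl⟩ := s.1.surjective v
      have h4 : y.1 (s.1 v) = s.1 (x.1 v) := hxy v
      rw [h4, hcj, MulEquiv.apply_symm_apply]
    have h5 : prS e y = MulAut.conjNormal g (prS e x) := by
      apply e.injective
      rw [← hα, prS_apply, prS_apply, MulEquiv.apply_symm_apply, MulEquiv.apply_symm_apply, hy, MulEquiv.symm_apply_apply,
        ← hs, Psi_mk]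
    rw [h5, MulAut.conjNormal_apply]

/-- **the realisation of `T`** -/
noncomputable def real [Fintype F] [T.Normal] (hm : 3 ≤ m) (e : T ≃* PSp m F) : Real T (Isos (sympBilin m F)) where
  π := prS e
  surj := prS_surjective e
  ker := fun _ h => prS_eq_one h
  ind := induces hm e
  comm := comm_scalar hm

theorem card_comap_of_surj {A C : Type*} [Group A] [Group C] {f : A →* C} (K : Subgroup C) (hf : Function.Surjective f) :
    Nat.card (K.comap f) = Nat.card K * Nat.card f.ker := by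
  have h1 := Subgroup.relIndex_ker f (K := K.comap f)
  rw [Subgroup.map_comap_eq_self_of_surjective hf] at h1
  have h2 : Nat.card (f.ker.subgroupOf (K.comap f)) * f.ker.relIndex (K.comap f) = Nat.card (K.comap f) :=
    Subgroup.card_mul_index _
  have hle : f.ker ≤ K.comap f := fun x hx => by
    rw [Subgroup.mem_comap, MonoidHom.mem_ker.1 hx]
    exact K.one_mem
  rw [← h2, h1, Nat.card_congr (Subgroup.subgroupOfEquivOfLe hle).toEquiv, mul_comm]

/-- **the preimage of `X ∩ T`** in `Sp` -/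
noncomputable def preS (e : T ≃* PSp m F) (X : Subgroup G) : Subgroup ((Fin m ⊕ Fin m → F) ≃ₗ[F] (Fin m ⊕ Fin m → F)) :=
  ((X.subgroupOf T).comap (prS e)).map (Isos (sympBilin m F)).subtype

variable {e : T ≃* PSp m F} {X : Subgroup G}

theorem mem_preS {x : Isos (sympBilin m F)} : x.1 ∈ preS e X ↔ (prS e x : G) ∈ X := by
  rw [preS, Subgroup.mem_map]
  constructor
  · rintro ⟨y, hy, h⟩
    have : y = x := Subtype.ext h
    rw [← this]; exact hy
  · intro h
    exact ⟨x, h, rfl⟩

theorem preS_le : preS e X ≤ Isos (sympBilin m F) := Subgroup.map_subtype_le _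

theorem not_le_preS (hT : ¬ T ≤ X) : ¬ Isos (sympBilin m F) ≤ preS e X := by
  intro h
  apply hT
  intro t ht
  obtain ⟨x, hx⟩ := prS_surjective e ⟨t, ht⟩
  have h1 := mem_preS.1 (h x.2)
  rw [hx] at h1
  exact h1

theorem card_preS (e : T ≃* PSp m F) (X : Subgroup G) : Nat.card (preS e X) =
    Nat.card (X.subgroupOf T) * Nat.card (prS e).ker := by
  rw [preS, Subgroup.card_map_of_injective (Isos (sympBilin m F)).subtype_injective]
  exact card_comap_of_surj (X.subgroupOf T) (prS_surjective e)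

/-- the kernel of the projection has order at most two -/
theorem card_ker (hm : 1 ≤ m) [Finite F] (e : T ≃* PSp m F) : Nat.card (prS e).ker ∣ 2 := by
  have : Fintype F := Fintype.ofFinite F
  have h1 : (prS e).ker = (Subgroup.center (symplecticGroup (Fin m) F)).comap (spE (F := F) (m := m)).symm.toMonoidHom := by
    ext x
    rw [MonoidHom.mem_ker, prS_apply, EmbeddingLike.map_eq_one_iff, QuotientGroup.eq_one_iff]
    rfl
  have h2 : Nat.card (Subgroup.center (symplecticGroup (Fin m) F)) = Nat.card (prS e).ker := by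
    rw [h1, card_comap_of_surj _ (MulEquiv.surjective (spE (F := F) (m := m)).symm)]
    have h3 : Nat.card ((spE (F := F) (m := m)).symm.toMonoidHom).ker = 1 := by
      rw [(MonoidHom.ker_eq_bot_iff _).2 (MulEquiv.injective (spE (F := F) (m := m)).symm), Subgroup.card_bot]
    change _ = _ * Nat.card ((spE (F := F) (m := m)).symm.toMonoidHom).ker
    rw [h3, mul_one]
  rw [← h2, LieClassical.SympCenter.card_center hm]
  exact Nat.gcd_dvd_left _ _

/-- lifting of elements of odd order -/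
theorem exists_lift [Finite F] (hm : 1 ≤ m) (t : T) (ht : (t : G) ∈ X) (hodd : Odd (orderOf t)) :
    ∃ x : Isos (sympBilin m F), x.1 ∈ preS e X ∧ prS e x = t ∧ orderOf x.1 = orderOf t := by
  obtain ⟨y, hy⟩ := prS_surjective e t
  obtain ⟨k, hk⟩ := hodd
  -- `y ^ (n + 1)`
  have h1 : ∀ z : Isos (sympBilin m F), prS e z = 1 → z ^ 2 = 1 := fun z hz => by
    obtain ⟨a, ha⟩ := prS_eq_one hz
    exact sq_one_of_scalar hm ha
  have h2 : prS e (y ^ (orderOf t + 1)) = t := by rw [map_pow, hy, pow_succ, pow_orderOf_eq_one, one_mul]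
  have h3 : (y ^ (orderOf t + 1)) ^ orderOf t = 1 := by
    have e1 : y ^ orderOf t ∈ (prS e).ker := by rw [MonoidHom.mem_ker, map_pow, hy, pow_orderOf_eq_one]
    have e2 := h1 _ e1
    rw [← pow_mul, mul_comm, pow_mul, hk, show 2 * k + 1 + 1 = 2 * (k + 1) by ring, pow_mul]
    rw [hk] at e2
    rw [e2, one_pow]
  refine ⟨y ^ (orderOf t + 1), ?_, h2, ?_⟩
  · rw [mem_preS, h2]; exact ht
  · rw [Subgroup.orderOf_coe]
    apply Nat.dvd_antisymm
    · exact orderOf_dvd_of_pow_eq_one h3
    · conv_lhs => rw [← h2]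
      exact orderOf_map_dvd _ _

/-- an element of order `r` of the preimage -/
theorem exists_prime [Finite G] [Finite F] (hm : 1 ≤ m) {r : ℕ} (hr : r.Prime) (hr2 : r ≠ 2) (h : r ∣ Nat.card (X.subgroupOf T)) :
    ∃ x ∈ preS e X, orderOf x = r := by
  have := Fact.mk hr
  obtain ⟨t, ht⟩ := exists_prime_orderOf_dvd_card' r h
  have ht' : orderOf (t : T) = r := by rw [Subgroup.orderOf_coe]; exact ht
  obtain ⟨x, hx, -, ho⟩ := exists_lift (e := e) hm (t : T) t.2 (by rw [ht']; exact hr.odd_of_ne_two hr2)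
  exact ⟨x.1, hx, ho.trans ht'⟩

/-- no nonscalar element of the preimage of `X` is conjugate to an element of the preimage of `Y` -/
theorem not_conj [Finite G] {Y : Subgroup G} (hf : Fac T X Y) {x : (Fin m ⊕ Fin m → F) ≃ₗ[F] (Fin m ⊕ Fin m → F)}
    (hx : x ∈ preS e X) {g : (Fin m ⊕ Fin m → F) ≃ₗ[F] (Fin m ⊕ Fin m → F)} (hg : g ∈ Isos (sympBilin m F))
    (h : g * x * g⁻¹ ∈ preS e Y) : ∃ a : F, ∀ v, x v = a • v := by
  obtain ⟨x', rfl⟩ : ∃ x' : Isos (sympBilin m F), x'.1 = x := ⟨⟨x, preS_le hx⟩, rfl⟩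
  obtain ⟨g', rfl⟩ : ∃ g' : Isos (sympBilin m F), g'.1 = g := ⟨⟨g, hg⟩, rfl⟩
  have h1 : (prS e x' : G) ∈ X := mem_preS.1 hx
  have h0 : (g' * x' * g'⁻¹ : Isos (sympBilin m F)).1 ∈ preS e Y := h
  have h2 : (prS e (g' * x' * g'⁻¹) : G) ∈ Y := mem_preS.1 h0
  have h3 : (prS e (g' * x' * g'⁻¹) : G) = (prS e g' : G) * (prS e x' : G) * (prS e g' : G)⁻¹ := by
    rw [map_mul, map_mul, map_inv]
    rfl
  rw [h3] at h2
  have h4 := hf.not_conj h1 (prS e g' : G) h2
  exact prS_eq_one (e := e) (x := x') (Subtype.ext h4)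

/-- `Sp` is transitive on nonzero vectors -/
theorem trans_vec {x y : Fin m ⊕ Fin m → F} (hx : x ≠ 0) (hy : y ≠ 0) : ∃ g ∈ Isos (sympBilin m F), g x = y := by
  obtain ⟨A, -, hA⟩ := exists_transvGroup_mulVec_eq hx hy
  exact ⟨(spE A).1, (spE A).2, hA⟩

/-- `Sp` is transitive on hyperbolic pairs -/
theorem trans_hyp {u v u' v' : Fin m ⊕ Fin m → F} (h : sympForm m F u v = 1) (h' : sympForm m F u' v' = 1) :
    ∃ g ∈ Isos (sympBilin m F), g u = u' ∧ g v = v' := by
  obtain ⟨A, -, hA, hA'⟩ := exists_transvGroup_hyperbolic h h'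
  exact ⟨(spE A).1, (spE A).2, hA, hA'⟩

end frame

end Cfsg.Agent.H925.Rs

private theorem dce_0821701e25a9 : _root_.True := by
  try have : _root_.True := by simp only [_root_.Cfsg.Agent.H925.Rs.preS.eq_1]
  exact _root_.True.intro
end

-- part: H925/Rs/Pair
section
set_option linter.all false
open scoped Cfsg.Agent.FastGrp

/-!
# S3691: the two factors in the isometry group of an alternating form (helper925)

* `Pair B p f m A C` : the numerical and geometric facts on the preimages `A`, `C` of the two factors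
* these facts are proved for the factors of a group with socle `PSp_2m(q)` in `H925/Rs/PairFac.lean`
-/

set_option autoImplicit false
set_option linter.unusedSectionVars false

namespace Cfsg.Agent.H925.Rs

open Cfsg Matrix Module Subgroup Cfsg.Agent.H454.Reg Cfsg.Agent.H449.Reg Cfsg.Agent.ClassicalGeometry.SympBasic
  Cfsg.Agent.ClassicalGeometry.SympAutSemi

universe u v w

/-- **the preimages of the two factors** -/
structure Pair {F : Type v} [Field F] {V : Type w} [AddCommGroup V] [Module F V] (B : LinearMap.BilinForm F V) (p f m : ℕ)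
    (A C : Subgroup (V ≃ₗ[F] V)) : Prop where
  prime : p.Prime
  hf : 1 ≤ f
  card : Nat.card F = p ^ f
  dim : finrank F V = 2 * m
  alt : ∀ x, B x x = 0
  nondeg : ∀ x, (∀ y, B x y = 0) → x = 0
  leA : A ≤ Isos B
  leC : C ≤ Isos B
  neA : ¬ Isos B ≤ A
  neC : ¬ Isos B ≤ C
  conj : ∀ x ∈ A, ∀ g ∈ Isos B, g * x * g⁻¹ ∈ C → ∃ a : F, ∀ v, x v = a • v
  val : ∀ r : ℕ, r.Prime → r ≠ 2 → ¬ r ∣ f →
    (Nat.card A).factorization r + (Nat.card C).factorization r = (Nat.card (Isos B)).factorization r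
  valp : (Nat.card (Isos B)).factorization p ≤ (Nat.card A).factorization p + (Nat.card C).factorization p + f.factorization p
  valp' : (Nat.card A).factorization p + (Nat.card C).factorization p ≤ (Nat.card (Isos B)).factorization p
  dvd : Nat.card A * Nat.card C ∣ 2 * Nat.card (Isos B)

/-- **the group induced by `C` on `S^⊥ / S` is everything**, `S` a `C`-invariant point or nondegenerate plane -/
structure Full {F : Type v} [Field F] {V : Type w} [AddCommGroup V] [Module F V] (B : LinearMap.BilinForm F V)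
    (C : Subgroup (V ≃ₗ[F] V)) (S : Submodule F V) : Prop where
  inv : ∀ c ∈ C, ∀ w ∈ S, c w ∈ S
  dim : finrank F S = 1 ∨ (finrank F S = 2 ∧ ∀ s ∈ S, s ≠ 0 → ∃ t ∈ S, B s t ≠ 0)
  full : ∀ y ∈ Isos B, (∀ w ∈ S, y w ∈ S) → ∃ c ∈ C, ∀ u, (∀ s ∈ S, B u s = 0) → c u - y u ∈ S

section gen

variable {F : Type v} [Field F] {V : Type w} [AddCommGroup V] [Module F V] {B : LinearMap.BilinForm F V} {p f m : ℕ}
    {A C : Subgroup (V ≃ₗ[F] V)}

theorem inv_conj_scalar {x g : V ≃ₗ[F] V} {a : F} (h : ∀ v, x v = a • v) : ∀ v, (g * x * g⁻¹) v = a • v := by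
  intro v
  change g (x (g⁻¹ v)) = _
  rw [h, map_smul]
  congr 1
  exact g.apply_symm_apply v

theorem Pair.symm (h : Pair B p f m A C) : Pair B p f m C A where
  prime := h.prime
  hf := h.hf
  card := h.card
  dim := h.dim
  alt := h.alt
  nondeg := h.nondeg
  leA := h.leC
  leC := h.leA
  neA := h.neC
  neC := h.neA
  conj := by
    intro x hx g hg hgx
    have h1 : g⁻¹ * (g * x * g⁻¹) * g⁻¹⁻¹ = x := by group
    obtain ⟨a, ha⟩ := h.conj _ hgx g⁻¹ ((Isos B).inv_mem hg) (by rw [h1]; exact hx)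
    refine ⟨a, fun v => ?_⟩
    have h2 := inv_conj_scalar (g := g⁻¹) ha v
    rwa [h1] at h2
  val := fun r hr h2 hf => by rw [add_comm]; exact h.val r hr h2 hf
  valp := by have := h.valp; omega
  valp' := by have := h.valp'; omega
  dvd := by rw [mul_comm]; exact h.dvd

theorem nondeg_of (hB : ∀ x, B x x = 0) (hnd : ∀ x, (∀ y, B x y = 0) → x = 0) : B.Nondegenerate := by
  have hsw : ∀ x y, B x y = - B y x := by
    intro x y
    have h1 := hB (x + y)
    simp only [map_add, LinearMap.add_apply, hB, zero_add, add_zero] at h1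
    linear_combination h1
  refine ⟨hnd, fun x hx => hnd x fun y => ?_⟩
  rw [hsw, hx, neg_zero]

theorem card_Isos [Fintype F] [FiniteDimensional F V] (hB : ∀ x, B x x = 0) (hnd : ∀ x, (∀ y, B x y = 0) → x = 0)
    (hr : finrank F V = 2 * m) :
    Nat.card (Isos B) = Fintype.card F ^ (m ^ 2) * ∏ i ∈ Finset.range m, (Fintype.card F ^ (2 * (i + 1)) - 1) :=
  H727.GW.card_isomGroup B hB hnd hr

end gen

end Cfsg.Agent.H925.Rs
end

-- part: H659/Rs/Box
section
set_option linter.all false

/-!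
# S3691, `PSp_6(2^f)` and `PSp_8(2^f)`: the boxes (helper659)

`q = 2 ^ f`.  `Pm n r` : `r` is a prime and `2` has order `n` modulo `r` (a primitive prime divisor of `2 ^ n - 1`); the prime `r_k`
of the plan is `Pm (k * f) r`.  Every box is a `Prop`; a proof is a theorem `box... : Box...`.
-/

set_option autoImplicit false

namespace Cfsg.Agent.H659.Rs

open Cfsg Cfsg.Geo Module
open scoped MatrixGroups Matrix

universe u

/-- `r` is a prime with `orderOf 2 = n` modulo `r` -/
structure Pm (n r : ℕ) : Prop where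
  prime : r.Prime
  ord : orderOf ((2 : ℕ) : ZMod r) = n

/-- the exponent of 2 in the order of a group -/
noncomputable abbrev v2 {G : Type*} [Group G] (R : Subgroup G) : ℕ := (Nat.card R).factorization 2

/-- (PSL2) subgroups of `PSL_2(2^g)` with a primitive prime divisor of `2^(2g) - 1` -/
def BoxPsl2 : Prop :=
  ∀ {S : Type} [Group S] [Finite S] {K : Type} [Field K] [Fintype K] {g r : ℕ}, 8 ≤ g → Fintype.card K = 2 ^ g →
    Nonempty (S ≃* Matrix.ProjectiveSpecialLinearGroup (Fin 2) K) → Pm (2 * g) r → ∀ R : Subgroup S, r ∣ Nat.card R →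
    R = ⊤ ∨ Nat.card R ∣ 2 * (2 ^ g + 1)

/-- (G2) subgroups of `G_2(2^f)` with `r_6` and `r_3` -/
def BoxG2 : Prop :=
  ∀ {S : Type} [Group S] [Finite S] {F : Type} [Field F] [Fintype F] {f r s : ℕ}, 4 ≤ f → Fintype.card F = 2 ^ f →
    Nonempty (S ≃* Lie.G2 F) → Pm (6 * f) r → Pm (3 * f) s → ∀ R : Subgroup S, r ∣ Nat.card R → s ∣ Nat.card R → R = ⊤

/-- `L` is one of the two types of subgroups `SL_2(q^2)` of `Sp_4(q)`; the involutions of `L` have rank 2 -/
structure IsL {F : Type} [Field F] [Fintype F] (L : Subgroup (GL (Fin 2 ⊕ Fin 2) F)) : Prop where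
  le : L ≤ spGL 2 F
  iso : ∃ (K : Type) (_ : Field K) (_ : Fintype K), Fintype.card K = Fintype.card F ^ 2 ∧
    Nonempty (L ≃* Matrix.ProjectiveSpecialLinearGroup (Fin 2) K)
  rank : ∀ x ∈ L, x * x = 1 → x ≠ 1 → ((x : Matrix (Fin 2 ⊕ Fin 2) (Fin 2 ⊕ Fin 2) F) - 1).rank = 2

/-- (Sp4) subgroups of `Sp_4(2^f)` with `r_4` -/
def BoxSp4 : Prop :=
  ∀ {F : Type} [Field F] [Fintype F] {f r : ℕ}, 4 ≤ f → Fintype.card F = 2 ^ f → Pm (4 * f) r →
    ∀ R : Subgroup (GL (Fin 2 ⊕ Fin 2) F), R ≤ spGL 2 F → r ∣ Nat.card R →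
    R = spGL 2 F ∨
    (∃ L : Subgroup (GL (Fin 2 ⊕ Fin 2) F), IsL L ∧ (∀ x ∈ R, ∀ y ∈ L, x * y * x⁻¹ ∈ L) ∧
      ∀ x ∈ R, ∀ y ∈ R, x ∉ L → y ∉ L → x⁻¹ * y ∈ L) ∨
    Nat.card R ∣ (2 ^ f) ^ 2 * ((2 ^ f) ^ 2 + 1) * (2 ^ f - 1)

/-- (Ext) the normaliser of a self-adjoint field of degree `b` in `Sp_2bk(q)` -/
def BoxExt : Prop :=
  ∀ {F : Type} [Field F] [Fintype F] {m b k : ℕ}, b.Prime → 1 ≤ k → m = b * k →
    ∀ K : Subalgebra F (Matrix (Fin m ⊕ Fin m) (Fin m ⊕ Fin m) F), IsFieldSubalgebra b K →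
    IsSelfAdjointFor (sympForm m F) K → (∀ k ∈ K, ∀ v, sympForm m F (Matrix.mulVec k v) v = 0) →
    ∀ R : Subgroup (GL (Fin m ⊕ Fin m) F), R ≤ spGL m F → R ≤ subalgebraNormalizer K →
    ∃ (E : Type) (_ : Field E) (_ : Fintype E) (R1 : Subgroup (GL (Fin k ⊕ Fin k) E)), Fintype.card E = Fintype.card F ^ b ∧
      R1 ≤ spGL k E ∧ Nat.card R ∣ b * Nat.card R1 ∧ Nat.card R1 ∣ Nat.card R

/-- (O6+) subgroups of `O_6^+(2^f)` with `r_4` -/
def BoxO6p : Prop :=
  ∀ {F : Type} [Field F] [Fintype F] {f r s : ℕ}, 4 ≤ f → Fintype.card F = 2 ^ f → Pm (4 * f) r → Pm (3 * f) s →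
    ∀ Q : (Fin 3 ⊕ Fin 3 → F) → F, IsNondegenerateQuadraticForm Q → IsPlusTypeOn Q ⊤ →
    ∀ R : Subgroup (GL (Fin 3 ⊕ Fin 3) F), R ≤ isometryGroup F Q → r ∣ Nat.card R →
    omegaGL Q ≤ R ∨ (¬ s ∣ Nat.card R ∧ (v2 R ≤ 2 * f + 2 ∨ (4 * f ≤ v2 R ∧ v2 R ≤ 4 * f + 1)))

/-- (O6-) subgroups of `O_6^-(2^f)` with `r_4` or `r_6` -/
def BoxO6m : Prop :=
  ∀ {F : Type} [Field F] [Fintype F] {f : ℕ}, 4 ≤ f → Fintype.card F = 2 ^ f →
    ∀ Q : (Fin 3 ⊕ Fin 3 → F) → F, IsNondegenerateQuadraticForm Q → ¬ IsPlusTypeOn Q ⊤ →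
    ∀ R : Subgroup (GL (Fin 3 ⊕ Fin 3) F), R ≤ isometryGroup F Q →
    (∀ r s, Pm (4 * f) r → Pm (6 * f) s → r ∣ Nat.card R → omegaGL Q ≤ R ∨ (¬ s ∣ Nat.card R ∧ (v2 R ≤ 2 * f + 2 ∨
      (4 * f ≤ v2 R ∧ (v2 R ≤ 4 * f + 1 ∨ Nat.card R ∣ 2 * ((2 ^ f) ^ 6 * ((2 ^ f) ^ 4 - 1) * (2 ^ f - 1))))))) ∧
    (∀ s, Pm (6 * f) s → s ∣ Nat.card R → omegaGL Q ≤ R ∨
      Nat.card R ∣ 2 * ((2 ^ f) ^ 3 * (2 ^ f + 1) * ((2 ^ f) ^ 2 - 1) * ((2 ^ f) ^ 3 + 1)))

/-- (O8-) subgroups of `O_8^-(2^f)` -/
def BoxO8m : Prop :=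
  ∀ {F : Type} [Field F] [Fintype F] {f : ℕ}, 4 ≤ f → Fintype.card F = 2 ^ f →
    ∀ Q : (Fin 4 ⊕ Fin 4 → F) → F, IsNondegenerateQuadraticForm Q → ¬ IsPlusTypeOn Q ⊤ →
    ∀ R : Subgroup (GL (Fin 4 ⊕ Fin 4) F), R ≤ isometryGroup F Q →
    (∀ r s, Pm (8 * f) r → Pm (6 * f) s → r ∣ Nat.card R → s ∣ Nat.card R → omegaGL Q ≤ R) ∧
    (∀ r, Pm (8 * f) r → r ∣ Nat.card R → omegaGL Q ≤ R ∨ (Nat.card R ∣ 4 * ((2 ^ f) ^ 4 * ((2 ^ f) ^ 8 - 1)) ∧
      (v2 R < 4 * f → Nat.card R ∣ 16 * ((2 ^ f) ^ 4 + 1)))) ∧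
    (∀ s t, Pm (6 * f) s → Pm (3 * f) t → s ∣ Nat.card R → t ∣ Nat.card R →
      omegaGL Q ≤ R ∨ v2 R ≤ 6 * f + 1 + f.factorization 2 ∨ (9 * f ≤ v2 R ∧ v2 R ≤ 9 * f + 1))

/-- (O8+) subgroups of `O_8^+(2^f)` -/
def BoxO8p : Prop :=
  ∀ {F : Type} [Field F] [Fintype F] {f : ℕ}, 4 ≤ f → Fintype.card F = 2 ^ f →
    ∀ Q : (Fin 4 ⊕ Fin 4 → F) → F, IsNondegenerateQuadraticForm Q → IsPlusTypeOn Q ⊤ →
    ∀ R : Subgroup (GL (Fin 4 ⊕ Fin 4) F), R ≤ isometryGroup F Q →
    ∀ s t, Pm (6 * f) s → Pm (3 * f) t → s ∣ Nat.card R → t ∣ Nat.card R →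
      omegaGL Q ≤ R ∨ v2 R ≤ 6 * f + 2 ∨ (9 * f ≤ v2 R ∧ v2 R ≤ 9 * f + 1)

/-- (P1) the stabiliser of a point in `Sp_2m(q)`, `q` even -/
def BoxP1 : Prop :=
  ∀ {F : Type} [Field F] [Fintype F] {m f r : ℕ}, 3 ≤ m → 1 ≤ f → Fintype.card F = 2 ^ f → Pm ((2 * m - 2) * f) r →
    ∀ v : Fin m ⊕ Fin m → F, v ≠ 0 → ∀ C : Subgroup (GL (Fin m ⊕ Fin m) F), C ≤ spGL m F →
    C ≤ subspaceStabilizer (Submodule.span F {v}) → r ∣ Nat.card C →
    ∃ (C1 : Subgroup (GL (Fin (m - 1) ⊕ Fin (m - 1)) F)) (a t : ℕ), C1 ≤ spGL (m - 1) F ∧ Nat.card C = a * t * Nat.card C1 ∧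
      t ∣ 2 ^ f - 1 ∧ (∃ i, a = 2 ^ i) ∧ (a ≤ 2 ^ f ∨ (2 ^ f) ^ (2 * m - 2) ≤ a)

/-- (N2) the stabiliser of a nondegenerate 2-space in `Sp_2m(q)` -/
def BoxN2 : Prop :=
  ∀ {F : Type} [Field F] [Fintype F] {m : ℕ}, 3 ≤ m →
    ∀ W : Submodule F (Fin m ⊕ Fin m → F), finrank F W = 2 → IsNondegenerateOn (sympForm m F) W →
    ∀ C : Subgroup (GL (Fin m ⊕ Fin m) F), C ≤ spGL m F → C ≤ subspaceStabilizer W →
    ∃ (C1 : Subgroup (GL (Fin (m - 1) ⊕ Fin (m - 1)) F)) (a : ℕ), C1 ≤ spGL (m - 1) F ∧ Nat.card C = a * Nat.card C1 ∧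
      a ∣ Fintype.card F * (Fintype.card F ^ 2 - 1)

end Cfsg.Agent.H659.Rs
end

-- part: H659/Rs/Box2
section
set_option linter.all false

/-!
# S3691, `PSp_6(2^f)` and `PSp_8(2^f)`: more boxes (helper659)

* `Over3a`, `Over3b`, `Over4a`, `Over4b` : the maximal subgroups of `Sp_6(q)`, `Sp_8(q)` with the large primes (S5805, S5806, S5823, S5824)
* `preG e X` : the preimage of `X ∩ T` in `spGL m F`;  `Pr` : a pair of subgroups of `spGL m F`
* `BoxPair` : the pair of an exact factorization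
* `BoxSize` : the bounds for `f`
* `BoxOnly` : a primitive prime divides one factor only
-/

set_option autoImplicit false

namespace Cfsg.Agent.H659.Rs

open Cfsg Cfsg.Geo Module Cfsg.Agent.H454.Reg Cfsg.Agent.H925.Rs
open Cfsg.Agent.LieClassical.OrthFinite (glEquiv)
open scoped MatrixGroups Matrix

universe u

/-- the maximal overgroups of `r_6` in `Sp_6(q)` -/
def Over3a : Prop :=
  ∀ {F : Type} [Field F] [Fintype F] {f r : ℕ}, 4 ≤ f → Fintype.card F = 2 ^ f → Pm (6 * f) r →
    ∀ H : Subgroup (GL (Fin 3 ⊕ Fin 3) F), IsMaximalIn (spGL 3 F) H → r ∣ Nat.card H →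
    (∃ K : Subalgebra F (Matrix (Fin 3 ⊕ Fin 3) (Fin 3 ⊕ Fin 3) F), IsFieldSubalgebra 3 K ∧
      IsSelfAdjointFor (sympForm 3 F) K ∧ (∀ k ∈ K, ∀ v, sympForm 3 F (Matrix.mulVec k v) v = 0) ∧ H ≤ subalgebraNormalizer K) ∨
    (∃ Q : (Fin 3 ⊕ Fin 3 → F) → F, IsNondegenerateQuadraticForm Q ∧ (∀ u v, QuadraticMap.polar Q u v = sympForm 3 F u v) ∧
      ¬ IsPlusTypeOn Q ⊤ ∧ H ≤ isometryGroup F Q) ∨
    (∃ P, IsResidualCore H P ∧ Nonempty ((P ⧸ (scalars (Fin 3 ⊕ Fin 3) F).subgroupOf P) ≃* Lie.G2 F))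

/-- the maximal overgroups of `r_4` in `Sp_6(q)` -/
def Over3b : Prop :=
  ∀ {F : Type} [Field F] [Fintype F] {f r : ℕ}, 4 ≤ f → Fintype.card F = 2 ^ f → Pm (4 * f) r →
    ∀ H : Subgroup (GL (Fin 3 ⊕ Fin 3) F), IsMaximalIn (spGL 3 F) H → r ∣ Nat.card H →
    (∃ v : Fin 3 ⊕ Fin 3 → F, v ≠ 0 ∧ H ≤ subspaceStabilizer (Submodule.span F {v})) ∨
    (∃ W : Submodule F (Fin 3 ⊕ Fin 3 → F), finrank F W = 2 ∧ IsNondegenerateOn (sympForm 3 F) W ∧ H ≤ subspaceStabilizer W) ∨
    (∃ Q : (Fin 3 ⊕ Fin 3 → F) → F, IsNondegenerateQuadraticForm Q ∧ (∀ u v, QuadraticMap.polar Q u v = sympForm 3 F u v) ∧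
      H ≤ isometryGroup F Q)

/-- the maximal overgroups of `r_8` in `Sp_8(q)` -/
def Over4a : Prop :=
  ∀ {F : Type} [Field F] [Fintype F] {f r : ℕ}, 4 ≤ f → Fintype.card F = 2 ^ f → Pm (8 * f) r →
    ∀ H : Subgroup (GL (Fin 4 ⊕ Fin 4) F), IsMaximalIn (spGL 4 F) H → r ∣ Nat.card H →
    (∃ K : Subalgebra F (Matrix (Fin 4 ⊕ Fin 4) (Fin 4 ⊕ Fin 4) F), IsFieldSubalgebra 2 K ∧
      IsSelfAdjointFor (sympForm 4 F) K ∧ (∀ k ∈ K, ∀ v, sympForm 4 F (Matrix.mulVec k v) v = 0) ∧ H ≤ subalgebraNormalizer K) ∨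
    (∃ Q : (Fin 4 ⊕ Fin 4 → F) → F, IsNondegenerateQuadraticForm Q ∧ (∀ u v, QuadraticMap.polar Q u v = sympForm 4 F u v) ∧
      ¬ IsPlusTypeOn Q ⊤ ∧ H ≤ isometryGroup F Q)

/-- the maximal overgroups of `r_6` and `r_3` in `Sp_8(q)` -/
def Over4b : Prop :=
  ∀ {F : Type} [Field F] [Fintype F] {f r s : ℕ}, 4 ≤ f → Fintype.card F = 2 ^ f → Pm (6 * f) r → Pm (3 * f) s →
    ∀ H : Subgroup (GL (Fin 4 ⊕ Fin 4) F), IsMaximalIn (spGL 4 F) H → r ∣ Nat.card H → s ∣ Nat.card H →
    (∃ v : Fin 4 ⊕ Fin 4 → F, v ≠ 0 ∧ H ≤ subspaceStabilizer (Submodule.span F {v})) ∨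
    (∃ W : Submodule F (Fin 4 ⊕ Fin 4 → F), finrank F W = 2 ∧ IsNondegenerateOn (sympForm 4 F) W ∧ H ≤ subspaceStabilizer W) ∨
    (∃ Q : (Fin 4 ⊕ Fin 4 → F) → F, IsNondegenerateQuadraticForm Q ∧ (∀ u v, QuadraticMap.polar Q u v = sympForm 4 F u v) ∧
      H ≤ isometryGroup F Q)

/-- the preimage of `X ∩ T` in `spGL m F` -/
noncomputable def preG {G : Type*} [Group G] {T : Subgroup G} {F : Type} [Field F] {m : ℕ} (e : T ≃* PSp m F) (X : Subgroup G) :
    Subgroup (GL (Fin m ⊕ Fin m) F) :=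
  (preS e X).comap (glEquiv (Fin m ⊕ Fin m) F).toMonoidHom

/-- a pair of subgroups of `spGL m F`, `|F| = 2 ^ f` -/
structure Pr (m f : ℕ) {F : Type} [Field F] [Fintype F] (A C : Subgroup (GL (Fin m ⊕ Fin m) F)) : Prop where
  le1 : A ≤ spGL m F
  le2 : C ≤ spGL m F
  ne1 : A ≠ spGL m F
  ne2 : C ≠ spGL m F
  card : ∃ e, e ∣ f ∧ Nat.card A * Nat.card C * e = Nat.card (spGL m F)
  conj : ∀ x ∈ A, ∀ g ∈ spGL m F, g * x * g⁻¹ ∈ C → x = 1

/-- the pair of an exact factorization -/
def BoxPair : Prop :=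
  ∀ {G : Type u} [Group G] [Finite G] {F : Type} [Field F] [Fintype F] {m f : ℕ}, 3 ≤ m → 1 ≤ f → Fintype.card F = 2 ^ f →
    ∀ (T X Y : Subgroup G) (e : T ≃* PSp m F), Fac T X Y → Pr m f (preG e X) (preG e Y)

/-- the bounds for `f` -/
def BoxSize : Prop :=
  ∀ {G : Type u} [Group G] [Finite G] {F : Type} [Field F] [Fintype F] {m f : ℕ}, Fintype.card F = 2 ^ f →
    ∀ (T H B : Subgroup G), Ex T H B → Nonempty (T ≃* PSp m F) → (m = 3 → 7 ≤ f) ∧ (m = 4 → 4 ≤ f)

/-- a primitive prime of order `k > m`, `k` even, divides exactly one factor -/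
def BoxOnly : Prop :=
  ∀ {F : Type} [Field F] [Fintype F] {m f k r : ℕ}, 3 ≤ m → 1 ≤ f → Fintype.card F = 2 ^ f → Even k → m < k → k ≤ 2 * m →
    Pm (k * f) r → ∀ A C : Subgroup (GL (Fin m ⊕ Fin m) F), Pr m f A C →
    (r ∣ Nat.card A ∧ ¬ r ∣ Nat.card C) ∨ (r ∣ Nat.card C ∧ ¬ r ∣ Nat.card A)

end Cfsg.Agent.H659.Rs
end

-- part: H659/Rs/Box3
section
set_option linter.all false

/-!
# S3691, `PSp_6(2^f)` and `PSp_8(2^f)`: the cases (helper659)

* `NoOm m C` : `C` contains no `Ω_2m^±(q)`;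
* `BoxG2i` : the normaliser of `G_2(q)` in `Sp_6(q)`;
* `CaseA3`, `CaseB3` : `m = 3`, `A ≤ N(K)`, `A ≥ G_2(q)`;
* `Sp6Lem` : subgroups of `Sp_6(q)` with `r_6`, `r_3`;
* `M4A` : `m = 4`, the factor with `r_8`;  `M4B` : the factor with `r_6` and `r_3`;
* `main3`, `main4`.
-/

set_option autoImplicit false

namespace Cfsg.Agent.H659.Rs

open Cfsg Cfsg.Geo Module
open scoped MatrixGroups Matrix

/-- `C` contains no orthogonal group `Ω_2m^±(q)` -/
def NoOm (m : ℕ) {F : Type} [Field F] [Fintype F] (C : Subgroup (GL (Fin m ⊕ Fin m) F)) : Prop :=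
  ∀ Q : (Fin m ⊕ Fin m → F) → F, IsNondegenerateQuadraticForm Q → (∀ u v, QuadraticMap.polar Q u v = sympForm m F u v) →
    ¬ omegaGL Q ≤ C

/-- (G2i) the normaliser of `G_2(q)` in `Sp_6(q)` -/
def BoxG2i : Prop :=
  ∀ {F : Type} [Field F] [Fintype F] {f : ℕ}, 4 ≤ f → Fintype.card F = 2 ^ f →
    ∀ H P : Subgroup (GL (Fin 3 ⊕ Fin 3) F), H ≤ spGL 3 F → IsResidualCore H P →
    Nonempty ((P ⧸ (scalars (Fin 3 ⊕ Fin 3) F).subgroupOf P) ≃* Lie.G2 F) →
    Nat.card P = (2 ^ f) ^ 6 * ((2 ^ f) ^ 2 - 1) * ((2 ^ f) ^ 6 - 1) ∧ ∃ i, Nat.card H = i * Nat.card P ∧ i ∣ f ∧ Odd i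

/-- (B3) `m = 3`: `A` contains `G_2(q)` -/
def CaseB3 : Prop :=
  ∀ {F : Type} [Field F] [Fintype F] {f r s t : ℕ}, 7 ≤ f → Fintype.card F = 2 ^ f → Pm (6 * f) r → Pm (3 * f) s →
    Pm (4 * f) t → ∀ A C : Subgroup (GL (Fin 3 ⊕ Fin 3) F), Pr 3 f A C → NoOm 3 C →
    r ∣ Nat.card A → s ∣ Nat.card A → t ∣ Nat.card C →
    ∀ H P : Subgroup (GL (Fin 3 ⊕ Fin 3) F), IsMaximalIn (spGL 3 F) H → A ≤ H → IsResidualCore H P →
    Nonempty ((P ⧸ (scalars (Fin 3 ⊕ Fin 3) F).subgroupOf P) ≃* Lie.G2 F) → False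

/-- (A3) `m = 3`: `A` normalises a field of degree 3 -/
def CaseA3 : Prop :=
  ∀ {F : Type} [Field F] [Fintype F] {f r s t : ℕ}, 7 ≤ f → Fintype.card F = 2 ^ f → Pm (6 * f) r → Pm (3 * f) s →
    Pm (4 * f) t → ∀ A C : Subgroup (GL (Fin 3 ⊕ Fin 3) F), Pr 3 f A C → NoOm 3 C →
    r ∣ Nat.card A → s ∣ Nat.card A → t ∣ Nat.card C →
    ∀ K : Subalgebra F (Matrix (Fin 3 ⊕ Fin 3) (Fin 3 ⊕ Fin 3) F), IsFieldSubalgebra 3 K →
    IsSelfAdjointFor (sympForm 3 F) K → (∀ k ∈ K, ∀ v, sympForm 3 F (Matrix.mulVec k v) v = 0) → A ≤ subalgebraNormalizer K →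
    False

/-- subgroups of `Sp_6(q)` with `r_6` and `r_3` -/
def Sp6Lem : Prop :=
  ∀ {F : Type} [Field F] [Fintype F] {f r s : ℕ}, 4 ≤ f → Fintype.card F = 2 ^ f → Pm (6 * f) r → Pm (3 * f) s →
    ∀ R : Subgroup (GL (Fin 3 ⊕ Fin 3) F), R ≤ spGL 3 F → r ∣ Nat.card R → s ∣ Nat.card R →
    R = spGL 3 F ∨ (3 * f ≤ v2 R ∧ v2 R ≤ 6 * f ∧ ∀ t, Pm (4 * f) t → ¬ t ∣ Nat.card R)

/-- `m = 4`: the factor with `r_8` -/
def M4A : Prop :=
  ∀ {F : Type} [Field F] [Fintype F] {f r : ℕ}, 4 ≤ f → Fintype.card F = 2 ^ f → Pm (8 * f) r →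
    ∀ A : Subgroup (GL (Fin 4 ⊕ Fin 4) F), A ≤ spGL 4 F → A ≠ spGL 4 F → NoOm 4 A → r ∣ Nat.card A →
    (∃ j, j ∣ 2 ∧ Nat.card A = j * ((2 ^ f) ^ 8 * ((2 ^ f) ^ 4 - 1) * ((2 ^ f) ^ 8 - 1))) ∨
    (Nat.card A ∣ 4 * ((2 ^ f) ^ 4 * ((2 ^ f) ^ 8 - 1)) ∧
      (v2 A < 4 * f → Nat.card A ∣ 16 * ((2 ^ f) ^ 4 + 1) ∨ Nat.card A ∣ 2 * ((2 ^ f) ^ 4 * ((2 ^ f) ^ 4 + 1) * ((2 ^ f) ^ 2 - 1))))

/-- `m = 4`: the factor with `r_6` and `r_3`; `C₁` a subgroup of `Sp_6(q)` -/
def M4B : Prop :=
  ∀ {F : Type} [Field F] [Fintype F] {f r s : ℕ}, 4 ≤ f → Fintype.card F = 2 ^ f → Pm (6 * f) r → Pm (3 * f) s →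
    ∀ C : Subgroup (GL (Fin 4 ⊕ Fin 4) F), C ≤ spGL 4 F → C ≠ spGL 4 F → NoOm 4 C → r ∣ Nat.card C → s ∣ Nat.card C →
    v2 C ≤ 6 * f + 2 + f.factorization 2 ∨ (9 * f ≤ v2 C ∧ v2 C ≤ 9 * f + 1) ∨
    (∃ (C1 : Subgroup (GL (Fin 3 ⊕ Fin 3) F)) (a : ℕ), C1 ≤ spGL 3 F ∧ Nat.card C = a * Nat.card C1 ∧
      a ∣ 2 ^ f * ((2 ^ f) ^ 2 - 1) ∧ r ∣ Nat.card C1 ∧ s ∣ Nat.card C1) ∨
    (∃ (C1 : Subgroup (GL (Fin 3 ⊕ Fin 3) F)) (a t : ℕ), C1 ≤ spGL 3 F ∧ Nat.card C = a * t * Nat.card C1 ∧
      t ∣ 2 ^ f - 1 ∧ (∃ i, a = 2 ^ i) ∧ (a ≤ 2 ^ f ∨ (2 ^ f) ^ 6 ≤ a) ∧ r ∣ Nat.card C1 ∧ s ∣ Nat.card C1)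

/-- `m = 3`, no `Pr` pair -/
def Main3 : Prop :=
  ∀ {F : Type} [Field F] [Fintype F] {f : ℕ}, 7 ≤ f → Fintype.card F = 2 ^ f →
    ∀ A C : Subgroup (GL (Fin 3 ⊕ Fin 3) F), Pr 3 f A C → NoOm 3 A → NoOm 3 C → False

/-- `m = 4`, no `Pr` pair -/
def Main4 : Prop :=
  ∀ {F : Type} [Field F] [Fintype F] {f : ℕ}, 4 ≤ f → Fintype.card F = 2 ^ f →
    ∀ A C : Subgroup (GL (Fin 4 ⊕ Fin 4) F), Pr 4 f A C → NoOm 4 A → NoOm 4 C → False

end Cfsg.Agent.H659.Rs
end

-- part: H964/Rg/Fld
section
set_option linter.all false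
open scoped Cfsg.Agent.FastGrp

/-!
# S3691, orthogonal groups: fields of matrices normalised by a group of isometries (helper964)

* `Iso.map_le` : an endomorphism commuting with an isometry `x` of prime order `r`, `e = ord_r(q)` odd, `dim V < 4 e`, preserves
  the totally singular subspace `W` of dimension `e`;
* `ext_odd` : if such an element normalises a field of degree `s`, then `s ∣ e` (or `r = s`).
-/

set_option autoImplicit false

namespace Cfsg.Agent.H964.Rg

open Module QuadraticMap Cfsg.Geo Cfsg.Agent.LieClassical.OrthCore Cfsg.Agent.H955 Cfsg.Agent.H954.TSing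
  Cfsg.Agent.H884.El
open Cfsg.Agent.H951 (fx cm Inv)
open scoped MatrixGroups Matrix

universe u v

section Abs

variable {F : Type u} [Field F] [Fintype F] {V : Type v} [AddCommGroup V] [Module F V] [FiniteDimensional F V]
  {Q : QuadraticForm F V} {x : Module.End F V} {r e : ℕ}

/-- `J` commutes with an isometry whose commutator space is a sum of two odd-dimensional irreducible totally singular
subspaces: `J` preserves the summand. -/
theorem map_le (h : Iso Q x r) (hQ : Nondeg Q) (hr : PP (Nat.card F) e r) (he : Odd e)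
    (he1 : 3 ≤ e) (hcm : finrank F (cm x) = 2 * e) {W : Submodule F V} (hWcm : W ≤ cm x) (hW : Inv x W) (hWs : TS Q W)
    (hWd : finrank F W = e) {J : Module.End F V} (hJx : ∀ v, J (x v) = x (J v)) : ∀ w ∈ W, J w ∈ W := by
  have hprime := Fact.mk h.prime
  have hfin : Finite V := Module.finite_of_finite F
  have hWne : W ≠ ⊥ := by
    rintro rfl
    rw [finrank_bot] at hWd
    omega
  -- `W` is irreducible
  have hirr : ∀ U : Submodule F V, U ≤ W → Inv x U → U = ⊥ ∨ U = W := by
    intro U hU hUi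
    have h1 := h.dvd hr hUi
    rw [inf_eq_left.2 (hU.trans hWcm)] at h1
    have h2 := Submodule.finrank_mono hU
    rcases Nat.eq_zero_or_pos (finrank F U) with h0 | h0
    · exact Or.inl (Submodule.finrank_eq_zero.1 h0)
    · right
      have := Nat.le_of_dvd h0 h1
      exact Submodule.eq_of_le_of_finrank_eq hU (by omega)
  by_contra hJW
  -- the form `polar u (J v)`
  let c : LinearMap.BilinForm F V := LinearMap.BilinForm.comp (polarBilin Q) LinearMap.id J
  have hc : ∀ u v, c u v = polar Q u (J v) := fun u v => rfl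
  have hinv : ∀ u v, c (x u) (x v) = c u v := by
    intro u v
    rw [hc, hc, hJx, polar_isom h.iso]
  have hnd : ∀ v ∈ W, (∀ u ∈ W, c u v = 0) → v = 0 := by
    let N : Submodule F V :=
      { carrier := {v | v ∈ W ∧ ∀ u ∈ W, c u v = 0}
        add_mem' := fun {a b} ha hb => ⟨W.add_mem ha.1 hb.1, fun u hu => by
          rw [map_add, ha.2 u hu, hb.2 u hu, add_zero]⟩
        zero_mem' := ⟨W.zero_mem, fun u _ => map_zero _⟩
        smul_mem' := fun a v hv => ⟨W.smul_mem a hv.1, fun u hu => by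
          rw [map_smul, hv.2 u hu, smul_zero]⟩ }
    have hNW : N ≤ W := fun v hv => hv.1
    have hNi : Inv x N := by
      rintro v ⟨hv, hv2⟩
      refine ⟨hW v hv, fun u hu => ?_⟩
      -- `u = x u'`
      obtain ⟨u', hu', rfl⟩ : ∃ u' ∈ W, x u' = u := by
        refine ⟨(x ^ (r - 1)) u, hW.pow _ u hu, ?_⟩
        rw [← Module.End.mul_apply, ← pow_succ', Nat.sub_add_cancel h.prime.one_le, h.pow]
        rfl
      rw [hinv]
      exact hv2 u' hu'
    rcases hirr N hNW hNi with hN | hN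
    · intro v hv hv2
      have : v ∈ N := ⟨hv, hv2⟩
      rw [hN] at this
      exact (Submodule.mem_bot F).1 this
    · exfalso
      apply hJW
      -- `J W` lies in the perp of `W` inside `cm x`
      have hperp : ∀ w ∈ W, ∀ u ∈ W, polar Q u (J w) = 0 := by
        intro w hw u hu
        rw [← hN] at hw
        exact hw.2 u hu
      have hJcm : ∀ w ∈ W, J w ∈ cm x := by
        intro w hw
        obtain ⟨y, hy⟩ := H951.mem_cm.1 (hWcm hw)
        refine H951.mem_cm.2 ⟨J y, ?_⟩
        rw [← hJx, ← map_sub, hy]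
      have hcmn := nondeg_cm hQ h.iso h.ne0 h.pow
      have h1 := finrank_inf_perp hcmn hWcm
      have h2 : W ≤ cm x ⊓ perp Q W := by
        intro w hw
        exact ⟨hWcm hw, fun u hu => hWs.polar hu hw⟩
      have h3 : W = cm x ⊓ perp Q W := by
        apply Submodule.eq_of_le_of_finrank_eq h2
        omega
      intro w hw
      rw [h3]
      exact ⟨hJcm w hw, fun u hu => hperp w hw u hu⟩
  have h2 : r ≠ 2 := by have := h.two_lt; omega
  have hev := H200.LinFix.even_of_irr (l := r) h2 h.ne0 (y := x) h.pow (W := W) hWcm hW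
    (fun s hs hi => hirr s hs hi) hWne c (fun u _ v _ => hinv u v) hnd
  rw [hWd] at hev
  exact (Nat.not_even_iff_odd.2 he) hev

end Abs

section Mat

variable {ι : Type} [Fintype ι] [DecidableEq ι] {F : Type u} [Field F] [Fintype F] {Q : QuadraticForm F (ι → F)}
  {H : Subgroup (GL ι F)} {r e : ℕ}

/-- a field of degree `s` normalised by an isometry of prime order `r`, `ord_r(q)` odd -/
theorem ext_odd_elt (hQ : Nondeg Q) {g : GL ι F} (hiso : Iso Q (lin g) r) (hg1 : g ≠ 1) (hgr : g ^ r = 1)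
    (hr : PP (Nat.card F) e r) (he : Odd e) (he3 : 3 ≤ e) (hn : Fintype.card ι < 4 * e) {s : ℕ} (hs : s.Prime)
    {K : Subalgebra F (Matrix ι ι F)} (hK : IsFieldSubalgebra s K) (hgK : g ∈ subalgebraNormalizer K) :
    r = s ∨ s ∣ e := by
  by_cases hrs : r = s
  · exact Or.inl hrs
  right
  have hne : Nonempty ι := by
    by_contra h
    rw [not_nonempty_iff] at h
    exact hg1 (Subsingleton.elim _ _)
  have hcomm := comm_field hs hK hgK hr.prime hrs hgr
  obtain ⟨hcm, -, W, hWcm, hW, hWs, hWd⟩ := hiso.odd_case hQ (lin_ne_one hg1) hr he (by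
    rw [Module.finrank_fintype_fun_eq_card]; exact hn)
  rw [← hWd]
  refine H906.Cov.dvd_finrank_of_invariant hK W fun k hk w hw => ?_
  have h1 := map_le hiso hQ hr he he3 hcm hWcm hW hWs hWd (J := Matrix.toLin' k) (fun v => by
    rw [lin, Matrix.toLin'_apply, Matrix.toLin'_apply, Matrix.toLin'_apply, Matrix.toLin'_apply,
      Matrix.mulVec_mulVec, Matrix.mulVec_mulVec, hcomm k hk]) w hw
  rwa [Matrix.toLin'_apply] at h1

/-- **a field of degree `s` normalised by a group of isometries** whose order is divisible by a primitive prime divisor of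
`q ^ e - 1`, `e` odd, `n < 4 e` -/
theorem ext_odd (hQ : Nondeg Q) (hH : H ≤ Cfsg.isometryGroup F (⇑Q)) (hr : PP (Nat.card F) e r)
    (he : Odd e) (he3 : 3 ≤ e) (hn : Fintype.card ι < 4 * e) (hdvd : r ∣ Nat.card H) {s : ℕ} (hs : s.Prime)
    {K : Subalgebra F (Matrix ι ι F)} (hK : IsFieldSubalgebra s K) (hHK : H ≤ subalgebraNormalizer K) :
    r = s ∨ s ∣ e := by
  obtain ⟨g, hgH, hiso, hgr, hg1⟩ := exists_elt hH hr (by omega) hdvd
  exact ext_odd_elt hQ hiso hg1 hgr hr he he3 hn hs hK (hHK hgH)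

end Mat

end Cfsg.Agent.H964.Rg
end
end
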